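import Cfsg.Agent.Lib.FT.Stmts
import Cfsg.Agent.Lib.OddOrder.MinSimple
import Cfsg.Agent.Lib.Techniques.SylIn
import Cfsg.Agent.Lib.Base.Rank
import Cfsg.Agent.Lib.Base.Fitting

/-!
Maximal subgroups of a minimal simple group of odd order, uniqueness subgroups, the sets `σ(M)`
and `α(M)`: elementary facts.
-/

set_option autoImplicit false
set_option linter.style.haveILetI false

universe u

namespace CfsgLib.FT

open Cfsg CfsgLib.OddOrder CfsgLib.Techniques Subgroup

variable {G : Type u} [Group G]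

theorem exists_maximal_ge [Finite G] {X : Subgroup G} (h : X ≠ ⊤) :
    ∃ M, IsCoatom M ∧ X ≤ M :=
  (eq_top_or_exists_le_coatom X).resolve_left h

theorem ne_top_of_le_maximal {X M : Subgroup G} (hM : IsCoatom M) (h : X ≤ M) : X ≠ ⊤ :=
  fun e => hM.1 (top_le_iff.1 (e ▸ h))

theorem maximal_solvable (hG : IsMinSimpleOddOrder G) {M : Subgroup G} (hM : IsCoatom M) :
    Group.IsSolvable M :=
  minSimple_solvable hG hM.1

theorem maximal_ne_bot (hG : IsMinSimpleOddOrder G) {M : Subgroup G} (hM : IsCoatom M) :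
    M ≠ ⊥ := by
  rintro rfl
  obtain ⟨x, hx⟩ : ∃ x : G, x ≠ 1 := by
    by_contra h
    push Not at h
    exact hG.2.2.1 ⟨⟨fun a b => by rw [h a, h b]⟩⟩
  have htop : zpowers x = ⊤ := hM.2 _ (bot_lt_iff_ne_bot.2 (by rwa [ne_eq, zpowers_eq_bot]))
  refine hG.2.2.1 ⟨⟨fun a b => ?_⟩⟩
  obtain ⟨i, rfl⟩ := mem_zpowers_iff.1 (htop ▸ mem_top a : a ∈ zpowers x)
  obtain ⟨j, rfl⟩ := mem_zpowers_iff.1 (htop ▸ mem_top b : b ∈ zpowers x)
  exact zpow_mul_comm x i j

theorem maximal_normalizer (hG : IsMinSimpleOddOrder G) {M : Subgroup G} (hM : IsCoatom M) :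
    normalizer (M : Set G) = M := by
  rcases hM.le_iff.1 (le_normalizer : M ≤ normalizer (M : Set G)) with h | h
  · exact absurd h (minSimple_normalizer_ne_top hG (maximal_ne_bot hG hM) hM.1)
  · exact h

theorem mem_maximal_of_cj_eq (hG : IsMinSimpleOddOrder G) {M : Subgroup G} (hM : IsCoatom M)
    {g : G} (h : cj g M = M) : g ∈ M :=
  maximal_normalizer hG hM ▸ mem_normalizer_iff_cj.2 h

theorem isCoatom_cj {M : Subgroup G} (hM : IsCoatom M) (g : G) : IsCoatom (cj g M) := by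
  refine ⟨fun h => hM.1 ?_, fun K hK => ?_⟩
  · rw [← cj_inv_cj g M, h]
    exact map_top_of_surjective _ (MulAut.conj g⁻¹).surjective
  · have h1 : M < cj g⁻¹ K := by
      refine lt_of_le_of_ne ?_ fun e => hK.ne ?_
      · rw [← cj_inv_cj g M]; exact cj_mono hK.le
      · rw [e, cj_cj_inv]
    rw [← cj_cj_inv g K, hM.2 _ h1]
    exact map_top_of_surjective _ (MulAut.conj g).surjective

/-- A subgroup normalised by a maximal subgroup has that maximal subgroup as normaliser. -/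
theorem normalizer_eq_maximal (hG : IsMinSimpleOddOrder G) {M X : Subgroup G} (hM : IsCoatom M)
    (hXM : X ≤ M) (hX : X ≠ ⊥) (hn : M ≤ normalizer (X : Set G)) :
    normalizer (X : Set G) = M :=
  (hM.le_iff.1 hn).resolve_left (minSimple_normalizer_ne_top hG hX (ne_top_of_le_maximal hM hXM))

theorem isPGroup_ne_top [Finite G] (hG : IsMinSimpleOddOrder G) {p : ℕ} [Fact p.Prime]
    {P : Subgroup G} (hP : IsPGroup p P) : P ≠ ⊤ :=
  minSimple_ne_top_of_isSolvable hG (haveI := hP.isNilpotent; inferInstance)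

/-! ### Uniqueness subgroups -/

theorem eq_of_inUniqueMaximal {X M L : Subgroup G} (h : InUniqueMaximal X) (hM : IsCoatom M)
    (hXM : X ≤ M) (hL : IsCoatom L) (hXL : X ≤ L) : L = M :=
  h.unique ⟨hL, hXL⟩ ⟨hM, hXM⟩

theorem le_of_inUniqueMaximal [Finite G] {K X M : Subgroup G} (h : InUniqueMaximal K)
    (hM : IsCoatom M) (hKM : K ≤ M) (hKX : K ≤ X) (hX : X ≠ ⊤) : X ≤ M := by
  obtain ⟨L, hL, hXL⟩ := exists_maximal_ge hX
  exact eq_of_inUniqueMaximal h hM hKM hL (hKX.trans hXL) ▸ hXL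

theorem inUniqueMaximal_of_le [Finite G] {K X : Subgroup G} (h : InUniqueMaximal K)
    (hKX : K ≤ X) (hX : X ≠ ⊤) : InUniqueMaximal X := by
  obtain ⟨L, hL, hXL⟩ := exists_maximal_ge hX
  exact ⟨L, ⟨hL, hXL⟩, fun L' hL' =>
    eq_of_inUniqueMaximal h hL (hKX.trans hXL) hL'.1 (hKX.trans hL'.2)⟩

theorem pRankLE_two_of_one {p : ℕ} {H : Type*} [Group H] (hp : p.Prime) (h : PRankLE p 1 H) :
    PRankLE p 2 H :=
  CfsgLib.Base.pRankLE_mono hp.pos (by norm_num) h

/-- The Uniqueness Theorem, rank three form. -/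
theorem inUniqueMaximal_of_pRank [Finite G] (h1403 : StmtS1403.{u})
    (hG : IsMinSimpleOddOrder G) {p : ℕ} (hp : p.Prime) {K : Subgroup G} (hK : K ≠ ⊤)
    (h3 : ¬ PRankLE p 2 K) : InUniqueMaximal K :=
  h1403 hG K hK (fun h => h3 (pRankLE_two_of_one hp (h p hp))) (Or.inl fun h => h3 (h p hp))

/-- The Uniqueness Theorem, centraliser form. -/
theorem inUniqueMaximal_of_pRank_centralizer [Finite G] (h1403 : StmtS1403.{u})
    (hG : IsMinSimpleOddOrder G) {p : ℕ} (hp : p.Prime) {K : Subgroup G} (hK : K ≠ ⊤)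
    (h2 : ¬ PRankLE p 1 K) (h3 : ¬ PRankLE p 2 (centralizer (K : Set G))) : InUniqueMaximal K :=
  h1403 hG K hK (fun h => h2 (h p hp)) (Or.inr fun h => h3 (h p hp))

/-! ### Sylow subgroups, `σ(M)` and `α(M)` -/

variable [Finite G] {p : ℕ} [Fact p.Prime]

theorem sylIn_sylow_map {M : Subgroup G} (P : Sylow p M) :
    SylIn p ((P : Subgroup M).map M.subtype) M := by
  refine ⟨map_subtype_le _, P.isPGroup'.map _, ?_⟩
  rw [Subgroup.relIndex, Subgroup.subgroupOf, comap_map_eq_self_of_injective M.subtype_injective]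
  exact P.not_dvd_index

theorem exists_sylow_of_sylIn {M T : Subgroup G} (hT : SylIn p T M) :
    ∃ P : Sylow p M, (P : Subgroup M).map M.subtype = T := by
  refine ⟨(hT.isPGroup.comap_subtype (K := M)).toSylow hT.not_dvd, ?_⟩
  exact map_subgroupOf_eq_of_le hT.le

theorem pRankLE_iff_sylIn {k : ℕ} {M T : Subgroup G} (hT : SylIn p T M) :
    PRankLE p k M ↔ PRankLE p k T := by
  obtain ⟨P, rfl⟩ := exists_sylow_of_sylIn hT
  rw [CfsgLib.Base.pRankLE_iff_sylow P]
  exact CfsgLib.Base.pRankLE_congr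
    ((P : Subgroup M).equivMapOfInjective M.subtype M.subtype_injective)

theorem sylIn_ne_bot {M T : Subgroup G} (hT : SylIn p T M) (h : p ∣ Nat.card M) : T ≠ ⊥ := by
  rintro rfl
  exact hT.not_dvd (by rwa [Subgroup.relIndex_bot_left])

theorem sigma_normalizer_le {M T : Subgroup G} (hp : p ∈ sigma M) (hT : SylIn p T M) :
    normalizer (T : Set G) ≤ M := by
  obtain ⟨-, -, P, hP⟩ := hp
  obtain ⟨k, hk, he⟩ := hT.exists_conj_eq (sylIn_sylow_map P)
  rw [← he, ← cj_normalizer]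
  exact (cj_mono hP).trans (cj_eq_self_of_mem hk).le

theorem mem_sigma_iff {M T : Subgroup G} (hT : SylIn p T M) :
    p ∈ sigma M ↔ p ∣ Nat.card M ∧ normalizer (T : Set G) ≤ M := by
  refine ⟨fun h => ⟨h.2.1, sigma_normalizer_le h hT⟩, fun h => ⟨Fact.out, h.1, ?_⟩⟩
  obtain ⟨P, rfl⟩ := exists_sylow_of_sylIn hT
  exact ⟨P, h.2⟩

omit [Fact p.Prime] in
theorem prime_of_mem_sigma {M : Subgroup G} (hp : p ∈ sigma M) : p.Prime := hp.1

theorem sigma_sylIn_top {M T : Subgroup G} (hp : p ∈ sigma M) (hT : SylIn p T M) :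
    SylIn p T ⊤ := by
  obtain ⟨U, hU, hTU⟩ := exists_sylIn_ge (p := p) hT.isPGroup (le_top : T ≤ ⊤)
  rcases eq_or_lt_of_le hTU with h | h
  · exact h ▸ hU
  · have h1 := lt_inf_normalizer' hU.isPGroup h
    exact absurd (hT.eq_of_le (hU.isPGroup.to_le inf_le_left) h1.le
      (inf_le_right.trans (sigma_normalizer_le hp hT))).symm h1.ne

theorem dvd_card_of_mem_alpha {M : Subgroup G} (hp : p ∈ alpha M) : p ∣ Nat.card M := by
  by_contra h
  obtain ⟨T, hT⟩ := exists_sylIn (p := p) M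
  refine hp.2 ((pRankLE_iff_sylIn hT).2 (CfsgLib.Base.pRankLE_of_card_le ?_))
  obtain ⟨n, hn⟩ := IsPGroup.iff_card.1 hT.isPGroup
  rcases Nat.eq_zero_or_pos n with rfl | hn0
  · rw [hn, pow_zero]; exact Nat.one_le_pow _ _ (Fact.out : p.Prime).pos
  · exact absurd ((hn ▸ dvd_pow_self p hn0.ne').trans (card_dvd_of_le hT.le)) h

/-- A Sylow subgroup of rank three forces `N_G(P) ≤ M`. -/
theorem alpha_subset_sigma (h1403 : StmtS1403.{u}) (hG : IsMinSimpleOddOrder G) {M : Subgroup G}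
    (hM : IsCoatom M) (hp : p ∈ alpha M) : p ∈ sigma M := by
  obtain ⟨T, hT⟩ := exists_sylIn (p := p) M
  have hd := dvd_card_of_mem_alpha hp
  refine (mem_sigma_iff hT).2 ⟨hd, ?_⟩
  exact le_of_inUniqueMaximal
    (inUniqueMaximal_of_pRank h1403 hG Fact.out (isPGroup_ne_top hG hT.isPGroup)
      fun h => hp.2 ((pRankLE_iff_sylIn hT).2 h)) hM hT.le le_normalizer
    (minSimple_normalizer_ne_top hG (sylIn_ne_bot hT hd) (isPGroup_ne_top hG hT.isPGroup))

theorem sigma_odd (hG : IsMinSimpleOddOrder G) {M : Subgroup G} (h : p ∣ Nat.card M) : p ≠ 2 :=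
  minSimple_ne_two hG (h.trans M.card_subgroup_dvd_card)

theorem maximal_odd (hG : IsMinSimpleOddOrder G) (M : Subgroup G) : Odd (Nat.card M) :=
  hG.1.of_dvd_nat M.card_subgroup_dvd_card

end CfsgLib.FT
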