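import Cfsg.Prelude.Def_OddOrderLocal

/-!
Type I as the local analysis gives it: in the third alternative `O_{p'}(M_F)` is cyclic (the frozen
definition has `O_{p'}(M)`).  The sets `A(M)`, `A₀(M)` and the support relation are defined from it by
the same formulas as in the frozen definitions; all four agree with those once every maximal subgroup
of Type I is known to be a Frobenius group.
-/

set_option autoImplicit false

universe u

namespace CfsgLib.FT

open Cfsg

/-- Type I, with `O_{p'}(M_F)` cyclic in the third alternative. -/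
def IsOfTypeI {G : Type u} [Group G] (M : Subgroup G) : Prop :=
  Cfsg.IsOfTypeF M ∧
  ( Cfsg.IsTISubset (Cfsg.fittingHallOf M : Set G) ∨
    (IsMulCommutative (Cfsg.fittingHallOf M) ∧ Cfsg.RankLE 2 (Cfsg.fittingHallOf M) ∧
      ¬ Cfsg.RankLE 1 (Cfsg.fittingHallOf M)) ∨
    ((∀ p : ℕ, p.Prime → p ∣ Nat.card (Cfsg.fittingHallOf M) →
        Monoid.exponent (M ⧸ Cfsg.fittingHall M) ∣ p - 1) ∧
      ∃ p : ℕ, p.Prime ∧ p ∣ Nat.card (Cfsg.fittingHallOf M) ∧
        IsCyclic (Cfsg.pPrimeCore p (Cfsg.fittingHallOf M))) )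

open scoped Classical in
/-- `A(M)`, relative to this notion of Type I. -/
noncomputable def typeA {G : Type u} [Group G] (M : Subgroup G) : Set G :=
  if IsOfTypeI M then
    {a | a ∈ M ∧ a ≠ 1 ∧ ∃ x ∈ Cfsg.fittingHallOf M, x ≠ 1 ∧ a * x = x * a}
  else
    {a | a ∈ ⁅M, M⁆ ∧ a ≠ 1 ∧ ∃ x ∈ Cfsg.typeCore M, x ≠ 1 ∧ a * x = x * a}

/-- `A₀(M)`, relative to this notion of Type I. -/
noncomputable def typeA0 {G : Type u} [Group G] (M : Subgroup G) : Set G :=
  typeA M ∪ {v | ¬ IsOfTypeI M ∧ ∃ W₁ U W₂ : Subgroup G, Cfsg.IsTypePWith M W₁ U W₂ ∧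
    ∃ m ∈ M, ∃ w ∈ W₁ ⊔ W₂, w ∉ W₁ ∧ w ∉ W₂ ∧ v = m * w * m⁻¹}

/-- `L` supports `M`, relative to this notion of Type I. -/
def Supports {G : Type u} [Group G] (L M : Subgroup G) : Prop :=
  IsCoatom L ∧ ∃ x ∈ typeA0 M, ¬ Subgroup.centralizer ({x} : Set G) ≤ M ∧
    Subgroup.centralizer ({x} : Set G) ≤ L

end CfsgLib.FT
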