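import Cfsg.Agent.Lib.FT.FrobeniusFixedPoint

/-!
# The fixed point formula for a solvable group (Peterfalvi 9.1)
-/

set_option autoImplicit false
set_option linter.style.haveILetI false

namespace CfsgLib.FT

open _root_.Subgroup

universe u

variable {X : Type u} [Group X] [Finite X]

/-- The fixed point formula for a solvable group acted on by a Frobenius group. -/
theorem card_centralizer_formula {U E : Subgroup X} (hE1 : E ≠ ⊥)
    (hUn : ∀ e ∈ E, ∀ u ∈ U, e * u * e⁻¹ ∈ U)
    (hfpf : ∀ e ∈ E, e ≠ 1 → ∀ u ∈ U, e * u = u * e → u = 1) :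
    ∀ H : Subgroup X, U ⊔ E ≤ normalizer (H : Set X) → Group.IsSolvable H →
      Nat.Coprime (Nat.card H) (Nat.card ↥(U ⊔ E)) →
      Nat.card ↥(H ⊓ centralizer ((U ⊔ E : Subgroup X) : Set X)) ^ Nat.card E * Nat.card H =
        Nat.card ↥(H ⊓ centralizer (E : Set X)) ^ Nat.card E *
          Nat.card ↥(H ⊓ centralizer (U : Set X)) := by
  intro H
  induction H using WellFoundedLT.induction with
  | _ H ih =>
    intro hn hsol hcop
    by_cases hH : H = ⊥
    · subst hH
      simp
    set K := ⁅H, H⁆ with hK
    have hKH : K < H := Base.commutator_self_lt_of_isSolvable hH hsol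
    have hKn : U ⊔ E ≤ normalizer (K : Set X) := by
      intro x hx
      rw [mem_normalizer_iff_map_conj_eq] at *
      rw [hK, map_commutator, mem_normalizer_iff_map_conj_eq.mp (hn hx)]
    have hHK : H ≤ normalizer (K : Set X) := by
      intro x hx
      rw [mem_normalizer_iff_map_conj_eq, hK, map_commutator,
        mem_normalizer_iff_map_conj_eq.mp (H.le_normalizer hx)]
    haveI := hsol
    have hKs : Group.IsSolvable K :=
      Group.isSolvable_of_isSolvable_injective (Subgroup.inclusion_injective hKH.le)
    have hKcop : Nat.Coprime (Nat.card K) (Nat.card ↥(U ⊔ E)) :=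
      hcop.coprime_dvd_left (card_dvd_of_le hKH.le)
    have hIH := ih K hKH hKn hKs hKcop
    set L : Subgroup H := K.subgroupOf H with hL
    haveI : L.Normal := normal_subgroupOf_of_le_normalizer hHK
    let Q := H ⧸ L
    have hQc : ∀ a b : Q, a * b = b * a := by
      rintro ⟨a⟩ ⟨b⟩
      refine QuotientGroup.eq.mpr ?_
      show ((a * b)⁻¹ * (b * a) : H) ∈ L
      rw [hL, mem_subgroupOf]
      have h : ((b : X)⁻¹ * (a : X)⁻¹ * ((b : X)⁻¹)⁻¹ * ((a : X)⁻¹)⁻¹) ∈ ⁅H, H⁆ :=
        commutator_mem_commutator (H.inv_mem b.2) (H.inv_mem a.2)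
      simpa [mul_assoc] using h
    letI : CommGroup Q := { (inferInstance : Group Q) with mul_comm := hQc }
    have hnorm : ∀ g : ↥(U ⊔ E), ∀ h ∈ H, (g : X) * h * (g : X)⁻¹ ∈ H := fun g h hh =>
      (mem_normalizer_iff.mp (hn g.2) h).mp hh
    let cj : ↥(U ⊔ E) → H →* H := fun g =>
      { toFun := fun h => ⟨(g : X) * h * (g : X)⁻¹, hnorm g h h.2⟩
        map_one' := Subtype.ext (by simp)
        map_mul' := fun a b => Subtype.ext (by simp [mul_assoc]) }
    have hcjL : ∀ g, L ≤ L.comap (cj g) := fun g h hh => by
      show (g : X) * h * (g : X)⁻¹ ∈ K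
      exact (mem_normalizer_iff.mp (hKn g.2) _).mp hh
    let ρ : ↥(U ⊔ E) →* AddMonoid.End (Additive Q) :=
      { toFun := fun g => MonoidHom.toAdditive (QuotientGroup.map L L (cj g) (hcjL g))
        map_one' := DFunLike.ext _ _ fun x => by
          induction x using Additive.rec with | _ y => ?_
          induction y using QuotientGroup.induction_on with | _ h => ?_
          show Additive.ofMul ((cj 1 h : H) : Q) = Additive.ofMul (h : Q)
          congr 2
          exact Subtype.ext (by simp [cj])
        map_mul' := fun a b => DFunLike.ext _ _ fun x => by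
          induction x using Additive.rec with | _ y => ?_
          induction y using QuotientGroup.induction_on with | _ h => ?_
          show Additive.ofMul ((cj (a * b) h : H) : Q) = Additive.ofMul ((cj a (cj b h) : H) : Q)
          congr 2
          exact Subtype.ext (by simp [cj, mul_assoc]) }
    have hcount : ∀ S : Subgroup X, S ≤ U ⊔ E →
        Nat.card ↥(H ⊓ centralizer (S : Set X)) = Nat.card ↥(K ⊓ centralizer (S : Set X)) *
          Nat.card (fixPts ρ ((S.subgroupOf (U ⊔ E) : Subgroup ↥(U ⊔ E)) : Set ↥(U ⊔ E))) := by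
      intro S hS
      let f : ↥(H ⊓ centralizer (S : Set X)) →*
          Multiplicative (fixPts ρ ((S.subgroupOf (U ⊔ E) : Subgroup ↥(U ⊔ E)) : Set ↥(U ⊔ E))) :=
        { toFun := fun h => Multiplicative.ofAdd ⟨Additive.ofMul ((⟨h, h.2.1⟩ : H) : Q), fun g hg => by
            show Additive.ofMul ((cj g ⟨h, h.2.1⟩ : H) : Q) = _
            congr 2
            refine Subtype.ext ?_
            show (g : X) * h * (g : X)⁻¹ = h
            rw [mem_centralizer_iff.mp h.2.2 g hg, mul_inv_cancel_right]⟩
          map_one' := rfl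
          map_mul' := fun a b => rfl }
      have hsurj : Function.Surjective f := by
        rintro ⟨x, hx⟩
        obtain ⟨k, hk⟩ : ∃ k : H, Additive.ofMul (k : Q) = x := by
          induction x using Additive.rec with | _ y => ?_
          induction y using QuotientGroup.induction_on with | _ h => ?_
          exact ⟨h, rfl⟩
        obtain ⟨c, hc, hkc⟩ := Coprime.exists_centralizing_in_coset (A := S) (N := K) (k := (k : X))
          (hS.trans hKn) ((hKcop.coprime_dvd_right (card_dvd_of_le hS)).symm) (Or.inr hKs) (fun a ha => by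
            have h := hx ⟨a, hS ha⟩ ha
            rw [← hk] at h
            exact (QuotientGroup.eq (s := L) (a := k) (b := cj ⟨a, hS ha⟩ k)).mp (show (k : Q) = ((cj ⟨a, hS ha⟩ k : H) : Q) from
              (Additive.ofMul.injective h).symm))
        have hcH : c ∈ H := by
          simpa using H.mul_mem k.2 (hKH.le hkc)
        refine ⟨⟨c, hcH, hc⟩, ?_⟩
        refine congrArg Multiplicative.ofAdd (Subtype.ext ?_)
        show Additive.ofMul ((⟨c, hcH⟩ : H) : Q) = x
        rw [← hk]
        exact congrArg Additive.ofMul ((QuotientGroup.eq (s := L) (a := k) (b := ⟨c, hcH⟩)).mpr hkc).symm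
      have hker : Nat.card f.ker = Nat.card ↥(K ⊓ centralizer (S : Set X)) :=
        Nat.card_congr
          { toFun := fun a => ⟨a.1.1, (QuotientGroup.eq_one_iff (N := L) (⟨a.1.1, a.1.2.1⟩ : H)).mp
              (congrArg Additive.toMul (congrArg Subtype.val (congrArg Multiplicative.toAdd a.2))),
              a.1.2.2⟩
            invFun := fun a => ⟨⟨a.1, hKH.le a.2.1, a.2.2⟩,
              congrArg Multiplicative.ofAdd (Subtype.ext (congrArg Additive.ofMul
                ((QuotientGroup.eq_one_iff (N := L) (⟨a.1, hKH.le a.2.1⟩ : H)).mpr a.2.1)))⟩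
            left_inv := fun _ => rfl
            right_inv := fun _ => rfl }
      rw [Subgroup.card_eq_card_quotient_mul_card_subgroup f.ker, hker,
        Nat.card_congr (QuotientGroup.quotientKerEquivOfSurjective f hsurj).toEquiv,
        Nat.card_congr Multiplicative.toAdd, mul_comm]
    have hQcard : Nat.card H = Nat.card K * Nat.card (Additive Q) := by
      rw [Nat.card_congr Additive.toMul, card_eq_card_quotient_mul_card_subgroup L,
        Nat.card_congr (subgroupOfEquivOfLe hKH.le).toEquiv, mul_comm]
    have hEc : Nat.card (E.subgroupOf (U ⊔ E)) = Nat.card E :=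
      Nat.card_congr (subgroupOfEquivOfLe le_sup_right).toEquiv
    have hUc : Nat.card (U.subgroupOf (U ⊔ E)) = Nat.card U :=
      Nat.card_congr (subgroupOfEquivOfLe le_sup_left).toEquiv
    haveI : (U.subgroupOf (U ⊔ E)).Normal := normal_subgroupOf_of_le_normalizer
      (sup_le U.le_normalizer fun e he => mem_normalizer_iff.mpr fun u => ⟨hUn e he u, fun h => by
        simpa [mul_assoc] using hUn e⁻¹ (E.inv_mem he) _ h⟩)
    have key := card_fix_formula ρ (U.subgroupOf (U ⊔ E)) (E.subgroupOf (U ⊔ E))
      (fun h => hE1 ((inf_eq_left.mpr le_sup_right).symm.trans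
        (disjoint_iff.mp (subgroupOf_eq_bot.mp h))))
      (fun e he he1 u hu hc => Subtype.ext (hfpf e he (fun h => he1 (Subtype.ext h)) u hu
        (congrArg Subtype.val hc)))
      (by
        rw [hUc]
        exact (hcop.coprime_dvd_right (card_dvd_of_le le_sup_left)).coprime_dvd_left
          ⟨_, hQcard.trans (mul_comm _ _)⟩)
    rw [← subgroupOf_sup le_sup_left le_sup_right, hEc] at key
    rw [hcount _ le_rfl, hcount _ le_sup_right, hcount _ le_sup_left, hQcard, mul_pow, mul_pow]
    calc _ = (Nat.card ↥(K ⊓ centralizer ((U ⊔ E : Subgroup X) : Set X)) ^ Nat.card E * Nat.card K) *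
          (Nat.card (fixPts ρ (((U ⊔ E).subgroupOf (U ⊔ E) : Subgroup ↥(U ⊔ E)) : Set ↥(U ⊔ E))) ^
            Nat.card E * Nat.card (Additive Q)) := by ring
      _ = _ := by rw [hIH, key]; ring

end CfsgLib.FT
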