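import Cfsg.Agent.Lib.FT.StepA.Main
import Cfsg.Agent.Lib.FT.Route.StepC

/-!
# The odd order theorem
-/

set_option autoImplicit false

namespace CfsgLib.FT

universe u

open Cfsg

/-- The Feit–Thompson theorem. -/
theorem oddOrderThm : OddOrderThm.{u} :=
  PF14.oddOrderThm_of_AC StepA.stepA PF14.stepC

/-- Every finite group of odd order is solvable. -/
theorem isSolvable_of_odd {G : Type u} [Group G] [Finite G] (h : Odd (Nat.card G)) :
    Group.IsSolvable G :=
  oddOrderThm G h

/-- There is no minimal simple group of odd order. -/
theorem not_minSimpleOdd {G : Type u} [Group G] [Finite G] : ¬ IsMinSimpleOddOrder G :=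
  not_isMinSimpleOddOrder oddOrderThm G

end CfsgLib.FT
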