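import Cfsg.Agent.Lib.OddOrder.PLengthOne
import Cfsg.Agent.Lib.PLocal.Constrained

/-!
`p`-length one: criterion by the index of `O_{p',p}`, subgroups and extensions.
-/

set_option autoImplicit false
set_option linter.style.haveILetI false

universe u

namespace CfsgLib.FT

open Cfsg CfsgLib.OddOrder Subgroup

variable {G : Type u} [Group G] [Finite G] {p : ℕ} [Fact p.Prime]

theorem exists_pow_mem_of_mem_pPrimePCore {x : G} (hx : x ∈ pPrimePCore p G) :
    ∃ k : ℕ, x ^ p ^ k ∈ pPrimeCore p G := by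
  obtain ⟨k, hk⟩ := CfsgLib.Base.isPGroup_pCore p (G ⧸ pPrimeCore p G) ⟨_, hx⟩
  refine ⟨k, (QuotientGroup.eq_one_iff _).1 ?_⟩
  simpa using congrArg Subtype.val hk

/-- A normal subgroup which is a `p`-group modulo `O_{p'}` lies in `O_{p',p}`. -/
theorem le_pPrimePCore {U : Subgroup G} [hU : U.Normal]
    (h : ∀ x ∈ U, ∃ k : ℕ, x ^ p ^ k ∈ pPrimeCore p G) : U ≤ pPrimePCore p G := by
  rw [pPrimePCore, ← map_le_iff_le_comap]
  haveI := hU.map (QuotientGroup.mk' (pPrimeCore p G)) (QuotientGroup.mk'_surjective _)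
  refine CfsgLib.Base.le_pCore ?_
  rintro ⟨_, ⟨x, hx, rfl⟩⟩
  obtain ⟨k, hk⟩ := h x hx
  refine ⟨k, Subtype.ext ?_⟩
  simp only [SubmonoidClass.coe_pow, OneMemClass.coe_one]
  rw [← map_pow]
  exact (QuotientGroup.eq_one_iff _).2 hk

theorem pPrimePCore_characteristic (p : ℕ) [Fact p.Prime] (G : Type u) [Group G] [Finite G] :
    (pPrimePCore p G).Characteristic := by
  refine characteristic_iff_map_le.2 fun φ => ?_
  haveI := (CfsgLib.PLocal.pPrimePCore_normal p G).map φ.toMonoidHom φ.surjective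
  refine le_pPrimePCore ?_
  rintro _ ⟨x, hx, rfl⟩
  obtain ⟨k, hk⟩ := exists_pow_mem_of_mem_pPrimePCore hx
  refine ⟨k, ?_⟩
  rw [← map_pow]
  exact characteristic_iff_map_le.1 inferInstance φ ⟨_, hk, rfl⟩

theorem pLengthLE_one_iff :
    PLengthLE p 1 G ↔ ((pPrimePCore p G).index).Coprime p := by
  refine ⟨coprime_index_pPrimePCore, fun h => ?_⟩
  have h5 : (upperPSeries p G (2 * 1)).1 = pPrimePCore p G := upperPSeries_two_eq
  show (upperPSeries p G (2 * 1 + 1)).1 = ⊤
  rw [CfsgLib.PLocal.upperPSeries_odd, CfsgLib.Base.pPrimeCore_eq_top_iff.2 ?_, comap_top]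
  rw [← index_eq_card, h5]
  exact h

theorem pLengthLE_one_subgroup (h : PLengthLE p 1 G) (H : Subgroup G) : PLengthLE p 1 H := by
  rw [pLengthLE_one_iff] at h ⊢
  haveI hTn : (pPrimePCore p G).Normal := CfsgLib.PLocal.pPrimePCore_normal p G
  have hle : (pPrimePCore p G).subgroupOf H ≤ pPrimePCore p H := by
    refine le_pPrimePCore fun x hx => ?_
    obtain ⟨k, hk⟩ := exists_pow_mem_of_mem_pPrimePCore (mem_subgroupOf.1 hx)
    have hc : (Nat.card ((pPrimeCore p G).subgroupOf H)).Coprime p :=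
      (CfsgLib.Base.pPrimeCore_coprime p G).coprime_dvd_left
        ((card_comap_dvd_of_injective _ _ H.subtype_injective))
    exact ⟨k, CfsgLib.Base.le_pPrimeCore hc (mem_subgroupOf.2 (by simpa using hk))⟩
  exact h.coprime_dvd_left ((index_dvd_of_le hle).trans (relIndex_dvd_index_of_normal _ _))

theorem pLengthLE_one_of_le {H K : Subgroup G} (hHK : H ≤ K) (h : PLengthLE p 1 K) :
    PLengthLE p 1 H := by
  have h' := pLengthLE_one_subgroup h (H.subgroupOf K)
  rw [pLengthLE_one_iff] at h' ⊢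
  let e := subgroupOfEquivOfLe hHK
  haveI hn := (CfsgLib.PLocal.pPrimePCore_normal p (H.subgroupOf K)).map e.toMonoidHom e.surjective
  have hle : (pPrimePCore p (H.subgroupOf K)).map e.toMonoidHom ≤ pPrimePCore p H := by
    refine le_pPrimePCore ?_
    rintro _ ⟨x, hx, rfl⟩
    obtain ⟨k, hk⟩ := exists_pow_mem_of_mem_pPrimePCore hx
    refine ⟨k, ?_⟩
    rw [← map_pow, ← CfsgLib.Base.map_pPrimeCore_mulEquiv e]
    exact ⟨_, hk, rfl⟩
  refine h'.coprime_dvd_left ((index_dvd_of_le hle).trans ?_)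
  rw [show e.toMonoidHom = (e : H.subgroupOf K →* H) from rfl, index_map_equiv]

/-- Extension by a `p'`-group on top. -/
theorem pLengthLE_one_of_normal {N : Subgroup G} [N.Normal] (hi : N.index.Coprime p)
    (h : PLengthLE p 1 N) : PLengthLE p 1 G := by
  rw [pLengthLE_one_iff] at h ⊢
  haveI := pPrimePCore_characteristic p N
  haveI : ((pPrimePCore p N).map N.subtype).Normal := CfsgLib.Base.normal_map_subtype _
  have hO : (pPrimeCore p N).map N.subtype ≤ pPrimeCore p G := by
    haveI : ((pPrimeCore p N).map N.subtype).Normal := CfsgLib.Base.normal_map_subtype _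
    refine CfsgLib.Base.le_pPrimeCore ?_
    rw [CfsgLib.Base.card_map_subtype]
    exact CfsgLib.Base.pPrimeCore_coprime p N
  have hle : (pPrimePCore p N).map N.subtype ≤ pPrimePCore p G := by
    refine le_pPrimePCore ?_
    rintro _ ⟨x, hx, rfl⟩
    obtain ⟨k, hk⟩ := exists_pow_mem_of_mem_pPrimePCore hx
    exact ⟨k, hO ⟨_, hk, map_pow _ _ _⟩⟩
  refine Nat.Coprime.coprime_dvd_left (index_dvd_of_le hle) ?_
  rw [← relIndex_mul_index (map_subtype_le (pPrimePCore p N)), Subgroup.relIndex,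
    Subgroup.subgroupOf, comap_map_eq_self_of_injective N.subtype_injective]
  exact h.mul_left hi

end CfsgLib.FT
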