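import Mathlib
import Cfsg.Prelude.Def_OddOrder

/-!
Interface for the odd order project: the statement, and the reduction to the absence of a
minimal simple group of odd order.
-/

set_option autoImplicit false

namespace CfsgLib.FT

universe u

open Cfsg

/-- Every finite group of odd order (in universe `u`) is solvable. -/
def OddOrderThm : Prop :=
  ∀ (G : Type u) [Group G] [Finite G], Odd (Nat.card G) → Group.IsSolvable G

/-- There is no minimal simple group of odd order (in universe `u`). -/
def NoMinSimpleOdd : Prop :=
  ∀ (G : Type u) [Group G] [Finite G], ¬ IsMinSimpleOddOrder G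

theorem oddOrderThm_of_noMinSimpleOdd (h : NoMinSimpleOdd.{u}) : OddOrderThm.{u} := by
  intro G _ _ hodd
  induction hn : Nat.card G using Nat.strongRecOn generalizing G with
  | _ n ih =>
    subst hn
    have hsub : ∀ H : Subgroup G, H ≠ ⊤ → Group.IsSolvable H := fun H hH =>
      ih _ (lt_of_le_of_ne H.card_le_card_group fun e => hH (H.card_eq_iff_eq_top.mp e))
        H (hodd.of_dvd_nat H.card_subgroup_dvd_card) rfl
    by_cases hsimp : ∃ N : Subgroup G, N.Normal ∧ N ≠ ⊥ ∧ N ≠ ⊤
    · obtain ⟨N, hN, hbot, htop⟩ := hsimp
      haveI := hN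
      haveI : Group.IsSolvable N := hsub N htop
      have hlt : Nat.card (G ⧸ N) < Nat.card G := by
        rw [N.card_eq_card_quotient_mul_card_subgroup]
        exact lt_mul_of_one_lt_right Nat.card_pos (N.one_lt_card_iff_ne_bot.mpr hbot)
      haveI : Group.IsSolvable (G ⧸ N) :=
        ih _ hlt (G ⧸ N) (hodd.of_dvd_nat N.index_dvd_card) rfl
      exact solvable_of_ker_le_range N.subtype (QuotientGroup.mk' N) (by simp)
    · push Not at hsimp
      by_contra hns
      haveI : Nontrivial G := by
        by_contra hnt
        rw [not_nontrivial_iff_subsingleton] at hnt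
        exact hns inferInstance
      haveI : IsSimpleGroup G :=
        ⟨fun N hN => or_iff_not_imp_left.mpr fun hbot => hsimp N hN hbot⟩
      refine h G ⟨hodd, this, fun hc => hns ?_, hsub⟩
      exact isSolvable_of_comm hc.is_comm.comm

/-- With the odd order theorem, statements about minimal simple groups of odd order are vacuous. -/
theorem not_isMinSimpleOddOrder (h : OddOrderThm.{u}) (G : Type u) [Group G] [Finite G] :
    ¬ IsMinSimpleOddOrder G := by
  rintro ⟨hodd, hsimp, hna, -⟩
  haveI := hsimp
  exact hna ⟨⟨fun a b => IsSimpleGroup.comm_iff_isSolvable.mpr (h G hodd) a b⟩⟩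

end CfsgLib.FT
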