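import Cfsg.Agent.Lib.Base.Rank
import Cfsg.Agent.Lib.PGroups.UniqueOrderP

/-!
Small facts on elementary abelian subgroups and groups of rank one.
-/

set_option autoImplicit false
set_option linter.style.haveILetI false

universe u

namespace CfsgLib.FT

open Cfsg Subgroup

variable {G : Type u} [Group G] [Finite G] {p : ℕ} [hp : Fact p.Prime]

/-- An elementary abelian subgroup of maximal order contains the elements of order `p` that
centralise it. -/
theorem mem_of_commute_of_card_le {A : Subgroup G} (hA : IsElementaryAbelian p A) {z : G}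
    (hz : z ^ p = 1) (hcen : ∀ a ∈ A, a * z = z * a) {k : ℕ} (hk : p ^ k ≤ Nat.card A)
    {H : Subgroup G} (hH : PRankLE p k H) (hAH : A ≤ H) (hzH : z ∈ H) : z ∈ A := by
  have hle : A ≤ centralizer (zpowers z : Set G) := fun a ha => by
    refine mem_centralizer_iff.2 ?_
    rintro _ ⟨i, rfl⟩
    exact ((Commute.zpow_right (hcen a ha) i)).symm
  have hE := CfsgLib.Base.isElementaryAbelian_sup hA (CfsgLib.Base.isElementaryAbelian_zpowers hz) hle
  have hcard := CfsgLib.Base.pRankLE_subgroup_iff.1 hH _ (sup_le hAH (zpowers_le.2 hzH)) hE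
  rw [eq_of_le_of_card_ge (le_sup_left : A ≤ A ⊔ zpowers z) (hcard.trans hk)]
  exact mem_sup_right (mem_zpowers z)

/-- A `p`-group of rank one, `p` odd, is cyclic. -/
theorem isCyclic_of_pRankLE_one (hp2 : p ≠ 2) (hG : IsPGroup p G) (h : PRankLE p 1 G) :
    IsCyclic G := by
  rcases subsingleton_or_nontrivial G with hs | hnt
  · exact isCyclic_of_subsingleton
  obtain ⟨⟨z, hzc⟩, hz⟩ : ∃ z : center G, orderOf z = p := by
    haveI := hG.center_nontrivial
    obtain ⟨n, hn⟩ := IsPGroup.iff_card.1 (hG.to_subgroup (center G))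
    have hn0 : n ≠ 0 := fun e => by
      rw [e, pow_zero] at hn
      exact absurd Finite.one_lt_card (by omega : ¬ 1 < Nat.card (center G))
    exact exists_prime_orderOf_dvd_card' p (hn ▸ dvd_pow_self p hn0)
  rw [Subgroup.orderOf_mk] at hz
  have hzp : z ^ p = 1 := hz ▸ pow_orderOf_eq_one z
  have hzA : IsElementaryAbelian p (zpowers z) := CfsgLib.Base.isElementaryAbelian_zpowers hzp
  refine (CfsgLib.PGroups.isCyclic_or_quaternion_of_unique hG hzp fun y hy => ?_).resolve_right
    fun h2 => hp2 h2.1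
  refine mem_of_commute_of_card_le (k := 1) hzA hy ?_ ?_
    (CfsgLib.Base.pRankLE_top_iff.2 h) le_top (mem_top y)
  · rintro _ ⟨i, rfl⟩
    exact ((Commute.zpow_left (mem_center_iff.1 hzc y).symm i))
  · rw [pow_one, Nat.card_zpowers, hz]

/-- A group of odd order and rank one is a Z-group. -/
theorem isZGroup_of_rankLE_one (hodd : Odd (Nat.card G)) (h : RankLE 1 G) : IsZGroup G := by
  refine ⟨fun q hq P => ?_⟩
  haveI := Fact.mk hq
  by_cases hd : q ∣ Nat.card G
  · refine isCyclic_of_pRankLE_one ?_ P.isPGroup' (CfsgLib.Base.pRankLE_subgroup (h q hq) _)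
    rintro rfl
    exact Nat.not_even_iff_odd.2 hodd (even_iff_two_dvd.2 hd)
  · obtain ⟨n, hn⟩ := IsPGroup.iff_card.1 P.isPGroup'
    rcases Nat.eq_zero_or_pos n with rfl | hn0
    · haveI := (Nat.card_eq_one_iff_unique.1 (by rw [hn, pow_zero] : Nat.card (P : Subgroup G) = 1)).1; exact isCyclic_of_subsingleton
    · exact absurd ((hn ▸ dvd_pow_self q hn0.ne').trans (card_subgroup_dvd_card _)) hd

/-- A nontrivial `p`-subgroup has an element of order `p` in its centre. -/
theorem exists_central_orderOf {T : Subgroup G} (hT : IsPGroup p T) (hT1 : T ≠ ⊥) :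
    ∃ z ∈ T, orderOf z = p ∧ ∀ t ∈ T, t * z = z * t := by
  haveI : Nontrivial T := (nontrivial_iff_ne_bot T).2 hT1
  haveI := hT.center_nontrivial
  obtain ⟨n, hn⟩ := IsPGroup.iff_card.1 (hT.to_subgroup (center T))
  have hn0 : n ≠ 0 := fun e => by
    rw [e, pow_zero] at hn
    exact absurd Finite.one_lt_card (by omega : ¬ 1 < Nat.card (center T))
  obtain ⟨⟨⟨z, hzT⟩, hzc⟩, hz⟩ := exists_prime_orderOf_dvd_card' p
    (show p ∣ Nat.card (center T) from hn ▸ dvd_pow_self p hn0)
  rw [Subgroup.orderOf_mk, Subgroup.orderOf_mk] at hz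
  exact ⟨z, hzT, hz, fun t ht => congrArg Subtype.val (mem_center_iff.1 hzc ⟨t, ht⟩)⟩

end CfsgLib.FT
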