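import Cfsg.Agent.Lib.FT.SigmaCore
import Cfsg.Agent.Lib.FT.Elementary
import Cfsg.Agent.Lib.OddOrder.TransitivityMinSimple
import Cfsg.Agent.Lib.OddOrder.FixedPoints
import Cfsg.Agent.Lib.OddOrder.OmegaFixed

/-!
Centralisers in `M_α` and the primes outside `σ(M)` (BG, 10.3, 10.4, 10.5).
-/

set_option autoImplicit false
set_option linter.style.haveILetI false

universe u

namespace CfsgLib.FT

open Cfsg CfsgLib.OddOrder CfsgLib.Techniques Subgroup

variable {G : Type u} [Group G] [Finite G]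

theorem centralizer_zpowers (x : G) :
    centralizer ((zpowers x : Subgroup G) : Set G) = centralizer ({x} : Set G) := by
  rw [zpowers_eq_closure, centralizer_closure]

/-- BG 10.3. -/
theorem inUniqueMaximal_centralizer (h1403 : StmtS1403.{u}) (hG : IsMinSimpleOddOrder G)
    {M : Subgroup G} (hM : IsCoatom M) {X : Subgroup G} (hXM : X ≤ M)
    (hXα : ∀ p : ℕ, p.Prime → p ∣ Nat.card X → p ∉ alpha M)
    (hr : ¬ RankLE 1 ↥(alphaCore M ⊓ centralizer (X : Set G))) :
    InUniqueMaximal (M ⊓ centralizer (X : Set G)) := by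
  simp only [RankLE, not_forall] at hr
  obtain ⟨p, hp, hr⟩ := hr
  haveI := Fact.mk hp
  obtain ⟨B, hB, hBe, hBc⟩ := exists_elementary_of_not_pRankLE hr
  rw [pow_one] at hBc
  have hBp := CfsgLib.Base.isPGroup_of_isElementaryAbelian hBe
  obtain ⟨n, hn⟩ := IsPGroup.iff_card.1 hBp
  have hn2 : 2 ≤ n := by
    by_contra h
    interval_cases n <;> simp_all
    exact absurd hBc (by have := hp.pos; omega)
  have hB2 : p ^ 2 ≤ Nat.card B := hn ▸ Nat.pow_le_pow_right hp.pos hn2
  have hB1 : ¬ PRankLE p 1 B := fun h => absurd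
    (CfsgLib.Base.pRankLE_subgroup_iff.1 h B le_rfl hBe) (by rw [pow_one]; omega)
  have hBA : B ≤ alphaCore M := hB.trans inf_le_left
  have hBX : B ≤ centralizer (X : Set G) := hB.trans inf_le_right
  have hpα : p ∈ alpha M := (alphaCore_hall h1403 hG hM).2.1 p hp
    ((hn ▸ dvd_pow_self p (by omega)).trans (card_dvd_of_le hBA))
  have hp2 : p ≠ 2 := sigma_odd hG (dvd_card_of_mem_alpha hpα)
  set K := M ⊓ centralizer (X : Set G) with hK
  have hKtop : K ≠ ⊤ := ne_top_of_le_maximal hM inf_le_left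
  have hBK : B ≤ K := le_inf (hBA.trans (alphaCore_le M)) hBX
  by_cases hC : PRankLE p 2 (centralizer (B : Set G))
  swap
  · exact inUniqueMaximal_of_le (inUniqueMaximal_of_pRank_centralizer h1403 hG hp
      (isPGroup_ne_top hG hBp) hB1 hC) hBK hKtop
  have hcop : (Nat.card X).Coprime (Nat.card (alphaCore M)) :=
    Nat.coprime_of_dvd fun q hq h1 h2 => hXα q hq h1 ((alphaCore_hall h1403 hG hM).2.1 q hq h2)
  have hXcB : X ≤ centralizer (B : Set G) := le_centralizer_iff.1 hBX
  haveI : Group.IsSolvable (alphaCore M) :=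
    minSimple_solvable hG (ne_top_of_le_maximal hM (alphaCore_le M))
  obtain ⟨P, hBP, hXP⟩ := CfsgLib.Coprime.exists_invariant_sylow_ge
    (hXM.trans (le_normalizer_alphaCore M)) hcop (Or.inr inferInstance) hBA hBp
    (hXcB.trans (centralizer_le_normalizer _))
  set T := (P : Subgroup (alphaCore M)).map (alphaCore M).subtype with hT
  have hTA : T ≤ alphaCore M := map_subtype_le _
  have hTM : SylIn p T M := by
    refine ⟨hTA.trans (alphaCore_le M), (sylIn_sylow_map P).isPGroup, fun hd => ?_⟩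
    rw [← relIndex_mul_relIndex T (alphaCore M) M hTA (alphaCore_le M)] at hd
    exact (hp.dvd_mul.1 hd).elim (sylIn_sylow_map P).not_dvd
      ((alphaCore_hall h1403 hG hM).2.2 p hp hpα)
  have hXcop : (Nat.card X).Coprime p :=
    ((hp.coprime_iff_not_dvd).2 fun h => hXα p hp h hpα).symm
  have hfix : T ⊓ centralizer (B : Set G) ≤ centralizer (X : Set G) := by
    refine le_centralizer_iff.1 (le_centralizer_of_fix_order_prime hp2 (T ⊓ centralizer (B : Set G)) X
      (hTM.isPGroup.to_le inf_le_left) hXcop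
      (CfsgLib.Coprime.le_normalizer_inf_inf hXP
        (CfsgLib.Coprime.le_normalizer_centralizer (hXcB.trans (centralizer_le_normalizer _))))
      fun z hz hzp x hx => ?_)
    have hzB : z ∈ B := mem_of_commute_of_card_le hBe hzp
      (fun b hb => mem_centralizer_iff.1 hz.2 b hb) hB2 hC (le_centralizer_iff_isMulCommutative.2
        hBe.1) hz.2
    exact mem_centralizer_iff.1 (hBX hzB) x hx
  have hTX : T ≤ centralizer (X : Set G) := le_centralizer_iff.1
    (le_centralizer_of_fixed hp2 T B X hTM.isPGroup hBp hXcop (hBP.trans le_normalizer) hXP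
      (hBX.trans (centralizer_le_normalizer _)) hfix)
  exact inUniqueMaximal_of_le (inUniqueMaximal_of_pRank h1403 hG hp
    (isPGroup_ne_top hG hTM.isPGroup) fun h => hpα.2 ((pRankLE_iff_sylIn hTM).2 h))
    (le_inf hTM.le hTX) hKtop

/-- BG 10.4. -/
theorem exists_central_zgroup (h1403 : StmtS1403.{u}) (hG : IsMinSimpleOddOrder G)
    {M : Subgroup G} (hM : IsCoatom M) {p : ℕ} [Fact p.Prime] (hpM : p ∣ Nat.card M)
    (hp : p ∉ sigma M) {T : Subgroup G} (hT : SylIn p T M) :
    ∃ x : G, x ∈ T ∧ (∀ t ∈ T, t * x = x * t) ∧ orderOf x = p ∧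
      IsZGroup ↥(alphaCore M ⊓ centralizer ({x} : Set G)) ∧
      ¬ (centralizer ({x} : Set G) ≤ M ∧
        ∀ L : Subgroup G, IsCoatom L → centralizer ({x} : Set G) ≤ L → L = M) := by
  have hp1 : p.Prime := Fact.out
  obtain ⟨g, hgN, hgM⟩ := SetLike.not_le_iff_exists.1 fun h => hp ((mem_sigma_iff hT).2 ⟨hpM, h⟩)
  obtain ⟨z, hzT, hz, hzc⟩ := exists_central_orderOf hT.isPGroup (sylIn_ne_bot hT hpM)
  -- some central `x` is not as described
  obtain ⟨x, hxT, hxc, hx, hnot⟩ : ∃ x : G, x ∈ T ∧ (∀ t ∈ T, t * x = x * t) ∧ orderOf x = p ∧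
      ¬ (centralizer ({x} : Set G) ≤ M ∧
        ∀ L : Subgroup G, IsCoatom L → centralizer ({x} : Set G) ≤ L → L = M) := by
    by_contra hcon
    push Not at hcon
    have hz' := hcon z hzT hzc hz
    have hgz : g * z * g⁻¹ ∈ T := mem_normalizer_iff.1 hgN z |>.1 hzT
    have hgc : ∀ t ∈ T, t * (g * z * g⁻¹) = g * z * g⁻¹ * t := fun t ht => by
      have h1 : g⁻¹ * t * g ∈ T := mem_normalizer_iff''.1 hgN t |>.1 ht
      calc t * (g * z * g⁻¹) = g * (g⁻¹ * t * g * z) * g⁻¹ := by group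
        _ = g * (z * (g⁻¹ * t * g)) * g⁻¹ := by rw [hzc _ h1]
        _ = _ := by group
    have hgo : orderOf (g * z * g⁻¹) = p := by
      rw [← hz]; exact orderOf_injective (MulAut.conj g).toMonoidHom (MulAut.conj g).injective z
    have hw := hcon _ hgz hgc hgo
    refine hgM (mem_maximal_of_cj_eq hG hM (hw.2 _ (isCoatom_cj hM g) fun y hy => ?_))
    rw [mem_cj]
    refine hz'.1 (mem_centralizer_singleton_iff.2 ?_)
    have hy' := mem_centralizer_singleton_iff.1 hy
    calc g⁻¹ * y * g * z = g⁻¹ * (y * (g * z * g⁻¹)) * g := by group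
      _ = g⁻¹ * ((g * z * g⁻¹) * y) * g := by rw [hy']
      _ = _ := by group
  refine ⟨x, hxT, hxc, hx, isZGroup_of_rankLE_one
    (hG.1.of_dvd_nat (card_subgroup_dvd_card _)) (by_contra fun hr => hnot ?_), hnot⟩
  rw [← centralizer_zpowers] at hr ⊢
  have hu := inUniqueMaximal_centralizer h1403 hG hM (zpowers_le.2 (hT.le hxT))
    (fun q hq hd hα => hp ?_) hr
  · have hne : centralizer ((zpowers x : Subgroup G) : Set G) ≠ ⊤ := by
      rw [centralizer_zpowers]
      exact minSimple_centralizer_singleton_ne_top hG fun h => by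
        rw [h, orderOf_one] at hx; exact hp1.ne_one hx.symm
    refine ⟨le_of_inUniqueMaximal hu hM inf_le_left inf_le_right hne, fun L hL hle => ?_⟩
    exact eq_of_inUniqueMaximal hu hM inf_le_left hL (inf_le_right.trans hle)
  · rw [Nat.card_zpowers, hx] at hd
    rw [(Nat.prime_dvd_prime_iff_eq hq hp1).1 hd] at hα
    exact alpha_le_sigma h1403 hG hM hα

theorem pRankLE_two_of_not_sigma (h1403 : StmtS1403.{u}) (hG : IsMinSimpleOddOrder G)
    {M : Subgroup G} (hM : IsCoatom M) {p : ℕ} [Fact p.Prime] (hp : p ∉ sigma M) :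
    PRankLE p 2 M := by
  by_contra h
  exact hp (alpha_subset_sigma h1403 hG hM ⟨Fact.out, h⟩)

/-- BG 10.5: maximality of elementary subgroups of order `p²`. -/
theorem elementary_maximal (h1403 : StmtS1403.{u}) (hG : IsMinSimpleOddOrder G)
    {M : Subgroup G} (hM : IsCoatom M) {p : ℕ} [Fact p.Prime] (hp : p ∉ sigma M) {A : Subgroup G}
    (hAM : A ≤ M) (hA : IsElementaryAbelian p A) (hA2 : Nat.card A = p ^ 2) :
    ∀ B : Subgroup G, IsElementaryAbelian p B → A ≤ B → B = A := by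
  intro B hB hAB
  have hp1 : p.Prime := Fact.out
  by_contra hne
  have hlt : Nat.card A < Nat.card B := card_lt_of_lt (lt_of_le_of_ne hAB (Ne.symm hne))
  have hBA : B ≤ centralizer (A : Set G) :=
    (le_centralizer_iff_isMulCommutative.2 hB.1).trans (centralizer_le hAB)
  have hB2 : ¬ PRankLE p 2 B := fun h =>
    absurd (CfsgLib.Base.pRankLE_subgroup_iff.1 h B le_rfl hB) (by omega)
  have hu := inUniqueMaximal_of_pRank_centralizer h1403 hG hp1
    (isPGroup_ne_top hG (CfsgLib.Base.isPGroup_of_isElementaryAbelian hA))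
    (fun h => by
      have := CfsgLib.Base.pRankLE_subgroup_iff.1 h A le_rfl hA
      rw [hA2, pow_one] at this
      have h4 := Nat.pow_lt_pow_right hp1.one_lt (show 1 < 2 by norm_num)
      rw [pow_one] at h4
      omega)
    fun h => absurd (CfsgLib.Base.pRankLE_subgroup_iff.1 h B hBA hB) (by omega)
  have hBM : B ≤ M :=
    le_of_inUniqueMaximal hu hM hAM hAB (isPGroup_ne_top hG (CfsgLib.Base.isPGroup_of_isElementaryAbelian hB))
  exact hB2 (CfsgLib.Base.pRankLE_of_injective (inclusion hBM) (inclusion_injective hBM)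
    (pRankLE_two_of_not_sigma h1403 hG hM hp))

theorem exists_elementary_sq {M : Subgroup G} {p : ℕ} [Fact p.Prime] (h1 : ¬ PRankLE p 1 M) :
    ∃ A : Subgroup G, A ≤ M ∧ IsElementaryAbelian p A ∧ Nat.card A = p ^ 2 := by
  have hp : p.Prime := Fact.out
  obtain ⟨B, hBM, hB, hc⟩ := exists_elementary_of_not_pRankLE h1
  obtain ⟨n, hn⟩ := IsPGroup.iff_card.1 (CfsgLib.Base.isPGroup_of_isElementaryAbelian hB)
  have hn2 : 2 ≤ n := by
    by_contra h
    interval_cases n <;> simp_all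
    exact absurd hc (by have := hp.pos; omega)
  obtain ⟨A, hA⟩ := Sylow.exists_subgroup_card_pow_prime (G := B) p
    (hn ▸ pow_dvd_pow p hn2 : p ^ 2 ∣ Nat.card B)
  refine ⟨A.map B.subtype, (map_subtype_le A).trans hBM,
    CfsgLib.Base.isElementaryAbelian_le (map_subtype_le A) hB, ?_⟩
  rw [CfsgLib.Base.card_map_subtype]; exact hA

theorem not_ideal (h1403 : StmtS1403.{u}) (hG : IsMinSimpleOddOrder G)
    {M : Subgroup G} (hM : IsCoatom M) {p : ℕ} [Fact p.Prime] (hp : p ∉ sigma M)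
    (h1 : ¬ PRankLE p 1 M) : ¬ IsIdealPrime p G := by
  rintro ⟨-, -, h⟩
  obtain ⟨A, hAM, hA, hA2⟩ := exists_elementary_sq h1
  obtain ⟨S, hAS⟩ := (CfsgLib.Base.isPGroup_of_isElementaryAbelian hA).exists_le_sylow
  obtain ⟨B, -, hB, hlt⟩ := h S A hAS hA hA2
  exact hlt.ne (elementary_maximal h1403 hG hM hp hAM hA hA2 B hB hlt.le).symm

/-- BG 10.5, second part. -/
theorem of_normalizer_order_prime (h1403 : StmtS1403.{u}) (hG : IsMinSimpleOddOrder G)
    {M : Subgroup G} (hM : IsCoatom M) {p : ℕ} [Fact p.Prime] (hp : p ∉ sigma M)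
    {X : Subgroup G} (hX : Nat.card X = p) (hNX : normalizer (X : Set G) ≤ M) :
    (PRankLE p 2 M ∧ ¬ PRankLE p 1 M) ∧ ¬ IsIdealPrime p G ∧
      ∃ A : Subgroup G, IsElementaryAbelian p A ∧ Nat.card A = p ^ 2 ∧ X ≤ A := by
  have hp1 : p.Prime := Fact.out
  have hXM : X ≤ M := le_normalizer.trans hNX
  have hpM : p ∣ Nat.card M := hX ▸ card_dvd_of_le hXM
  have hXp : IsPGroup p X := IsPGroup.of_card (n := 1) (by rw [hX, pow_one])
  have hXe : IsElementaryAbelian p X := by
    haveI := isCyclic_of_prime_card hX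
    refine ⟨⟨⟨fun a b => ?_⟩⟩, fun a ha => by
      have := congrArg Subtype.val (pow_card_eq_one' (x := (⟨a, ha⟩ : X)))
      simpa [hX] using this⟩
    letI := IsCyclic.commGroup (α := X)
    exact mul_comm a b
  have hr2 := pRankLE_two_of_not_sigma h1403 hG hM hp
  obtain ⟨T, hT, hXT⟩ := exists_sylIn_ge (p := p) hXp hXM
  have hr1 : ¬ PRankLE p 1 M := by
    intro h1
    refine hp ((mem_sigma_iff hT).2 ⟨hpM, le_trans ?_ hNX⟩)
    have hr : PRankLE p 1 T := (pRankLE_iff_sylIn hT).1 h1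
    intro g hg
    refine mem_normalizer_iff_cj.2 (eq_of_le_of_card_ge ?_ (card_cj g X).ge)
    intro y hy
    have hyT : y ∈ T := by
      rw [← mem_normalizer_iff_cj.1 hg]
      exact cj_mono hXT hy
    obtain ⟨z, hzT, hz, hzc⟩ := exists_central_orderOf hT.isPGroup
      (sylIn_ne_bot hT hpM)
    have hzA := CfsgLib.Base.isElementaryAbelian_zpowers (hz ▸ pow_orderOf_eq_one z : z ^ p = 1)
    have key : ∀ w : G, w ∈ T → w ^ p = 1 → w ∈ zpowers z := fun w hw hwp =>
      mem_of_commute_of_card_le hzA hwp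
        (fun b ⟨i, hb⟩ => hb ▸ (Commute.zpow_left ((hzc w hw).symm) i))
        (by rw [pow_one, Nat.card_zpowers, hz]) hr (zpowers_le.2 hzT) hw
    have hXz : X = zpowers z := eq_of_le_of_card_ge (fun w hw => key w (hXT hw) (hXe.2 w hw))
      (by rw [hX, Nat.card_zpowers, hz])
    rw [hXz]
    exact key y hyT ((CfsgLib.Base.isElementaryAbelian_map (MulAut.conj g).toMonoidHom hXe).2 y hy)
  refine ⟨⟨hr2, hr1⟩, not_ideal h1403 hG hM hp hr1, ?_⟩
  obtain ⟨z, hzT, hz, hzc⟩ := exists_central_orderOf hT.isPGroup (sylIn_ne_bot hT hpM)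
  have hzp : z ^ p = 1 := hz ▸ pow_orderOf_eq_one z
  by_cases hzX : z ∈ X
  · have hXz : zpowers z = X := eq_of_le_of_card_ge (zpowers_le.2 hzX)
      (by rw [hX, Nat.card_zpowers, hz])
    obtain ⟨A, hAT, hA, hA2⟩ := exists_elementary_sq
      (M := T) fun h => hr1 ((pRankLE_iff_sylIn hT).2 h)
    refine ⟨A, hA, hA2, ?_⟩
    rw [← hXz, zpowers_le]
    exact mem_of_commute_of_card_le hA hzp (fun a ha => hzc a (hAT ha)) hA2.ge
      ((pRankLE_iff_sylIn hT).1 hr2) hAT hzT
  · have hle : X ≤ centralizer (zpowers z : Set G) := fun w hw => by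
      refine mem_centralizer_iff.2 ?_
      rintro _ ⟨i, rfl⟩
      exact ((Commute.zpow_right (hzc w (hXT hw)) i)).symm
    have hE := CfsgLib.Base.isElementaryAbelian_sup hXe
      (CfsgLib.Base.isElementaryAbelian_zpowers hzp) hle
    refine ⟨_, hE, ?_, le_sup_left⟩
    obtain ⟨n, hn⟩ := IsPGroup.iff_card.1 (CfsgLib.Base.isPGroup_of_isElementaryAbelian hE)
    have h1 : Nat.card X < Nat.card ↥(X ⊔ zpowers z) := card_lt_of_lt
      (lt_of_le_of_ne le_sup_left fun e => hzX (e ▸ mem_sup_right (mem_zpowers z)))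
    have h2 : Nat.card ↥(X ⊔ zpowers z) ≤ p ^ 2 := CfsgLib.Base.pRankLE_subgroup_iff.1
      ((pRankLE_iff_sylIn hT).1 hr2) _ (sup_le hXT (zpowers_le.2 hzT)) hE
    rw [hn, hX] at h1
    rw [hn] at h2 ⊢
    have h3 : n ≤ 2 := (Nat.pow_le_pow_iff_right hp1.one_lt).1 h2
    interval_cases n
    · rw [pow_zero] at h1; exact absurd h1 (by have := hp1.pos; omega)
    · rw [pow_one] at h1; exact absurd h1 (lt_irrefl _)
    · rfl

end CfsgLib.FT
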