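import Cfsg.Agent.Lib.FT.SylowNormalizer
import Cfsg.Agent.Lib.OddOrder.NarrowSolvable
import Cfsg.Agent.Lib.Transfer.NormalPComplement

/-!
The set `β(M)` and normal `p`-complements in `M'` (BG, Theorem 10.8).
-/

set_option autoImplicit false
set_option linter.style.haveILetI false

universe u

namespace CfsgLib.FT

open Cfsg CfsgLib.OddOrder CfsgLib.Techniques Subgroup

/-- S1453 as a proposition. -/
def StmtS1453.{v} : Prop :=
  ∀ {R : Type v} [Group R] [Finite R] (p : ℕ) [Fact p.Prime] (_hp : p ≠ 2) (_hR : IsPGroup p R)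
    (_hr : ¬ Cfsg.PRankLE p 2 R) (E : Subgroup R) (_hE : Cfsg.IsElementaryAbelian p E)
    (_hE2 : Nat.card E = p ^ 2)
    (_hEmax : ∀ B : Subgroup R, Cfsg.IsElementaryAbelian p B → E ≤ B → B = E),
    ¬ E ≤ Subgroup.centralizer ((Subgroup.closure {x : R | x ∈ Subgroup.upperCentralSeries R 2 ∧ x ^ p = 1} : Subgroup R) : Set R) ∧
      Nat.card ↥(Subgroup.closure {x : R | x ∈ Subgroup.center R ∧ x ^ p = 1}) = p ∧
      (Cfsg.IsElementaryAbelian p (Subgroup.closure {x : R | x ∈ Subgroup.upperCentralSeries R 2 ∧ x ^ p = 1}) ∧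
        Nat.card ↥(Subgroup.closure {x : R | x ∈ Subgroup.upperCentralSeries R 2 ∧ x ^ p = 1}) = p ^ 2) ∧
      (Subgroup.centralizer ((Subgroup.closure {x : R | x ∈ Subgroup.upperCentralSeries R 2 ∧ x ^ p = 1} : Subgroup R) : Set R)).Characteristic ∧
      (Subgroup.centralizer ((Subgroup.closure {x : R | x ∈ Subgroup.upperCentralSeries R 2 ∧ x ^ p = 1} : Subgroup R) : Set R)).index = p

/-- A `p`-group with a maximal elementary abelian subgroup of order `p²` is narrow. -/
theorem isNarrow_of_maximal_elementary (h1453 : StmtS1453.{u}) {R : Type u} [Group R] [Finite R]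
    {p : ℕ} [Fact p.Prime] (hp2 : p ≠ 2) (hR : IsPGroup p R) {E : Subgroup R}
    (hE : IsElementaryAbelian p E) (hE2 : Nat.card E = p ^ 2)
    (hEmax : ∀ B : Subgroup R, IsElementaryAbelian p B → E ≤ B → B = E) : IsNarrow p R := by
  by_cases hr : PRankLE p 2 R
  · exact Or.inl hr
  have hp : p.Prime := Fact.out
  obtain ⟨hET, -, -, hTc, hTi⟩ := h1453 p hp2 hR hr E hE hE2 hEmax
  obtain ⟨T, hT⟩ : ∃ T : Subgroup R, T =
      centralizer ((closure {x : R | x ∈ Subgroup.upperCentralSeries R 2 ∧ x ^ p = 1} :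
        Subgroup R) : Set R) := ⟨_, rfl⟩
  rw [← hT] at hET hTc hTi
  haveI := hTc
  obtain ⟨e, heE, heT⟩ := SetLike.not_le_iff_exists.1 hET
  have hep : e ^ p = 1 := hE.2 e heE
  have he : orderOf e = p := orderOf_eq_prime hep fun h => heT (by rw [h]; exact one_mem T)
  have hRne : (⊤ : Subgroup R) ≠ ⊥ := fun h => by
    have := le_bot_iff.1 (h ▸ (le_top : E ≤ ⊤))
    rw [this, card_bot] at hE2
    exact absurd hE2 (Nat.one_lt_pow (by norm_num) hp.one_lt).ne
  obtain ⟨z, -, hz, hzc⟩ := exists_central_orderOf (hR.to_subgroup ⊤) hRne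
  have hzp : z ^ p = 1 := hz ▸ pow_orderOf_eq_one z
  have hzA := CfsgLib.Base.isElementaryAbelian_zpowers hzp
  have hzcen : ∀ S : Set R, zpowers z ≤ centralizer S := fun S =>
    zpowers_le.2 (mem_centralizer_iff.2 fun w _ => hzc w (mem_top w))
  have hzT : z ∈ T := hT ▸ hzcen _ (mem_zpowers z)
  have hzE : zpowers z ≤ E := by
    have h := hEmax _ (CfsgLib.Base.isElementaryAbelian_sup hzA hE (hzcen _)) le_sup_right
    rw [← h]; exact le_sup_left
  have hET' : Nat.card ↥(E ⊓ T) ≤ p := by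
    obtain ⟨k, hk⟩ := IsPGroup.iff_card.1 (hR.to_subgroup (E ⊓ T))
    have hlt : Nat.card ↥(E ⊓ T) < p ^ 2 := hE2 ▸ card_lt_of_lt
      (lt_of_le_of_ne inf_le_left fun h => hET (h ▸ inf_le_right))
    rw [hk] at hlt ⊢
    exact (Nat.pow_le_pow_right hp.pos
      (Nat.lt_succ_iff.1 ((Nat.pow_lt_pow_iff_right hp.one_lt).1 hlt))).trans (pow_one p).le
  set R₀ := zpowers e with hR₀
  have hR₀T : R₀ ⊓ T = ⊥ := by
    obtain ⟨k, hk⟩ := IsPGroup.iff_card.1 (hR.to_subgroup (R₀ ⊓ T))
    have hlt : Nat.card ↥(R₀ ⊓ T) < p := by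
      refine lt_of_lt_of_eq (card_lt_of_lt (lt_of_le_of_ne (inf_le_left : R₀ ⊓ T ≤ R₀) fun h => ?_))
        (by rw [Nat.card_zpowers, he])
      exact heT ((h.ge.trans inf_le_right) (mem_zpowers e))
    rw [hk] at hlt
    have : k = 0 := Nat.lt_one_iff.1 ((Nat.pow_lt_pow_iff_right hp.one_lt).1 (by rwa [pow_one]))
    exact card_eq_one.1 (by rw [hk, this, pow_zero])
  set R₁ := T ⊓ centralizer (R₀ : Set R) with hR₁
  refine Or.inr ⟨R₀, R₁, by rw [Nat.card_zpowers, he], ?_, ?_, ?_, ?_⟩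
  · refine isCyclic_of_pRankLE_one hp2 (hR.to_subgroup _)
      (CfsgLib.Base.pRankLE_subgroup_iff.2 fun A hA hAe => ?_)
    have hAz : A ≤ centralizer (R₀ : Set R) := hA.trans inf_le_right
    have hB := CfsgLib.Base.isElementaryAbelian_sup hzA
      (CfsgLib.Base.isElementaryAbelian_sup hAe
        (CfsgLib.Base.isElementaryAbelian_zpowers hep) hAz) (hzcen _)
    have hEB : E = R₀ ⊔ zpowers z := by
      refine (eq_of_le_of_card_ge (sup_le (zpowers_le.2 heE) hzE) ?_).symm
      obtain ⟨k, hk⟩ := IsPGroup.iff_card.1 (hR.to_subgroup (R₀ ⊔ zpowers z))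
      have hlt : p < Nat.card ↥(R₀ ⊔ zpowers z) := by
        refine lt_of_eq_of_lt (by rw [Nat.card_zpowers, hz] : p = Nat.card (zpowers z))
          (card_lt_of_lt (lt_of_le_of_ne le_sup_right fun h => heT ?_))
        exact zpowers_le.2 hzT (h ▸ mem_sup_left (mem_zpowers e))
      rw [hE2, hk]
      refine Nat.pow_le_pow_right hp.pos ?_
      rw [hk, show p < p ^ k ↔ p ^ 1 < p ^ k by rw [pow_one],
        Nat.pow_lt_pow_iff_right hp.one_lt] at hlt
      exact hlt
    have hBE : zpowers z ⊔ (A ⊔ R₀) = E := hEmax _ hB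
      (hEB ▸ sup_le (le_sup_right.trans le_sup_right) le_sup_left)
    have hAE : A ≤ E := hBE ▸ le_sup_left.trans le_sup_right
    rw [pow_one]
    exact (card_le_of_le (le_inf hAE (hA.trans inf_le_left))).trans hET'
  · exact le_bot_iff.1 (by rw [← hR₀T]; exact inf_le_inf_left _ inf_le_left)
  · intro a ha b hb
    exact mem_centralizer_iff.1 hb.2 a ha
  · refine le_antisymm (sup_le (le_centralizer R₀) inf_le_right) fun x hx => ?_
    have hi : R₀ ⊔ T = ⊤ := by
      have hlt : T < R₀ ⊔ T := lt_of_le_of_ne le_sup_right fun h =>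
        heT (h ▸ mem_sup_left (mem_zpowers e))
      have hdvd : (R₀ ⊔ T).index ∣ p := hTi ▸ index_dvd_of_le hlt.le
      rcases (Nat.dvd_prime hp).1 hdvd with h | h
      · exact index_eq_one.1 h
      · refine absurd (eq_of_le_of_card_ge hlt.le ?_) hlt.ne
        have e1 := card_mul_index T
        have e2 := card_mul_index (R₀ ⊔ T)
        rw [hTi] at e1; rw [h] at e2
        exact le_of_eq (Nat.eq_of_mul_eq_mul_right hp.pos (e2.trans e1.symm))
    have hx' : x ∈ ((R₀ ⊔ T : Subgroup R) : Set R) := by rw [hi]; trivial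
    rw [mul_normal, Set.mem_mul] at hx'
    obtain ⟨a, ha, b, hb, rfl⟩ := hx'
    refine mul_mem_sup ha ⟨hb, ?_⟩
    have := mul_mem (inv_mem (le_centralizer R₀ ha)) hx
    rwa [inv_mul_cancel_left] at this

theorem isNarrow_congr {R S : Type u} [Group R] [Group S] {p : ℕ} (e : R ≃* S)
    (h : IsNarrow p R) : IsNarrow p S := by
  rcases h with h | ⟨R₀, R₁, h0, h1, h2, h3, h4⟩
  · exact Or.inl ((CfsgLib.Base.pRankLE_congr e).1 h)
  · refine Or.inr ⟨R₀.map e.toMonoidHom, R₁.map e.toMonoidHom,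
      (CfsgLib.Base.card_map_mulEquiv e R₀).trans h0,
      haveI := h1
      isCyclic_of_surjective _ (e.toMonoidHom.subgroupMap_surjective R₁), ?_, ?_, ?_⟩
    · rw [← map_inf _ _ _ e.injective, h2, Subgroup.map_bot]
    · rintro _ ⟨a, ha, rfl⟩ _ ⟨b, hb, rfl⟩
      rw [← map_mul, ← map_mul, h3 a ha b hb]
    · rw [← Subgroup.map_sup, h4, CfsgLib.Base.map_centralizer_mulEquiv]
      rfl

/-- A finite group with normal `q`-complements for every prime is nilpotent. -/
theorem isNilpotent_of_pComplements {K : Type u} [Group K] [Finite K]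
    (h : ∀ q : ℕ, q.Prime → q ∣ Nat.card K → HasNormalPComplement q K) : Group.IsNilpotent K := by
  apply ((Group.isNilpotent_of_finite_tfae (G := K)).out 0 3 rfl rfl).mpr
  intro p hp P
  set D : Subgroup K := ⨅ q : {q : ℕ // q.Prime ∧ q ∣ Nat.card K ∧ q ≠ p}, pResidual (q : ℕ) K
    with hD
  haveI hDn : D.Normal := normal_iInf_normal fun q => CfsgLib.Transfer.pResidual_normal
  have hPD : (P : Subgroup K) ≤ D := by
    refine le_iInf fun q x hx => CfsgLib.Transfer.mem_pResidual_of_coprime ?_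
    obtain ⟨k, hk⟩ := IsPGroup.iff_orderOf.1 P.isPGroup' ⟨x, hx⟩
    rw [Subgroup.orderOf_mk] at hk
    rw [hk]
    exact ((Nat.coprime_primes hp.out q.2.1).2 (Ne.symm q.2.2.2)).pow_left k
  have hDp : IsPGroup p D := by
    refine IsPGroup.of_card (n := (Nat.card D).primeFactorsList.length)
      (Nat.eq_prime_pow_of_unique_prime_dvd Nat.card_pos.ne' fun {d} hd hdD => ?_)
    by_contra hne
    have hdK := hdD.trans D.card_subgroup_dvd_card
    haveI := Fact.mk hd
    exact CfsgLib.Transfer.hasNormalPComplement_iff_pResidual.1 (h d hd hdK)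
      (hdD.trans (card_dvd_of_le (iInf_le
        (fun q : {q : ℕ // q.Prime ∧ q ∣ Nat.card K ∧ q ≠ p} => pResidual (q : ℕ) K)
        ⟨d, hd, hdK, hne⟩)))
  rw [← P.is_maximal' hDp hPD]
  exact hDn

variable {G : Type u} [Group G] [Finite G]
variable (h1403 : StmtS1403.{u}) (h1444 : StmtS1444.{u}) (h1453 : StmtS1453.{u})
  (hG : IsMinSimpleOddOrder G)

include h1403 hG in
theorem beta_subset_sigma {M : Subgroup G} (hM : IsCoatom M) : beta M ⊆ sigma M :=
  fun _ hp => alpha_le_sigma h1403 hG hM hp.1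

include h1403 h1444 h1453 hG

/-- The structure of `M` at a prime outside `β(M)`. -/
theorem local_structure_not_beta {M : Subgroup G} (hM : IsCoatom M) {p : ℕ} [Fact p.Prime]
    (hd : p ∣ Nat.card M) (hp : p ∉ beta M) :
    commutator M ≤ pPrimePCore p M ∧
      ∀ q : ℕ, q.Prime → q ∣ (pPrimeCore p M).index → q ≤ p := by
  haveI := maximal_solvable hG hM
  by_cases hr : PRankLE p 2 M
  · exact smallRank_core (maximal_odd hG M) (sigma_odd hG hd) hr
  have hp1 : p.Prime := Fact.out
  have hpα : p ∈ alpha M := ⟨hp1, hr⟩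
  have hσ := alpha_subset_sigma h1403 hG hM hpα
  obtain ⟨S₀⟩ : Nonempty (Sylow p M) := inferInstance
  have hT := sylIn_sylow_map S₀
  set T := (S₀ : Subgroup M).map M.subtype with hTdef
  have htop := sigma_sylIn_top hσ hT
  have hrG : ¬ PRankLE p 2 G := fun h => hr (CfsgLib.Base.pRankLE_subgroup h M)
  obtain ⟨S, A, hAS, hA, hA2, hmax⟩ : ∃ (S : Sylow p G) (A : Subgroup G), A ≤ (S : Subgroup G) ∧
      IsElementaryAbelian p A ∧ Nat.card A = p ^ 2 ∧
      ∀ B : Subgroup G, B ≤ (S : Subgroup G) → IsElementaryAbelian p B → ¬ A < B := by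
    by_contra hcon
    push Not at hcon
    exact hp ⟨hpα, hp1, hrG, fun S A h1 h2 h3 => hcon S A h1 h2 h3⟩
  obtain ⟨k, -, hk⟩ := htop.exists_conj_eq (sylIn_top S)
  have hkA : cj k A ≤ T := hk ▸ cj_mono hAS
  have hn : IsNarrow p T := by
    refine isNarrow_of_maximal_elementary h1453 (sigma_odd hG hd) hT.isPGroup
      (E := (cj k A).subgroupOf T)
      (CfsgLib.Base.isElementaryAbelian_subgroupOf
        (CfsgLib.Base.isElementaryAbelian_map _ hA) T) ?_ ?_
    · rw [CfsgLib.Base.card_subgroupOf hkA, card_cj, hA2]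
    · intro B hB hle
      have hB' : B.map T.subtype = cj k A := by
        refine le_antisymm ?_ ?_
        · by_contra hnle
          refine hmax (cj k⁻¹ (B.map T.subtype)) ?_
            (CfsgLib.Base.isElementaryAbelian_map _ (CfsgLib.Base.isElementaryAbelian_map _ hB))
            (lt_of_le_of_ne ?_ fun he => hnle ?_)
          · exact (cj_mono (map_subtype_le B)).trans (by rw [← hk, cj_inv_cj])
          · rw [← cj_inv_cj k A]
            refine cj_mono ?_
            rw [← map_subgroupOf_eq_of_le hkA]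
            exact map_mono hle
          · rw [he, cj_cj_inv]
        · rw [← map_subgroupOf_eq_of_le hkA]
          exact map_mono hle
      rw [← hB']
      exact (comap_map_eq_self_of_injective T.subtype_injective B).symm
  exact narrow_core (maximal_odd hG M) (sigma_odd hG hd) S₀
    (isNarrow_congr (((S₀ : Subgroup M).equivMapOfInjective M.subtype M.subtype_injective).symm) hn)
    fun _ => pLengthLE_one_of_ne_top h1403 h1444 hG hM.1

theorem hasNormalPComplement_derived {M : Subgroup G} (hM : IsCoatom M) {p : ℕ} [Fact p.Prime]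
    (hp : p ∉ beta M) : HasNormalPComplement p (commutator M) := by
  by_cases hd : p ∣ Nat.card M
  · obtain ⟨hc, hq⟩ := local_structure_not_beta h1403 h1444 h1453 hG hM hd hp
    exact (local_consequences (maximal_odd hG M) hc hq).2.2.1
  · exact CfsgLib.Transfer.hasNormalPComplement_of_not_dvd fun h =>
      hd (h.trans (card_subgroup_dvd_card _))

theorem hasNormalPComplement_derived' {M : Subgroup G} (hM : IsCoatom M) {p : ℕ} [Fact p.Prime]
    (hp : p ∉ beta M) : HasNormalPComplement p ↥⁅M, M⁆ :=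
  (CfsgLib.Transfer.hasNormalPComplement_congr
    (((commutator M).equivMapOfInjective M.subtype M.subtype_injective).trans
      (MulEquiv.subgroupCongr (map_subtype_commutator M)))).1
    (hasNormalPComplement_derived h1403 h1444 h1453 hG hM hp)

theorem piHall_piCore_beta {M : Subgroup G} (hM : IsCoatom M) :
    IsPiHall (beta M) (piCore (beta M) M) := by
  refine ⟨CfsgLib.Base.piCore_primes _ _, fun p hp hpβ hd => ?_⟩
  haveI := Fact.mk hp
  obtain ⟨P⟩ : Nonempty (Sylow p M) := inferInstance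
  refine P.not_dvd_index (hd.trans (index_dvd_of_le ?_))
  set K := commutator M with hK
  set N : Subgroup K := ⨅ q : {q : ℕ // q.Prime ∧ q ∉ beta M}, pResidual (q : ℕ) K with hN
  haveI hNn : N.Normal := normal_iInf_normal fun q => CfsgLib.Transfer.pResidual_normal
  have hNβ : ∀ q : ℕ, q.Prime → q ∣ Nat.card N → q ∈ beta M := by
    intro q hq hqd
    by_contra hqβ
    haveI := Fact.mk hq
    exact CfsgLib.Transfer.hasNormalPComplement_iff_pResidual.1
      (hasNormalPComplement_derived h1403 h1444 h1453 hG hM hqβ)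
      (hqd.trans (card_dvd_of_le (iInf_le
        (fun q : {q : ℕ // q.Prime ∧ q ∉ beta M} => pResidual (q : ℕ) K) ⟨q, hq, hqβ⟩)))
  have hNle : N.map K.subtype ≤ piCore (beta M) M := by
    refine (map_mono (CfsgLib.Base.le_piCore hNβ)).trans ?_
    rw [CfsgLib.Base.map_piCore_eq_inf]
    exact inf_le_left
  intro x hx
  have hxK : x ∈ K := sylow_le_derived h1403 hG hM (alpha_le_sigma h1403 hG hM hpβ.1) P hx
  refine hNle ⟨⟨x, hxK⟩, mem_iInf.2 fun q => CfsgLib.Transfer.mem_pResidual_of_coprime ?_, rfl⟩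
  obtain ⟨k, hk⟩ := IsPGroup.iff_orderOf.1 P.isPGroup' ⟨x, hx⟩
  rw [Subgroup.orderOf_mk] at hk ⊢
  rw [hk]
  exact ((Nat.coprime_primes hp q.2.1).2 fun e => q.2.2 (e ▸ hpβ)).pow_left k

omit h1444 h1453 in
/-- A Hall `β'`-subgroup of a subgroup with the normal complements is nilpotent. -/
theorem exists_nilpotent_hall {M L : Subgroup G} (hM : IsCoatom M) (hLM : L ≤ M)
    (hL : ∀ (p : ℕ) [Fact p.Prime], p ∉ beta M → HasNormalPComplement p L) :
    ∃ H : Subgroup G, IsPiHallOf {q | q.Prime ∧ q ∉ beta M} H L ∧ Group.IsNilpotent H := by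
  haveI : Group.IsSolvable L := minSimple_solvable hG (ne_top_of_le_maximal hM hLM)
  obtain ⟨H, hH, -⟩ := CfsgLib.Coprime.hallD_of_solvable (G := L) {q | q.Prime ∧ q ∉ beta M}
  refine ⟨H.map L.subtype, CfsgLib.Coprime.piHallOf_map_subtype hH, CfsgLib.Base.isNilpotent_map _ ?_⟩
  refine isNilpotent_of_pComplements fun q hq hd => ?_
  haveI := Fact.mk hq
  exact CfsgLib.Transfer.hasNormalPComplement_subgroup (hL q (hH.1 q hq hd).2) H

end CfsgLib.FT
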