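import Cfsg.Agent.Lib.FT.PLengthOne
import Cfsg.Agent.Lib.OddOrder.PLengthZGroup

/-!
`StmtS1444` (BG 3.6) holds.
-/

set_option autoImplicit false

universe u

namespace CfsgLib.FT

theorem stmtS1444 : StmtS1444.{u} :=
  fun {_} _ _ _ hodd H R R₀ _ hHall hR hR₀ hR₀p hZ _ _ =>
    CfsgLib.OddOrder.PLengthZGroup.pLengthLE_commutator hodd H R R₀ hHall hR hR₀ hR₀p hZ

end CfsgLib.FT
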