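import Cfsg.Agent.Lib.FT.Beta

/-!
The section 10 rows as consequences of earlier interface propositions.
-/

set_option autoImplicit false
set_option linter.style.haveILetI false

universe u

namespace CfsgLib.FT

open Cfsg CfsgLib.OddOrder CfsgLib.Techniques Subgroup

theorem stmtS1350_of (h1403 : StmtS1403.{u}) : StmtS1350.{u} := by
  intro G _ _ hG M hM
  have h := sigmaCore_hall h1403 hG hM
  exact ⟨h, isPiHall_of_isPiHallOf subset_rfl h,
    fun N hn hN => sigmaCore_unique h1403 hG hM hn hN⟩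

theorem stmtS1404_of (h1403 : StmtS1403.{u}) : StmtS1404.{u} := by
  intro G _ _ hG M hM p _ hp X hXp hX1 hXM
  exact ⟨fun g hg => exists_mul_centralizer h1403 hG hM hp hXp hX1 hXM hg,
    normalizer_eq_mul_centralizer h1403 hG hM hp hXp hX1 hXM⟩

theorem stmtS1405_of (h1403 : StmtS1403.{u}) : StmtS1405.{u} := by
  intro G _ _ hG M hM
  haveI := maximal_solvable hG hM
  have h := alphaCore_hall h1403 hG hM
  exact ⟨h, isPiHall_of_isPiHallOf (alpha_le_sigma h1403 hG hM) h,
    alphaCore_le_sigmaCore h1403 hG hM, rankLE_quotient_alphaCore h1403 hG hM,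
    isNilpotent_derived_quotient (maximal_odd hG M) fun p hp h => ⟨hp, h⟩⟩

theorem stmtS1406_of (h1403 : StmtS1403.{u}) : StmtS1406.{u} := by
  intro G _ _ hG M hM X hXM hXα hr
  exact inUniqueMaximal_centralizer h1403 hG hM hXM hXα hr

theorem stmtS1407_of (h1403 : StmtS1403.{u}) : StmtS1407.{u} := by
  intro G _ _ hG M hM _ p _ hpM hp P
  obtain ⟨x, hxT, hxc, hx, hZ, hnot⟩ :=
    exists_central_zgroup h1403 hG hM hpM hp (sylIn_sylow_map P)
  refine ⟨x, ?_, hx, hZ, hnot⟩
  obtain ⟨y, hy, rfl⟩ := hxT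
  exact ⟨y, ⟨⟨y, hy⟩, mem_center_iff.2 fun z =>
    Subtype.ext (Subtype.ext (hxc _ ⟨z, z.2, rfl⟩)), rfl⟩, rfl⟩

theorem stmtS1408_of (h1403 : StmtS1403.{u}) : StmtS1408.{u} := by
  intro G _ _ hG M hM p _ hp _ hr1
  exact ⟨not_ideal h1403 hG hM hp hr1, fun A hAM hA hA2 =>
    elementary_maximal h1403 hG hM hp hAM hA hA2⟩

theorem stmtS1409_of (h1403 : StmtS1403.{u}) : StmtS1409.{u} := by
  intro G _ _ hG M hM p _ hp X hX hNX
  exact of_normalizer_order_prime h1403 hG hM hp hX hNX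

theorem stmtS1410_of (h1403 : StmtS1403.{u}) (h1444 : StmtS1444.{u}) : StmtS1410.{u} := by
  intro G _ _ hG p _ H hH
  exact pLengthLE_one_of_ne_top h1403 h1444 hG hH

theorem stmtS1411_of (h1403 : StmtS1403.{u}) (h1444 : StmtS1444.{u}) : StmtS1411.{u} := by
  intro G _ _ hG p _ P V hV
  exact ⟨sylow_eq_commutator h1403 h1444 hG P hV,
    sylow_le_derived_normalizer h1403 h1444 hG P⟩

theorem stmtS1412_of (h1403 : StmtS1403.{u}) (h1444 : StmtS1444.{u}) (h1448 : StmtS1448.{u}) :
    StmtS1412.{u} := by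
  intro G _ _ hG p _ P hr
  exact sylow_rank_two_structure h1403 h1444 hG h1448 P hr

theorem stmtS1413_of (h1403 : StmtS1403.{u}) (h1444 : StmtS1444.{u}) : StmtS1413.{u} := by
  intro G _ _ hG p _ P
  exact ⟨fun Q x hQ hx => exists_normalizer_cj_eq h1403 h1444 hG P hQ hx,
    fun Q hQ => sylow_normalizer_inf h1403 h1444 hG P hQ,
    fun R Q hR hQ hn => normalizer_le_normalizer_of_sylow h1403 h1444 hG P hR hQ hn⟩

theorem stmtS1414_of (h1403 : StmtS1403.{u}) (h1444 : StmtS1444.{u}) (h1453 : StmtS1453.{u}) :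
    StmtS1414.{u} := by
  intro G _ _ hG M hM
  have hhall : IsPiHallOf (beta M) (piCoreOf (beta M) M) M :=
    CfsgLib.Coprime.piHallOf_map_subtype (piHall_piCore_beta h1403 h1444 h1453 hG hM)
  refine ⟨hhall, isPiHall_of_isPiHallOf (beta_subset_sigma h1403 hG hM) hhall, ?_, ?_, ?_⟩
  · exact exists_nilpotent_hall h1403 hG hM (Subgroup.commutator_le_self M)
      fun p _ hp => hasNormalPComplement_derived' h1403 h1444 h1453 hG hM hp
  · exact exists_nilpotent_hall h1403 hG hM (sigmaCore_le M) fun p _ hp =>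
      CfsgLib.Transfer.hasNormalPComplement_of_le (sigmaCore_le_derived h1403 hG hM)
        (hasNormalPComplement_derived' h1403 h1444 h1453 hG hM hp)
  · intro p hp hd hpβ
    haveI := Fact.mk hp
    exact ⟨hasNormalPComplement_derived' h1403 h1444 h1453 hG hM hpβ,
      CfsgLib.Transfer.hasNormalPComplement_of_le (sigmaCore_le_derived h1403 hG hM)
        (hasNormalPComplement_derived' h1403 h1444 h1453 hG hM hpβ),
      (local_structure_not_beta h1403 h1444 h1453 hG hM hd hpβ).2⟩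

end CfsgLib.FT
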