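import Cfsg.Prelude.Def_OddOrderLocal
import Cfsg.Agent.Lib.Base.Cores
import Cfsg.Agent.Lib.Base.Rank
import Cfsg.Agent.Lib.Base.Fitting
import Cfsg.Agent.Lib.FT.TypeDefs

/-!
# Invariance of the local odd order vocabulary under group isomorphisms

For `e : G ≃* G'` the image of a subgroup is `M.map e.toMonoidHom`.
-/

set_option autoImplicit false
set_option linter.style.haveILetI false
set_option linter.unusedSectionVars false

namespace CfsgLib.FT

open Subgroup Cfsg

universe u

variable {G G' : Type u} [Group G] [Group G']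

/-- The restriction of an isomorphism to a subgroup. -/
noncomputable def subIso (e : G ≃* G') (M : Subgroup G) : M ≃* M.map e.toMonoidHom :=
  e.subgroupMap M

@[simp]
theorem coe_subIso (e : G ≃* G') (M : Subgroup G) (x : M) : (subIso e M x : G') = e x := rfl

theorem map_subIso_subtype (e : G ≃* G') (M : Subgroup G) (N : Subgroup M) :
    (N.map (subIso e M).toMonoidHom).map (M.map e.toMonoidHom).subtype =
      (N.map M.subtype).map e.toMonoidHom := by
  rw [map_map, map_map]; rfl

theorem card_map_equiv (e : G ≃* G') (H : Subgroup G) :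
    Nat.card (H.map e.toMonoidHom) = Nat.card H := card_map_of_injective e.injective

theorem relIndex_map_equiv (e : G ≃* G') (H K : Subgroup G) :
    (H.map e.toMonoidHom).relIndex (K.map e.toMonoidHom) = H.relIndex K :=
  relIndex_map_map_of_injective H K (f := e.toMonoidHom) e.injective

theorem index_map_mulEquiv (e : G ≃* G') (H : Subgroup G) :
    (H.map e.toMonoidHom).index = H.index := index_map_equiv H e

theorem apply_mem_map (e : G ≃* G') {H : Subgroup G} {x : G} :
    e x ∈ H.map e.toMonoidHom ↔ x ∈ H := mem_map_iff_mem e.injective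

theorem map_symm_map (e : G ≃* G') (H : Subgroup G) :
    (H.map e.toMonoidHom).map e.symm.toMonoidHom = H := by
  ext x; simp [Subgroup.mem_map]

theorem map_map_symm (e : G ≃* G') (H : Subgroup G') :
    (H.map e.symm.toMonoidHom).map e.toMonoidHom = H := by
  ext x; simp [Subgroup.mem_map]

theorem map_eq_bot_equiv (e : G ≃* G') (H : Subgroup G) : H.map e.toMonoidHom = ⊥ ↔ H = ⊥ :=
  map_eq_bot_iff_of_injective _ e.injective

theorem map_le_map_equiv (e : G ≃* G') {H K : Subgroup G} :
    H.map e.toMonoidHom ≤ K.map e.toMonoidHom ↔ H ≤ K :=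
  map_le_map_iff_of_injective e.injective

theorem map_inj_equiv (e : G ≃* G') {H K : Subgroup G} :
    H.map e.toMonoidHom = K.map e.toMonoidHom ↔ H = K :=
  (map_injective (f := e.toMonoidHom) e.injective).eq_iff

theorem map_centralizer_equiv (e : G ≃* G') (s : Set G) :
    (centralizer s).map e.toMonoidHom = centralizer (e '' s) := by
  ext x
  obtain ⟨y, rfl⟩ := e.surjective x
  rw [apply_mem_map, mem_centralizer_iff, mem_centralizer_iff]
  simp only [Set.forall_mem_image, ← map_mul, e.injective.eq_iff]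

theorem map_centralizer_singleton (e : G ≃* G') (x : G) :
    (centralizer ({x} : Set G)).map e.toMonoidHom = centralizer ({e x} : Set G') := by
  rw [map_centralizer_equiv, Set.image_singleton]

theorem map_centralizer_subgroup (e : G ≃* G') (H : Subgroup G) :
    (centralizer (H : Set G)).map e.toMonoidHom = centralizer (H.map e.toMonoidHom : Set G') := by
  rw [map_centralizer_equiv]; rfl

theorem map_set_normalizer (e : G ≃* G') (X : Set G) :
    (normalizer X).map e.toMonoidHom = normalizer (e '' X) := by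
  ext x
  obtain ⟨y, rfl⟩ := e.surjective x
  rw [apply_mem_map, mem_set_normalizer_iff, mem_set_normalizer_iff, e.surjective.forall]
  refine forall_congr' fun z => ?_
  rw [← map_inv, ← map_mul, ← map_mul, e.injective.mem_set_image, e.injective.mem_set_image]

theorem map_subgroup_normalizer (e : G ≃* G') (H : Subgroup G) :
    (normalizer (H : Set G)).map e.toMonoidHom = normalizer (H.map e.toMonoidHom : Set G') := by
  rw [map_set_normalizer]; rfl

theorem map_derived (e : G ≃* G') (M : Subgroup G) :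
    ⁅M, M⁆.map e.toMonoidHom = ⁅M.map e.toMonoidHom, M.map e.toMonoidHom⁆ :=
  map_commutator M M e.toMonoidHom

theorem isNilpotent_map_iff (e : G ≃* G') (H : Subgroup G) :
    Group.IsNilpotent (H.map e.toMonoidHom) ↔ Group.IsNilpotent H :=
  (Group.isNilpotent_congr (subIso e H)).symm

theorem isCyclic_map_iff (e : G ≃* G') (H : Subgroup G) :
    IsCyclic (H.map e.toMonoidHom) ↔ IsCyclic H :=
  (subIso e H).isCyclic.symm

theorem isMulCommutative_congr {A B : Type*} [Group A] [Group B] (e : A ≃* B) :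
    IsMulCommutative A ↔ IsMulCommutative B := by
  constructor <;> intro h
  · exact ⟨⟨fun a b => e.symm.injective (by rw [map_mul, map_mul]; exact h.is_comm.comm _ _)⟩⟩
  · exact ⟨⟨fun a b => e.injective (by rw [map_mul, map_mul]; exact h.is_comm.comm _ _)⟩⟩

theorem isMulCommutative_map_iff (e : G ≃* G') (H : Subgroup G) :
    IsMulCommutative (H.map e.toMonoidHom) ↔ IsMulCommutative H :=
  (isMulCommutative_congr (subIso e H)).symm

theorem isCoatom_map_iff (e : G ≃* G') (M : Subgroup G) :
    IsCoatom (M.map e.toMonoidHom) ↔ IsCoatom M :=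
  OrderIso.isCoatom_iff e.mapSubgroup M

theorem isTISubset_image (e : G ≃* G') (X : Set G) : IsTISubset (e '' X) ↔ IsTISubset X := by
  simp only [IsTISubset, e.surjective.forall, ← map_set_normalizer, apply_mem_map, ← map_inv,
    ← map_mul, e.injective.mem_set_image, map_eq_one_iff e e.injective, Set.forall_mem_image]

theorem isComplIn_map_iff (e : G ≃* G') (A B M : Subgroup G) :
    IsComplIn (A.map e.toMonoidHom) (B.map e.toMonoidHom) (M.map e.toMonoidHom) ↔
      IsComplIn A B M := by
  simp only [IsComplIn, map_le_map_equiv, ← map_inf _ _ e.toMonoidHom e.injective, map_eq_bot_equiv,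
    e.surjective.forall, e.surjective.exists, apply_mem_map, ← map_mul, e.injective.eq_iff]

theorem isPiHallOf_map_iff (e : G ≃* G') (π : Set ℕ) (H M : Subgroup G) :
    IsPiHallOf π (H.map e.toMonoidHom) (M.map e.toMonoidHom) ↔ IsPiHallOf π H M := by
  simp only [IsPiHallOf, map_le_map_equiv, card_map_equiv, relIndex_map_equiv]

section Finite

variable [Finite G]

theorem sigma_map_subset (e : G ≃* G') (M : Subgroup G) :
    sigma M ⊆ sigma (M.map e.toMonoidHom) := by
  haveI : Finite G' := Finite.of_equiv G e.toEquiv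
  rintro p ⟨hp, hd, P, hP⟩
  haveI := Fact.mk hp
  let P' : Sylow p (M.map e.toMonoidHom) := P.mapSurjective (f := (subIso e M).toMonoidHom)
    (subIso e M).surjective
  have hP' : (P' : Subgroup _) = (P : Subgroup M).map (subIso e M).toMonoidHom := rfl
  refine ⟨hp, by rwa [card_map_equiv], P', ?_⟩
  rw [hP', map_subIso_subtype, ← map_subgroup_normalizer, map_le_map_equiv]
  exact hP

theorem sigma_map (e : G ≃* G') (M : Subgroup G) : sigma (M.map e.toMonoidHom) = sigma M := by
  haveI : Finite G' := Finite.of_equiv G e.toEquiv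
  refine Set.Subset.antisymm ?_ (sigma_map_subset e M)
  have := sigma_map_subset e.symm (M.map e.toMonoidHom)
  rwa [map_symm_map] at this

theorem map_sigmaCore (e : G ≃* G') (M : Subgroup G) :
    sigmaCore (M.map e.toMonoidHom) = (sigmaCore M).map e.toMonoidHom := by
  rw [sigmaCore, sigma_map, ← CfsgLib.Base.map_piCore_mulEquiv (subIso e M), map_subIso_subtype]
  rfl

theorem map_sigmaHat (e : G ≃* G') (M : Subgroup G) :
    sigmaHat (M.map e.toMonoidHom) = e '' sigmaHat M := by
  ext x
  obtain ⟨y, rfl⟩ := e.surjective x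
  simp only [sigmaHat, map_sigmaCore, e.injective.mem_set_image, Set.mem_setOf_eq,
    e.surjective.exists, apply_mem_map, ne_eq, map_eq_one_iff e e.injective, ← map_mul,
    e.injective.eq_iff]

theorem kappa_map_subset (e : G ≃* G') (M : Subgroup G) :
    kappa M ⊆ kappa (M.map e.toMonoidHom) := by
  haveI : Finite G' := Finite.of_equiv G e.toEquiv
  rintro p ⟨hp, hd, hns, hall⟩
  haveI := Fact.mk hp
  refine ⟨hp, by rwa [card_map_equiv], by rwa [sigma_map], fun P' => ?_⟩
  let P : Sylow p M := P'.mapSurjective (f := (subIso e M).symm.toMonoidHom)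
    (subIso e M).symm.surjective
  have hPc : (P : Subgroup M) = (P' : Subgroup _).map (subIso e M).symm.toMonoidHom := rfl
  obtain ⟨hc, x, hx, hx1, y, hy, hy1, hxy⟩ := hall P
  refine ⟨?_, subIso e M x, ?_, fun h => hx1 ((map_eq_one_iff _ (subIso e M).injective).mp h), e y, ?_,
    fun h => hy1 (by simpa using h), by rw [coe_subIso, ← map_mul, hxy, map_mul]⟩
  · have : IsCyclic (P : Subgroup M) := hc
    rw [hPc] at this
    exact (isCyclic_map_iff _ _).mp this
  · rw [hPc] at hx
    obtain ⟨z, hz, rfl⟩ := hx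
    rw [MulEquiv.coe_toMonoidHom, MulEquiv.apply_symm_apply]; exact hz
  · rw [map_sigmaCore, apply_mem_map]; exact hy

theorem kappa_map (e : G ≃* G') (M : Subgroup G) : kappa (M.map e.toMonoidHom) = kappa M := by
  haveI : Finite G' := Finite.of_equiv G e.toEquiv
  refine Set.Subset.antisymm ?_ (kappa_map_subset e M)
  have := kappa_map_subset e.symm (M.map e.toMonoidHom)
  rwa [map_symm_map] at this

theorem tau1_map (e : G ≃* G') (M : Subgroup G) : tau1 (M.map e.toMonoidHom) = tau1 M := by
  simp only [tau1, sigma_map, card_map_equiv, ← map_derived,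
    ← CfsgLib.Base.pRankLE_congr (subIso e M)]

theorem tau2_map (e : G ≃* G') (M : Subgroup G) : tau2 (M.map e.toMonoidHom) = tau2 M := by
  simp only [tau2, sigma_map, ← CfsgLib.Base.pRankLE_congr (subIso e M)]

theorem tau3_map (e : G ≃* G') (M : Subgroup G) : tau3 (M.map e.toMonoidHom) = tau3 M := by
  simp only [tau3, sigma_map, card_map_equiv, ← map_derived,
    ← CfsgLib.Base.pRankLE_congr (subIso e M)]

theorem alpha_map (e : G ≃* G') (M : Subgroup G) : alpha (M.map e.toMonoidHom) = alpha M := by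
  simp only [alpha, ← CfsgLib.Base.pRankLE_congr (subIso e M)]

theorem isSigmaDecomposition_map (e : G ≃* G') {M K U : Subgroup G}
    (h : IsSigmaDecomposition M K U) :
    IsSigmaDecomposition (M.map e.toMonoidHom) (K.map e.toMonoidHom) (U.map e.toMonoidHom) where
  cyclic := (isCyclic_map_iff e K).mpr h.cyclic
  hall := by rw [kappa_map, isPiHallOf_map_iff]; exact h.hall
  compl := by rw [map_sigmaCore, ← Subgroup.map_sup, isComplIn_map_iff]; exact h.compl
  normal := by rw [← map_subgroup_normalizer, map_le_map_equiv]; exact h.normal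

end Finite

theorem map_fittingHall (e : G ≃* G') :
    (fittingHall G).map e.toMonoidHom = fittingHall G' :=
  CfsgLib.Base.map_sSup_mulEquiv e fun N => by
    rw [CfsgLib.Base.normal_map_mulEquiv_iff, isNilpotent_map_iff, card_map_equiv,
      index_map_mulEquiv]

theorem map_fittingHallOf (e : G ≃* G') (M : Subgroup G) :
    fittingHallOf (M.map e.toMonoidHom) = (fittingHallOf M).map e.toMonoidHom := by
  rw [fittingHallOf, ← map_fittingHall (subIso e M), map_subIso_subtype]
  rfl

theorem map_fittingOf (e : G ≃* G') (M : Subgroup G) :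
    fittingOf (M.map e.toMonoidHom) = (fittingOf M).map e.toMonoidHom := by
  rw [fittingOf, ← CfsgLib.Base.map_fittingSubgroup_mulEquiv (subIso e M), map_subIso_subtype]
  rfl

theorem isComplement'_map_iff (e : G ≃* G') (A B : Subgroup G) :
    IsComplement' (A.map e.toMonoidHom) (B.map e.toMonoidHom) ↔ IsComplement' A B := by
  have key : ∀ {K K' : Type u} [Group K] [Group K'] (f : K ≃* K') (A B : Subgroup K),
      IsComplement' A B → IsComplement' (A.map f.toMonoidHom) (B.map f.toMonoidHom) := by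
    intro K K' _ _ f A B h
    refine isComplement'_of_disjoint_and_mul_eq_univ ?_ ?_
    · rw [disjoint_iff, ← map_inf _ _ f.toMonoidHom f.injective, h.disjoint.eq_bot, Subgroup.map_bot]
    · refine Set.eq_univ_of_forall fun y => ?_
      obtain ⟨x, rfl⟩ := f.surjective y
      obtain ⟨⟨⟨a, ha⟩, ⟨b, hb⟩⟩, hab⟩ := h.2 x
      exact ⟨f a, ⟨a, ha, rfl⟩, f b, ⟨b, hb, rfl⟩, (map_mul f a b).symm.trans (congrArg f hab)⟩
  refine ⟨fun h => ?_, key e A B⟩
  have := key e.symm _ _ h
  rwa [map_symm_map, map_symm_map] at this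

theorem isOfTypeF_congr (e : G ≃* G') : IsOfTypeF G ↔ IsOfTypeF G' := by
  have key : ∀ {K K' : Type u} [Group K] [Group K'] (f : K ≃* K'), IsOfTypeF K → IsOfTypeF K' := by
    rintro K K' _ _ f ⟨hs, hodd, hb, ht, U, hU, hc, ⟨U₁, hU₁, hn, hcomm, hcen⟩, U₀, hU₀, hexp, hfree⟩
    refine ⟨Group.isSolvable_of_surjective (f := f.toMonoidHom) f.surjective,
      by rwa [← Nat.card_congr f.toEquiv], ?_, ?_, U.map f.toMonoidHom,
      by rwa [Ne, map_eq_bot_equiv], ?_,
      ⟨U₁.map f.toMonoidHom, map_mono hU₁, ?_, (isMulCommutative_map_iff f U₁).mpr hcomm, ?_⟩,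
      U₀.map f.toMonoidHom, map_mono hU₀, ?_, ?_⟩
    · rwa [← map_fittingHall f, Ne, map_eq_bot_equiv]
    · rwa [← map_fittingHall f, Ne, ← Subgroup.map_top_of_surjective f.toMonoidHom f.surjective, map_inj_equiv]
    · rw [← map_fittingHall f, isComplement'_map_iff]; exact hc
    · rw [← map_subgroup_normalizer, map_le_map_equiv]; exact hn
    · rw [← map_fittingHall f]
      rintro _ ⟨x, hx, rfl⟩ hx1
      rw [MulEquiv.coe_toMonoidHom, ← map_centralizer_singleton, ← map_inf _ _ f.toMonoidHom f.injective,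
        map_le_map_equiv]
      exact hcen x hx (fun h => hx1 (by simp [h]))
    · rw [← Monoid.exponent_eq_of_mulEquiv (subIso f U₀), ← Monoid.exponent_eq_of_mulEquiv (subIso f U),
        hexp]
    · rw [← map_fittingHall f]
      rintro _ ⟨v, hv, rfl⟩ hv1 _ ⟨x, hx, rfl⟩ hvx
      rw [MulEquiv.coe_toMonoidHom, map_eq_one_iff f f.injective]
      exact hfree v hv (fun h => hv1 (by simp [h])) x hx (f.injective (by simpa using hvx))
  exact ⟨key e, key e.symm⟩

theorem rankLE_congr {k : ℕ} (e : G ≃* G') : RankLE k G ↔ RankLE k G' := by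
  simp only [RankLE, CfsgLib.Base.pRankLE_congr e]

theorem isOfTypeI_map_of (e : G ≃* G') {M : Subgroup G} (h : IsOfTypeI M) :
    IsOfTypeI (M.map e.toMonoidHom) := by
  obtain ⟨hF, h⟩ := h
  refine ⟨(isOfTypeF_congr (subIso e M)).mp hF, ?_⟩
  rw [map_fittingHallOf]
  rcases h with h | ⟨h1, h2, h3⟩ | ⟨h1, p, hp, hd, hc⟩
  · left
    rw [coe_map, MulEquiv.coe_toMonoidHom, isTISubset_image]; exact h
  · right; left
    exact ⟨(isMulCommutative_map_iff e _).mpr h1, (rankLE_congr (subIso e _)).mp h2,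
      fun h => h3 ((rankLE_congr (subIso e _)).mpr h)⟩
  · right; right
    refine ⟨fun q hq hdq => ?_, p, hp, by rwa [card_map_equiv], ?_⟩
    · rw [card_map_equiv] at hdq
      have hmq := QuotientGroup.congr (fittingHall M) (fittingHall (M.map e.toMonoidHom))
        (subIso e M) (map_fittingHall (subIso e M))
      rw [← Monoid.exponent_eq_of_mulEquiv hmq]
      exact h1 q hq hdq
    · rw [← CfsgLib.Base.map_pPrimeCore_mulEquiv (subIso e (fittingHallOf M)), isCyclic_map_iff]
      exact hc

theorem isOfTypeI_map (e : G ≃* G') (M : Subgroup G) :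
    IsOfTypeI (M.map e.toMonoidHom) ↔ IsOfTypeI M := by
  refine ⟨fun h => ?_, isOfTypeI_map_of e⟩
  have := isOfTypeI_map_of e.symm h
  rwa [map_symm_map] at this

theorem isSelfNormalizingCyclic_map_of (e : G ≃* G') {W₁ W₂ : Subgroup G}
    (h : IsSelfNormalizingCyclic W₁ W₂) :
    IsSelfNormalizingCyclic (W₁.map e.toMonoidHom) (W₂.map e.toMonoidHom) := by
  obtain ⟨h1, h2, h3, h4, h5, h6⟩ := h
  refine ⟨by rwa [Ne, map_eq_bot_equiv], by rwa [Ne, map_eq_bot_equiv],
    by rw [← map_inf _ _ e.toMonoidHom e.injective, h3, Subgroup.map_bot], ?_,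
    by rw [← Subgroup.map_sup, isCyclic_map_iff]; exact h5, ?_⟩
  · rintro _ ⟨a, ha, rfl⟩ _ ⟨b, hb, rfl⟩
    rw [← map_mul, h4 a ha b hb, map_mul]
  · intro X hX hne
    rw [← Subgroup.map_sup, ← h6 (e ⁻¹' X) ?_ ?_, map_set_normalizer, Set.image_preimage_eq X e.surjective]
    · intro x hx
      have := hX hx
      simpa [← Subgroup.map_sup, apply_mem_map] using this
    · obtain ⟨y, hy⟩ := hne
      exact ⟨e.symm y, by simpa using hy⟩

theorem isTypePWith_map_of (e : G ≃* G') {M W₁ U W₂ : Subgroup G} (h : IsTypePWith M W₁ U W₂) :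
    IsTypePWith (M.map e.toMonoidHom) (W₁.map e.toMonoidHom) (U.map e.toMonoidHom)
      (W₂.map e.toMonoidHom) where
  W₁_ne := by rw [Ne, map_eq_bot_equiv]; exact h.W₁_ne
  W₁_cyclic := (isCyclic_map_iff e W₁).mpr h.W₁_cyclic
  W₁_hall := by rw [card_map_equiv, relIndex_map_equiv]; exact h.W₁_hall
  W₁_compl := by rw [← map_derived, isComplIn_map_iff]; exact h.W₁_compl
  U_nilpotent := (isNilpotent_map_iff e U).mpr h.U_nilpotent
  U_normal := by rw [← map_subgroup_normalizer, map_le_map_equiv]; exact h.U_normal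
  U_compl := by rw [map_fittingHallOf, ← map_derived, isComplIn_map_iff]; exact h.U_compl
  H_not_cyclic := by rw [map_fittingHallOf, isCyclic_map_iff]; exact h.H_not_cyclic
  derived_two_le := by
    rw [← map_derived, ← map_derived, map_fittingHallOf, ← map_centralizer_subgroup,
      ← map_inf _ _ e.toMonoidHom e.injective, ← Subgroup.map_sup, map_le_map_equiv]
    exact h.derived_two_le
  fitting_eq := by
    rw [map_fittingHallOf, ← map_centralizer_subgroup, ← map_inf _ _ e.toMonoidHom e.injective, ← Subgroup.map_sup,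
      map_fittingOf, map_inj_equiv]
    exact h.fitting_eq
  fitting_le := by rw [map_fittingOf, ← map_derived, map_le_map_equiv]; exact h.fitting_le
  W₂_le := by
    rw [← map_derived, ← map_derived, map_fittingHallOf, ← map_inf _ _ e.toMonoidHom e.injective,
      map_le_map_equiv]
    exact h.W₂_le
  W₂_centralizer := by
    rintro _ ⟨x, hx, rfl⟩ hx1
    rw [← map_derived, MulEquiv.coe_toMonoidHom, ← map_centralizer_singleton,
      ← map_inf _ _ e.toMonoidHom e.injective, h.W₂_centralizer x hx (fun he => hx1 (by simp [he]))]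
  selfNormalizing := isSelfNormalizingCyclic_map_of e h.selfNormalizing

theorem isOfTypeP_map_of (e : G ≃* G') {M : Subgroup G} (h : IsOfTypeP M) :
    IsOfTypeP (M.map e.toMonoidHom) :=
  let ⟨_, _, _, h⟩ := h
  ⟨_, _, _, isTypePWith_map_of e h⟩

theorem isOfTypeII_map_of (e : G ≃* G') {M : Subgroup G} (h : IsOfTypeII M) :
    IsOfTypeII (M.map e.toMonoidHom) := by
  obtain ⟨W₁, U, W₂, hP, hU, hp, hTI, hc, hn, hF, heq⟩ := h
  refine ⟨_, _, _, isTypePWith_map_of e hP, by rwa [Ne, map_eq_bot_equiv], by rwa [card_map_equiv],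
    ?_, (isMulCommutative_map_iff e U).mpr hc, ?_, ?_, ?_⟩
  · rw [map_fittingOf, coe_map, MulEquiv.coe_toMonoidHom, isTISubset_image]; exact hTI
  · rwa [← map_subgroup_normalizer, map_le_map_equiv]
  · rw [← map_derived]; exact (isOfTypeF_congr (subIso e _)).mp hF
  · rw [← map_derived, map_fittingHallOf, map_fittingHallOf, heq]

theorem isOfTypeIII_map_of (e : G ≃* G') {M : Subgroup G} (h : IsOfTypeIII M) :
    IsOfTypeIII (M.map e.toMonoidHom) := by
  obtain ⟨W₁, U, W₂, hP, hU, hp, hTI, hc, hn⟩ := h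
  refine ⟨_, _, _, isTypePWith_map_of e hP, by rwa [Ne, map_eq_bot_equiv], by rwa [card_map_equiv],
    ?_, (isMulCommutative_map_iff e U).mpr hc, ?_⟩
  · rw [map_fittingOf, coe_map, MulEquiv.coe_toMonoidHom, isTISubset_image]; exact hTI
  · rwa [← map_subgroup_normalizer, map_le_map_equiv]

theorem isOfTypeIV_map_of (e : G ≃* G') {M : Subgroup G} (h : IsOfTypeIV M) :
    IsOfTypeIV (M.map e.toMonoidHom) := by
  obtain ⟨W₁, U, W₂, hP, hU, hp, hTI, hc, hn⟩ := h
  refine ⟨_, _, _, isTypePWith_map_of e hP, by rwa [Ne, map_eq_bot_equiv], by rwa [card_map_equiv],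
    ?_, fun h => hc ((isMulCommutative_map_iff e U).mp h), ?_⟩
  · rw [map_fittingOf, coe_map, MulEquiv.coe_toMonoidHom, isTISubset_image]; exact hTI
  · rwa [← map_subgroup_normalizer, map_le_map_equiv]

theorem isOfTypeV_map_of (e : G ≃* G') {M : Subgroup G} (h : IsOfTypeV M) :
    IsOfTypeV (M.map e.toMonoidHom) := by
  obtain ⟨W₁, U, W₂, hP, hU, h⟩ := h
  refine ⟨_, _, _, isTypePWith_map_of e hP, by rwa [map_eq_bot_equiv], ?_⟩
  rw [map_fittingHallOf]
  rcases h with h | ⟨p, hp, hd, hw, hc⟩ | ⟨p, hp, hd, h3, hw, hc⟩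
  · left
    rw [coe_map, MulEquiv.coe_toMonoidHom, isTISubset_image]; exact h
  · right; left
    refine ⟨p, hp, by rwa [card_map_equiv], by rwa [card_map_equiv], ?_⟩
    rw [← CfsgLib.Base.map_pPrimeCore_mulEquiv (subIso e (fittingHallOf M)), isCyclic_map_iff]
    exact hc
  · right; right
    refine ⟨p, hp, by rwa [card_map_equiv], ?_, by rwa [card_map_equiv], ?_⟩
    · rw [← CfsgLib.Base.map_pCore_mulEquiv (subIso e (fittingHallOf M)), card_map_equiv]
      exact h3
    · rw [← CfsgLib.Base.map_pPrimeCore_mulEquiv (subIso e (fittingHallOf M)), isCyclic_map_iff]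
      exact hc

theorem iff_of_map_of {P : ∀ {K : Type u} [Group K], Subgroup K → Prop}
    (h : ∀ {K K' : Type u} [Group K] [Group K'] (f : K ≃* K') {M : Subgroup K}, P M →
      P (M.map f.toMonoidHom)) (e : G ≃* G') (M : Subgroup G) :
    P (M.map e.toMonoidHom) ↔ P M := by
  refine ⟨fun hM => ?_, h e⟩
  have := h e.symm hM
  rwa [map_symm_map] at this

theorem isOfTypeII_map (e : G ≃* G') (M : Subgroup G) :
    IsOfTypeII (M.map e.toMonoidHom) ↔ IsOfTypeII M :=
  iff_of_map_of (P := fun {K} _ M => IsOfTypeII M) (fun f => isOfTypeII_map_of f) e M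

theorem isOfTypeIII_map (e : G ≃* G') (M : Subgroup G) :
    IsOfTypeIII (M.map e.toMonoidHom) ↔ IsOfTypeIII M :=
  iff_of_map_of (P := fun {K} _ M => IsOfTypeIII M) (fun f => isOfTypeIII_map_of f) e M

theorem isOfTypeIV_map (e : G ≃* G') (M : Subgroup G) :
    IsOfTypeIV (M.map e.toMonoidHom) ↔ IsOfTypeIV M :=
  iff_of_map_of (P := fun {K} _ M => IsOfTypeIV M) (fun f => isOfTypeIV_map_of f) e M

theorem isOfTypeV_map (e : G ≃* G') (M : Subgroup G) :
    IsOfTypeV (M.map e.toMonoidHom) ↔ IsOfTypeV M :=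
  iff_of_map_of (P := fun {K} _ M => IsOfTypeV M) (fun f => isOfTypeV_map_of f) e M

theorem map_typeCore (e : G ≃* G') (M : Subgroup G) :
    typeCore (M.map e.toMonoidHom) = (typeCore M).map e.toMonoidHom := by
  unfold typeCore
  by_cases h : IsOfTypeIII M ∨ IsOfTypeIV M
  · rw [if_pos h, if_pos (by rwa [isOfTypeIII_map, isOfTypeIV_map]), map_derived]
  · rw [if_neg h, if_neg (by rwa [isOfTypeIII_map, isOfTypeIV_map]), map_fittingHallOf]

theorem map_typeA1 (e : G ≃* G') (M : Subgroup G) :
    typeA1 (M.map e.toMonoidHom) = e '' typeA1 M := by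
  rw [typeA1, map_typeCore, typeA1, Set.image_sdiff e.injective, Set.image_singleton, map_one]
  rfl

theorem map_typeA (e : G ≃* G') (M : Subgroup G) :
    typeA (M.map e.toMonoidHom) = e '' typeA M := by
  ext x
  obtain ⟨y, rfl⟩ := e.surjective x
  rw [e.injective.mem_set_image]
  unfold typeA
  by_cases hI : IsOfTypeI M
  all_goals
    first
      | rw [if_pos hI, if_pos ((isOfTypeI_map e M).mpr hI)]
      | rw [if_neg hI, if_neg (fun h => hI ((isOfTypeI_map e M).mp h))]
    simp only [Set.mem_setOf_eq, map_fittingHallOf, map_typeCore, ← map_derived, e.surjective.exists,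
      apply_mem_map, ne_eq, map_eq_one_iff e e.injective, ← map_mul, e.injective.eq_iff]

theorem typeA0_map_subset (e : G ≃* G') (M : Subgroup G) :
    e '' typeA0 M ⊆ typeA0 (M.map e.toMonoidHom) := by
  rintro _ ⟨x, hx, rfl⟩
  rcases hx with hx | ⟨hI, W₁, U, W₂, hP, m, hm, w, hw, h1, h2, rfl⟩
  · left; rw [map_typeA]; exact ⟨x, hx, rfl⟩
  · right
    refine ⟨by rwa [isOfTypeI_map], _, _, _, isTypePWith_map_of e hP, e m, ?_, e w, ?_, ?_, ?_,
      by rw [map_mul, map_mul, map_inv]⟩
    · exact (apply_mem_map e).mpr hm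
    · rw [← Subgroup.map_sup]; exact (apply_mem_map e).mpr hw
    · rwa [apply_mem_map]
    · rwa [apply_mem_map]

theorem map_typeA0 (e : G ≃* G') (M : Subgroup G) :
    typeA0 (M.map e.toMonoidHom) = e '' typeA0 M := by
  refine Set.Subset.antisymm ?_ (typeA0_map_subset e M)
  intro x hx
  refine ⟨e.symm x, ?_, by simp⟩
  have := typeA0_map_subset e.symm (M.map e.toMonoidHom) ⟨x, hx, rfl⟩
  rwa [map_symm_map] at this

theorem existsUnique_maximal_map (e : G ≃* G') (x : G) :
    (∃! L : Subgroup G', IsCoatom L ∧ centralizer ({e x} : Set G') ≤ L) ↔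
      ∃! L : Subgroup G, IsCoatom L ∧ centralizer ({x} : Set G) ≤ L := by
  constructor
  · rintro ⟨L, ⟨hL, hxL⟩, huniq⟩
    refine ⟨L.map e.symm.toMonoidHom, ⟨(isCoatom_map_iff e.symm L).mpr hL, ?_⟩, fun N hN => ?_⟩
    · rw [← map_le_map_equiv e, map_map_symm, map_centralizer_singleton]; exact hxL
    · rw [← huniq (N.map e.toMonoidHom) ⟨(isCoatom_map_iff e N).mpr hN.1, by
        rw [← map_centralizer_singleton, map_le_map_equiv]; exact hN.2⟩, map_symm_map]
  · rintro ⟨L, ⟨hL, hxL⟩, huniq⟩
    refine ⟨L.map e.toMonoidHom, ⟨(isCoatom_map_iff e L).mpr hL, ?_⟩, fun N hN => ?_⟩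
    · rw [← map_centralizer_singleton, map_le_map_equiv]; exact hxL
    · rw [← huniq (N.map e.symm.toMonoidHom) ⟨(isCoatom_map_iff e.symm N).mpr hN.1, by
        rw [← map_le_map_equiv e, map_map_symm, map_centralizer_singleton]; exact hN.2⟩,
        map_map_symm]

theorem Subgroup.map_supportR (e : G ≃* G') (M : Subgroup G) (x : G) :
    supportR (M.map e.toMonoidHom) (e x) = (supportR M x).map e.toMonoidHom := by
  have hiff : (¬ centralizer ({e x} : Set G') ≤ M.map e.toMonoidHom ∧
      ∃! L : Subgroup G', IsCoatom L ∧ centralizer ({e x} : Set G') ≤ L) ↔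
      (¬ centralizer ({x} : Set G) ≤ M ∧
        ∃! L : Subgroup G, IsCoatom L ∧ centralizer ({x} : Set G) ≤ L) := by
    rw [existsUnique_maximal_map, ← map_centralizer_singleton, map_le_map_equiv]
  unfold supportR
  by_cases h : ¬ centralizer ({x} : Set G) ≤ M ∧
      ∃! L : Subgroup G, IsCoatom L ∧ centralizer ({x} : Set G) ≤ L
  · rw [dif_pos h, dif_pos (hiff.mpr h)]
    have hL := Classical.choose_spec h.2.exists
    have hL' := Classical.choose_spec (hiff.mpr h).2.exists
    have heq := (hiff.mpr h).2.unique hL' (y₂ := (Classical.choose h.2.exists).map e.toMonoidHom)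
      ⟨(isCoatom_map_iff e _).mpr hL.1, by
        rw [← map_centralizer_singleton, map_le_map_equiv]; exact hL.2⟩
    rw [heq, map_fittingHallOf, ← map_centralizer_singleton, ← map_inf _ _ e.toMonoidHom e.injective]
  · rw [dif_neg h, dif_neg (fun hh => h (hiff.mp hh)), Subgroup.map_bot]

theorem map_tildeOf (e : G ≃* G') (M : Subgroup G) (A : Set G) :
    tildeOf (M.map e.toMonoidHom) (e '' A) = e '' tildeOf M A := by
  ext g
  obtain ⟨g, rfl⟩ := e.surjective g
  simp only [tildeOf, e.injective.mem_set_image, Set.mem_setOf_eq, Set.exists_mem_image,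
    Subgroup.map_supportR, e.surjective.exists, apply_mem_map, ← map_mul, ← map_inv, e.injective.eq_iff]

theorem supports_map_of (e : G ≃* G') {L M : Subgroup G} (h : Supports L M) :
    Supports (L.map e.toMonoidHom) (M.map e.toMonoidHom) := by
  obtain ⟨hL, x, hx, h1, h2⟩ := h
  refine ⟨(isCoatom_map_iff e L).mpr hL, e x, ?_, ?_, ?_⟩
  · rw [map_typeA0]; exact ⟨x, hx, rfl⟩
  · rwa [← map_centralizer_singleton, map_le_map_equiv]
  · rwa [← map_centralizer_singleton, map_le_map_equiv]

/-- Conjugates of the cosets give the same set. -/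
theorem tildeOf_conj (g : G) (M : Subgroup G) (A : Set G) :
    tildeOf (M.map (MulAut.conj g).toMonoidHom) (MulAut.conj g '' A) = tildeOf M A := by
  rw [map_tildeOf]
  ext x
  refine ⟨?_, fun ⟨a, ha, r, hr, y, hy⟩ => ⟨g⁻¹ * x * g, ⟨a, ha, r, hr, g⁻¹ * y, ?_⟩, ?_⟩⟩
  · rintro ⟨w, ⟨a, ha, r, hr, y, rfl⟩, rfl⟩
    exact ⟨a, ha, r, hr, g * y, by simp [MulAut.conj_apply, mul_assoc]⟩
  · rw [hy]; group
  · simp [MulAut.conj_apply, mul_assoc]

theorem mem_normalizer_of_map_conj {X : Set G} {g : G} (h : MulAut.conj g '' X = X) :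
    g ∈ normalizer X := by
  rw [mem_set_normalizer_iff]
  intro x
  conv_rhs => rw [← h]
  rw [← MulAut.conj_apply, (MulAut.conj g).injective.mem_set_image]

theorem map_conj_eq_self {M : Subgroup G} {g : G} (hg : g ∈ M) :
    M.map (MulAut.conj g).toMonoidHom = M :=
  mem_normalizer_iff_map_conj_eq.mp (le_normalizer hg)

end CfsgLib.FT
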