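import Cfsg.Agent.Lib.FT.PLengthOne
import Cfsg.Agent.S1461

/-!
Sylow normalisers control fusion in a minimal simple group of odd order (BG, Theorem 10.7).
-/

set_option autoImplicit false
set_option linter.style.haveILetI false

universe u

namespace CfsgLib.FT

open Cfsg CfsgLib.OddOrder CfsgLib.Techniques Subgroup
open scoped commutatorElement

/-- S1448 (Blackburn) as a proposition. -/
def StmtS1448.{v} : Prop :=
  ∀ {G : Type v} [Group G] [Finite G] (p : ℕ) [Fact p.Prime] (_hp : p ≠ 2) (R A : Subgroup G)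
    (_hR : IsPGroup p R) (_hR1 : R ≠ ⊥) (_hr : Cfsg.PRankLE p 2 R)
    (_hA : A ≤ Subgroup.normalizer (R : Set G)) (_hcop : (Nat.card A).Coprime p)
    (_hAodd : Odd (Nat.card A)) (_hRA : ⁅R, A⁆ = R),
    3 < p ∧ (IsMulCommutative R ∨ ∃ R₁ R₂ : Subgroup G, R₁ ⊔ R₂ = R ∧ (∀ a ∈ R₁, ∀ b ∈ R₂, a * b = b * a) ∧
        ¬ IsMulCommutative R₁ ∧ Nat.card R₁ = p ^ 3 ∧ Monoid.exponent R₁ = p ∧ IsCyclic R₂ ∧
        Subgroup.closure {x : G | x ∈ R₂ ∧ x ^ p = 1} = ⁅R₁, R₁⁆)

/-- The derived group of a nonabelian group of order `p³` is its centre. -/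
theorem commutator_eq_center_of_card_cube {H : Type u} [Group H] [Finite H] {p : ℕ} [Fact p.Prime]
    (hH : Nat.card H = p ^ 3) (hnc : ¬ IsMulCommutative H) : commutator H = center H := by
  have hp : p.Prime := Fact.out
  have hP : IsPGroup p H := IsPGroup.of_card hH
  haveI : Nontrivial H := Finite.one_lt_card_iff_nontrivial.1
    (hH ▸ Nat.one_lt_pow (by norm_num) hp.one_lt)
  haveI := hP.center_nontrivial
  obtain ⟨n, hn⟩ := IsPGroup.iff_card.1 (hP.to_subgroup (center H))
  have hn1 : n ≠ 0 := fun e => by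
    rw [e, pow_zero] at hn
    exact absurd Finite.one_lt_card (by omega : ¬ 1 < Nat.card (center H))
  have hmul := card_mul_index (center H)
  rw [hH, hn] at hmul
  have hn3 : n ≤ 3 := (Nat.pow_le_pow_iff_right hp.one_lt).1
    (Nat.le_of_dvd (pow_pos hp.pos 3) ⟨_, hmul.symm⟩)
  have hnot : ¬ IsCyclic (H ⧸ center H) := fun h => hnc
    (isMulCommutative_of_isCyclic_quotient_center_self (G := H))
  have hidx : (center H).index = p ^ (3 - n) := by
    apply Nat.eq_of_mul_eq_mul_left (pow_pos hp.pos n)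
    rw [hmul, ← pow_add]; congr 1; omega
  have hn' : n = 1 := by
    by_contra hne
    refine hnot ?_
    rcases Nat.lt_or_ge n 3 with h | h
    · exact isCyclic_of_prime_card (p := p) (by
        rw [← index_eq_card, hidx, show 3 - n = 1 by omega, pow_one])
    · haveI : Subsingleton (H ⧸ center H) := (Nat.card_eq_one_iff_unique.1 (by
        rw [← index_eq_card, hidx, show 3 - n = 0 by omega, pow_zero])).1
      exact isCyclic_of_subsingleton
  subst hn'
  haveI : IsMulCommutative (H ⧸ center H) := IsPGroup.isMulCommutative_of_card_eq_prime_sq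
    (by rw [← index_eq_card, hidx] : Nat.card (H ⧸ center H) = p ^ 2)
  have hle : commutator H ≤ center H := by
    rw [_root_.commutator_def, commutator_le]
    intro a _ b _
    rw [← QuotientGroup.eq_one_iff, ← QuotientGroup.mk'_apply, map_commutatorElement,
      commutatorElement_eq_one_iff_mul_comm]
    exact mul_comm' _ _
  refine eq_of_le_of_card_ge hle ?_
  obtain ⟨k, hk⟩ := IsPGroup.iff_card.1 (hP.to_subgroup (commutator H))
  rw [hn, hk]
  refine Nat.pow_le_pow_right hp.pos (Nat.one_le_iff_ne_zero.2 fun e => hnc ⟨⟨fun a b => ?_⟩⟩)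
  rw [e, pow_zero, card_eq_one] at hk
  have : ⁅a, b⁆ ∈ commutator H := commutator_mem_commutator (mem_top a) (mem_top b)
  rwa [hk, mem_bot, commutatorElement_eq_one_iff_mul_comm] at this

variable {G : Type u} [Group G] [Finite G] {p : ℕ} [Fact p.Prime]

/-- A maximal subgroup containing the normaliser of a nontrivial Sylow subgroup. -/
theorem exists_maximal_normalizer_sylow (hG : IsMinSimpleOddOrder G) (P : Sylow p G)
    (hP : (P : Subgroup G) ≠ ⊥) : ∃ M, IsCoatom M ∧ normalizer ((P : Subgroup G) : Set G) ≤ M ∧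
      p ∈ sigma M ∧ SylIn p (P : Subgroup G) M := by
  obtain ⟨M, hM, hle⟩ := exists_maximal_ge
    (minSimple_normalizer_ne_top hG hP (isPGroup_ne_top hG P.isPGroup'))
  have hT : SylIn p (P : Subgroup G) M := sylIn_of_le P (le_normalizer.trans hle)
  refine ⟨M, hM, hle, (mem_sigma_iff hT).2 ⟨?_, hle⟩, hT⟩
  obtain ⟨n, hn⟩ := IsPGroup.iff_card.1 P.isPGroup'
  have hn0 : n ≠ 0 := fun e => hP (card_eq_one.1 (by rw [hn, e, pow_zero]))
  exact (hn ▸ dvd_pow_self p hn0).trans (card_dvd_of_le hT.le)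

variable (h1403 : StmtS1403.{u}) (h1444 : StmtS1444.{u}) (hG : IsMinSimpleOddOrder G)
include h1403 h1444 hG

/-- BG 10.7 (c). -/
theorem exists_normalizer_cj_eq (P : Sylow p G) {Q : Subgroup G} {x : G}
    (hQ : Q ≤ (P : Subgroup G)) (hx : cj x Q ≤ (P : Subgroup G)) :
    ∃ y ∈ normalizer ((P : Subgroup G) : Set G), cj x Q = cj y Q := by
  rcases eq_or_ne Q ⊥ with rfl | hQ1
  · exact ⟨1, one_mem _, by rw [cj_bot, cj_bot]⟩
  obtain ⟨M, hM, -, hσ, hT⟩ := exists_maximal_normalizer_sylow hG P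
    fun e => hQ1 (le_bot_iff.1 (e ▸ hQ))
  obtain ⟨m, hm, c, hc, rfl⟩ := exists_mul_centralizer h1403 hG hM hσ (P.isPGroup'.to_le hQ) hQ1
    (hQ.trans hT.le) (hx.trans hT.le)
  have hcQ : cj c Q = Q := mem_normalizer_iff_cj.1 (centralizer_le_normalizer _ hc)
  rw [cj_mul, hcQ] at hx ⊢
  obtain ⟨S, hS⟩ := exists_sylow_of_sylIn hT
  haveI := maximal_solvable hG hM
  have hS' : ∀ z : M, z ∈ (S : Subgroup M) ↔ (z : G) ∈ (P : Subgroup G) := fun z => by
    rw [← hS]; exact (mem_map_iff_mem M.subtype_injective).symm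
  obtain ⟨g, hg, d, hd, he⟩ := ((Cfsg.Agent.S1461.result p
    (pLengthLE_one_of_ne_top h1403 h1444 hG hM.1) S).2.1) (Q.subgroupOf M : Set M) ⟨m, hm⟩
    (fun z hz => (hS' z).2 (hQ hz)) (by
      rintro _ ⟨z, hz, rfl⟩
      exact (hS' _).2 (hx (conj_mem_cj.2 hz)))
  have hgN : (g : G) ∈ normalizer ((P : Subgroup G) : Set G) := by
    have h1 : g ∈ (normalizer ((S : Subgroup M) : Set M)) := hg
    rw [← hS]
    exact le_normalizer_map M.subtype ⟨g, h1, rfl⟩
  have hdQ : cj (d : G) Q = Q := mem_normalizer_iff_cj.1 (centralizer_le_normalizer _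
    (mem_centralizer_iff.2 fun q hq => congrArg Subtype.val
      (mem_centralizer_iff.1 hd ⟨q, hT.le (hQ hq)⟩ (mem_subgroupOf.2 hq))))
  refine ⟨g, hgN, ?_⟩
  rw [show m = (g : G) * d from congrArg Subtype.val he.symm, cj_mul, hdQ]

/-- BG 10.7 (d). -/
theorem sylow_normalizer_inf (P : Sylow p G) {Q : Subgroup G} (hQ : Q ≤ (P : Subgroup G)) :
    ¬ p ∣ ((P : Subgroup G) ⊓ normalizer (Q : Set G)).relIndex (normalizer (Q : Set G)) := by
  set R := (P : Subgroup G) ⊓ normalizer (Q : Set G) with hR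
  have hRp : IsPGroup p R := P.isPGroup'.to_le inf_le_left
  obtain ⟨S, hS, hRS⟩ := exists_sylIn_ge (p := p) hRp inf_le_right
  obtain ⟨z, -, hz⟩ := (sylIn_top P).exists_conj hS.isPGroup le_top
  have hQS : Q ≤ S := hS.le_of_normal (P.isPGroup'.to_le hQ) le_normalizer le_rfl
  obtain ⟨y, hy, he⟩ := exists_normalizer_cj_eq h1403 h1444 hG P hQ ((cj_mono hQS).trans hz)
  have hyz : cj (y⁻¹ * z) Q = Q := by rw [cj_mul, he, cj_inv_cj]
  have hle : cj (y⁻¹ * z) S ≤ R := by
    refine le_inf ?_ ?_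
    · rw [cj_mul]
      exact (cj_mono hz).trans (mem_normalizer_iff_cj.1 (inv_mem hy)).le
    · exact (cj_mono hS.le).trans (by rw [cj_normalizer, hyz])
  exact (hS.of_card hRp inf_le_right ((card_cj _ S).symm.le.trans (card_le_of_le hle))).not_dvd

/-- BG 10.7 (e). -/
theorem normalizer_le_normalizer_of_sylow (P : Sylow p G) {R Q : Subgroup G} (hR : IsPGroup p R)
    (hQ : Q ≤ (P : Subgroup G) ⊓ R)
    (hn : normalizer ((P : Subgroup G) : Set G) ≤ normalizer (Q : Set G)) :
    normalizer (R : Set G) ≤ normalizer (Q : Set G) := by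
  obtain ⟨g, -, hg⟩ := (sylIn_top P).exists_conj hR le_top
  have key : ∀ w : G, cj w Q ≤ (P : Subgroup G) → cj w Q = Q := fun w hw => by
    obtain ⟨y, hy, he⟩ := exists_normalizer_cj_eq h1403 h1444 hG P (hQ.trans inf_le_left) hw
    rw [he]; exact mem_normalizer_iff_cj.1 (hn hy)
  intro n hn'
  have h1 : cj g Q = Q := key g ((cj_mono (hQ.trans inf_le_right)).trans hg)
  have h2 : cj (g * n) Q = Q := key (g * n) (by
    rw [cj_mul]
    exact (cj_mono ((cj_mono (hQ.trans inf_le_right)).trans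
      (mem_normalizer_iff_cj.1 hn').le)).trans hg)
  rw [mem_normalizer_iff_cj, ← cj_inv_cj g (cj n Q), ← cj_mul g n, h2]
  conv_rhs => rw [← cj_inv_cj g Q, h1]

/-- BG 10.7 (a). -/
theorem sylow_le_derived_normalizer (P : Sylow p G) :
    (P : Subgroup G) ≤ ⁅normalizer ((P : Subgroup G) : Set G),
      normalizer ((P : Subgroup G) : Set G)⁆ := by
  rcases eq_or_ne (P : Subgroup G) ⊥ with hP | hP
  · rw [hP]; exact bot_le
  obtain ⟨M, hM, -, hσ, hT⟩ := exists_maximal_normalizer_sylow hG P hP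
  obtain ⟨S, hS⟩ := exists_sylow_of_sylIn hT
  haveI := maximal_solvable hG hM
  have h := (Cfsg.Agent.S1461.result p (pLengthLE_one_of_ne_top h1403 h1444 hG hM.1) S).1
    (sylow_le_derived h1403 hG hM hσ S)
  have h' := map_mono (f := M.subtype) h
  rw [hS, map_commutator] at h'
  have hle : (normalizer ((S : Subgroup M) : Set M)).map M.subtype ≤
      normalizer ((P : Subgroup G) : Set G) := by
    rintro _ ⟨g, hg, rfl⟩
    rw [← hS]
    exact le_normalizer_map M.subtype ⟨g, hg, rfl⟩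
  exact h'.trans (commutator_mono hle hle)

/-- BG 10.7 (a), commutator form. -/
theorem sylow_eq_commutator (P : Sylow p G) {V : Subgroup G}
    (hV : IsComplIn (P : Subgroup G) V (normalizer ((P : Subgroup G) : Set G))) :
    (P : Subgroup G) = ⁅(P : Subgroup G), V⁆ := by
  rcases eq_or_ne (P : Subgroup G) ⊥ with hP | hP
  · rw [hP, commutator_bot_left]
  set N := normalizer ((P : Subgroup G) : Set G) with hN
  haveI : Group.IsSolvable N := minSimple_solvable hG
    (minSimple_normalizer_ne_top hG hP (isPGroup_ne_top hG P.isPGroup'))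
  haveI : ((P : Subgroup G).subgroupOf N).Normal := normal_subgroupOf_of_le_normalizer le_rfl
  have hcop : (Nat.card ((P : Subgroup G).subgroupOf N)).Coprime
      ((P : Subgroup G).subgroupOf N).index := by
    obtain ⟨n, hn⟩ := IsPGroup.iff_card.1 P.isPGroup'
    rw [CfsgLib.Base.card_subgroupOf le_normalizer, hn]
    exact Nat.Coprime.pow_left n ((Fact.out : p.Prime).coprime_iff_not_dvd.2
      (sylIn_of_le P (H := N) le_normalizer).not_dvd)
  have hc : IsComplement' ((P : Subgroup G).subgroupOf N) (V.subgroupOf N) := by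
    refine isComplement'_of_disjoint_and_mul_eq_univ ?_ (Set.eq_univ_of_forall fun x => ?_)
    · rw [disjoint_iff, eq_bot_iff]
      intro x hx
      have : (x : G) ∈ (P : Subgroup G) ⊓ V := hx
      rw [hV.2.2.1, mem_bot] at this
      exact Subtype.ext this
    · obtain ⟨a, ha, b, hb, he⟩ := hV.2.2.2 x x.2
      exact ⟨⟨a, hV.1 ha⟩, ha, ⟨b, hV.2.1 hb⟩, hb, Subtype.ext he.symm⟩
  have hd : (P : Subgroup G).subgroupOf N ≤ commutator N := by
    refine (map_le_map_iff_of_injective N.subtype_injective).1 ?_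
    rw [map_subtype_commutator, map_subgroupOf_eq_of_le le_normalizer]
    exact sylow_le_derived_normalizer h1403 h1444 hG P
  have h := congrArg (Subgroup.map N.subtype) (hall_le_derived hcop hc hd).1
  rwa [map_commutator, map_subgroupOf_eq_of_le le_normalizer,
    map_subgroupOf_eq_of_le hV.2.1] at h

/-- BG 10.7 (b). -/
theorem sylow_rank_two_structure (h1448 : StmtS1448.{u}) (P : Sylow p G)
    (hr : PRankLE p 2 (P : Subgroup G)) :
    IsMulCommutative (P : Subgroup G) ∨ ∃ P₁ P₂ : Subgroup G, P₁ ⊔ P₂ = (P : Subgroup G) ∧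
      (∀ a ∈ P₁, ∀ b ∈ P₂, a * b = b * a) ∧
      ¬ IsMulCommutative P₁ ∧ Nat.card P₁ = p ^ 3 ∧ Monoid.exponent P₁ = p ∧ IsCyclic P₂ ∧
        closure {x : G | x ∈ P₂ ∧ x ^ p = 1} = P₁ ⊓ centralizer (P₁ : Set G) := by
  rcases eq_or_ne (P : Subgroup G) ⊥ with hP | hP
  · left
    rw [hP]
    exact CfsgLib.Base.isMulCommutative_subgroup_iff.2 fun a ha b hb => by
      rw [mem_bot.1 ha, mem_bot.1 hb]
  set N := normalizer ((P : Subgroup G) : Set G) with hN
  haveI : ((P : Subgroup G).subgroupOf N).Normal := normal_subgroupOf_of_le_normalizer le_rfl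
  obtain ⟨n, hn⟩ := IsPGroup.iff_card.1 P.isPGroup'
  have hn0 : n ≠ 0 := fun e => hP (card_eq_one.1 (by rw [hn, e, pow_zero]))
  have hp2 : p ≠ 2 := minSimple_ne_two hG
    ((hn ▸ dvd_pow_self p hn0).trans (card_subgroup_dvd_card _))
  have hnot := (sylIn_of_le P (H := N) le_normalizer).not_dvd
  obtain ⟨V₀, hV₀⟩ := exists_right_complement'_of_coprime
    (N := (P : Subgroup G).subgroupOf N) (by
      rw [CfsgLib.Base.card_subgroupOf le_normalizer, hn]
      exact Nat.Coprime.pow_left n ((Fact.out : p.Prime).coprime_iff_not_dvd.2 hnot))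
  set V := V₀.map N.subtype with hVdef
  have hVN : V ≤ N := map_subtype_le _
  have hcompl : IsComplIn (P : Subgroup G) V N := by
    refine ⟨le_normalizer, hVN, ?_, fun x hx => ?_⟩
    · rw [eq_bot_iff]
      rintro x ⟨hx, y, hy, rfl⟩
      have : y ∈ (P : Subgroup G).subgroupOf N ⊓ V₀ := ⟨hx, hy⟩
      rw [hV₀.disjoint.eq_bot, mem_bot] at this
      rw [this]; exact one_mem _
    · obtain ⟨⟨⟨a, ha⟩, ⟨b, hb⟩⟩, he⟩ := hV₀.2 ⟨x, hx⟩
      exact ⟨a, ha, b, ⟨b, hb, rfl⟩, (congrArg Subtype.val he).symm⟩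
  have hcardV : Nat.card V = (P : Subgroup G).relIndex N := by
    rw [hVdef, CfsgLib.Base.card_map_subtype, ← hV₀.symm.index_eq_card]; rfl
  rcases h1448 p hp2 (P : Subgroup G) V P.isPGroup' hP hr hVN
    (hcardV ▸ ((Fact.out : p.Prime).coprime_iff_not_dvd.2 hnot).symm)
    (hG.1.of_dvd_nat (card_subgroup_dvd_card _))
    (sylow_eq_commutator h1403 h1444 hG P hcompl).symm with ⟨-, h | ⟨R₁, R₂, e1, e2, e3, e4, e5, e6, e7⟩⟩
  · exact Or.inl h
  · refine Or.inr ⟨R₁, R₂, e1, e2, e3, e4, e5, e6, e7.trans ?_⟩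
    have h := congrArg (Subgroup.map R₁.subtype) (commutator_eq_center_of_card_cube e4 e3)
    rw [map_subtype_commutator] at h
    rw [h]
    ext x
    constructor
    · rintro ⟨y, hy, rfl⟩
      exact ⟨y.2, mem_centralizer_iff.2 fun w hw =>
        congrArg Subtype.val (mem_center_iff.1 hy ⟨w, hw⟩)⟩
    · rintro ⟨hx, hx'⟩
      exact ⟨⟨x, hx⟩, mem_center_iff.2 fun w => Subtype.ext (mem_centralizer_iff.1 hx' w w.2), rfl⟩

end CfsgLib.FT
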