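import Cfsg.Agent.Lib.FT.Sigma10
import Cfsg.Agent.Lib.FT.Discharge1444
import Cfsg.Agent.S1403
import Cfsg.Agent.S1453

/-!
BG section 10 statements, discharged from the uniqueness theorem and the narrow-group lemma.
-/

set_option autoImplicit false

universe u

namespace CfsgLib.FT

theorem stmtS1403 : StmtS1403.{u} :=
  fun {_} _ _ hG K hK h2 h3 => Cfsg.Agent.S1403.result hG K hK h2 h3

theorem stmtS1453 : StmtS1453.{u} :=
  fun {_} _ _ p _ hp hR hr E hE hE2 hmax => Cfsg.Agent.S1453.result p hp hR hr E hE hE2 hmax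

end CfsgLib.FT
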