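import Cfsg.Agent.Lib.FT.Stmts
import Cfsg.Agent.S1395

/-!
BG 7.5 as a proposition, discharged.
-/

set_option autoImplicit false

universe u

namespace CfsgLib.FT

theorem stmtS1395 : StmtS1395.{u} :=
  fun {_} _ _ hG A hA q hq hqA P hP hPπ hAP hsn htr =>
    Cfsg.Agent.S1395.result hG A hA q hq hqA P hP hPπ hAP hsn htr

end CfsgLib.FT
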