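import Cfsg.Agent.Lib.FT.SylowNormalizer
import Cfsg.Agent.S1448

/-!
BG 4.19 as a proposition, discharged.
-/

set_option autoImplicit false

universe u

namespace CfsgLib.FT

theorem stmtS1448 : StmtS1448.{u} :=
  fun {_} _ _ p _ hp R A hR hR1 hr hA hcop hAodd hRA =>
    Cfsg.Agent.S1448.result p hp R A hR hR1 hr hA hcop hAodd hRA

end CfsgLib.FT
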