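import Cfsg.Agent.Lib.CharsMore.InducedIrr

/-!
# Class functions supported on a normal subgroup in terms of induced irreducible characters
-/

set_option autoImplicit false
set_option linter.style.haveILetI false
set_option linter.unusedSectionVars false

namespace CfsgLib.FT

open Cfsg CfsgLib.CharsMore
open scoped ComplexConjugate

universe u

variable {L : Type u} [Group L] [Fintype L] (K : Subgroup L) [K.Normal]

/-- The function induced from the principal character. -/
noncomputable def indOne : L → ℂ := indFun K fun _ => 1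

theorem indOne_apply_mem {x : L} (hx : x ∈ K) : indOne K x = (K.index : ℂ) := by
  haveI := Fintype.ofFinite K
  rw [indOne, show x = ((⟨x, hx⟩ : K) : L) from rfl, indFun_normal_apply]
  simp only [conjFn, Finset.sum_const, Finset.card_univ, nsmul_one]
  rw [← Nat.card_eq_fintype_card, ← K.card_mul_index, Nat.cast_mul, ← mul_assoc,
    inv_mul_cancel₀ (Chars.card_ne_zero K), one_mul]

theorem indFun_eq_zero_of_notMem (θ : K → ℂ) {x : L} (hx : x ∉ K) : indFun K θ x = 0 := by
  rw [Chars.indFun_apply, Finset.sum_eq_zero, mul_zero]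
  intro y _
  refine Chars.extendByZero_of_not_mem K θ fun h => hx ?_
  simpa [mul_assoc] using (inferInstance : K.Normal).conj_mem _ h y

/-- A class function supported on `K` expands along the induced irreducible characters. -/
theorem expand_induced (S : Finset (L → ℂ)) (hS : (↑S : Set (L → ℂ)) = inducedIrrAbove K ⊥)
    {f : L → ℂ} (hf : IsClassFunction L f) (hfK : ∀ x, x ∉ K → f x = 0) :
    f = (classInner f (indOne K) / (K.index : ℂ)) • indOne K +
      ∑ φ ∈ S, (classInner f φ / classInner φ φ) • φ := by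
  classical
  haveI := Fintype.ofFinite K
  haveI := Chars.irrFintype K
  have hidx : (K.index : ℂ) ≠ 0 := Nat.cast_ne_zero.mpr Subgroup.index_ne_zero_of_finite
  set fK : K → ℂ := fun k => f k with hfKdef
  have hInd : indFun K fK = (K.index : ℂ) • f := by
    funext x
    by_cases hx : x ∈ K
    · rw [show x = ((⟨x, hx⟩ : K) : L) from rfl, indFun_normal_apply]
      have h1 : ∀ y : L, conjFn K y fK ⟨x, hx⟩ = f x := fun y => by
        show f ((conjBy K y ⟨x, hx⟩ : K) : L) = f x
        rw [coe_conjBy]
        exact hf x y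
      rw [Finset.sum_congr rfl fun y _ => h1 y, Finset.sum_const, Finset.card_univ, nsmul_eq_mul,
        ← Nat.card_eq_fintype_card, ← K.card_mul_index, Nat.cast_mul, Pi.smul_apply, smul_eq_mul,
        ← mul_assoc, ← mul_assoc, inv_mul_cancel₀ (Chars.card_ne_zero K), one_mul]
    · rw [indFun_eq_zero_of_notMem K _ hx, Pi.smul_apply, hfK x hx, smul_zero]
  have hexp : (K.index : ℂ) • f =
      ∑ θ : IrrCharacter K, classInner f (indFun K (θ : K → ℂ)) • indFun K (θ : K → ℂ) := by
    rw [← hInd]
    conv_lhs => rw [hfKdef, Chars.classFun_eq_sum (Chars.isClassFunction_restrict K hf)]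
    rw [Chars.indFun_sum]
    refine Finset.sum_congr rfl fun θ _ => ?_
    rw [Chars.indFun_smul, Chars.inner_indFun_right K _ hf]
  rw [← Finset.add_sum_erase _ _ (Finset.mem_univ (Chars.principal K))] at hexp
  have hmaps : ∀ θ ∈ Finset.univ.erase (Chars.principal K), indFun K (θ : K → ℂ) ∈ S := by
    intro θ hθ
    rw [← Finset.mem_coe, hS, mem_inducedIrrAbove_bot K θ.2]
    exact fun e => Finset.ne_of_mem_erase hθ (Subtype.ext e)
  rw [← Finset.sum_fiberwise_of_maps_to (g := fun θ : IrrCharacter K => indFun K (θ : K → ℂ)) hmaps]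
    at hexp
  have hfib : ∀ φ ∈ S, ∑ θ ∈ (Finset.univ.erase (Chars.principal K)).filter
      (fun θ : IrrCharacter K => indFun K (θ : K → ℂ) = φ),
      classInner f (indFun K (θ : K → ℂ)) • indFun K (θ : K → ℂ) =
      (K.index : ℂ) • ((classInner f φ / classInner φ φ) • φ) := by
    intro φ hφ
    rw [Finset.sum_congr rfl (g := fun _ => classInner f φ • φ) fun θ hθ => by
      rw [(Finset.mem_filter.mp hθ).2], Finset.sum_const, ← Nat.cast_smul_eq_nsmul ℂ, smul_smul,
      smul_smul]
    congr 1
    obtain ⟨θ₀, hθ₀, hne, -, e⟩ : φ ∈ inducedIrrAbove K ⊥ := hS ▸ Finset.mem_coe.mpr hφ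
    set Fb := (Finset.univ.erase (Chars.principal K)).filter
      (fun θ : IrrCharacter K => indFun K (θ : K → ℂ) = φ) with hFb
    have hF : Fb.map ⟨Subtype.val, Subtype.val_injective⟩ = orbitFn K θ₀ := by
      ext ψ
      simp only [Finset.mem_map, hFb, Finset.mem_filter, Finset.mem_erase, Finset.mem_univ, and_true,
        Function.Embedding.coeFn_mk]
      refine ⟨?_, fun h => ⟨⟨ψ, orbitFn_irr K hθ₀ h⟩, ⟨fun h1 => hne ?_, ?_⟩, rfl⟩⟩
      · rintro ⟨θ, ⟨-, h⟩, rfl⟩
        exact (indFun_eq_iff K hθ₀ θ.2).1 (h.trans e)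
      · obtain ⟨g, hg⟩ := (mem_orbitFn K).1 h
        have h2 : ψ = fun _ => 1 := congrArg Subtype.val h1
        funext k
        obtain ⟨k', rfl⟩ := conjBy_surjective K g k
        exact (congrFun hg k').trans (congrFun h2 k')
      · exact ((indFun_eq_iff K hθ₀ (orbitFn_irr K hθ₀ h)).2 h).trans e.symm
    rw [← Finset.card_map ⟨Subtype.val, Subtype.val_injective⟩, hF, card_orbitFn, e,
      inner_indFun_self K hθ₀]
    have hle : K ≤ inertia K θ₀ :=
      le_inertia K (Chars.isClassFunction_of_isCharacter (Chars.isCharacter_of_irr hθ₀))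
    have hi : (K.relIndex (inertia K θ₀) : ℂ) ≠ 0 :=
      Nat.cast_ne_zero.mpr Subgroup.index_ne_zero_of_finite
    rw [← Subgroup.relIndex_mul_index hle, Nat.cast_mul]
    field_simp
  rw [Finset.sum_congr rfl hfib, ← Finset.smul_sum] at hexp
  have hfin := congrArg (fun w : L → ℂ => (K.index : ℂ)⁻¹ • w) hexp
  simp only [smul_add, smul_smul, inv_mul_cancel₀ hidx, one_smul] at hfin
  rw [div_eq_inv_mul]
  exact hfin

variable {S : Finset (L → ℂ)}

theorem inner_indOne_indOne : classInner (indOne K) (indOne K) = (K.index : ℂ) := by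
  haveI := Fintype.ofFinite K
  rw [indOne, Chars.inner_indFun K _ (Chars.isClassFunction_indFun K _),
    show (fun k : K => indFun K (fun _ => (1 : ℂ)) k) = (K.index : ℂ) • (fun _ : K => (1 : ℂ)) from
      funext fun k => by rw [Pi.smul_apply, smul_eq_mul, mul_one]; exact indOne_apply_mem K k.2,
    Chars.inner_smul_right, Chars.inner_one_one, map_natCast, mul_one]

theorem inner_indOne_induced {φ : L → ℂ} (hφ : φ ∈ inducedIrrAbove K ⊥) :
    classInner (indOne K) φ = 0 := by
  haveI := Fintype.ofFinite K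
  obtain ⟨θ, hθ, hne, -, rfl⟩ := hφ
  rw [Chars.inner_indFun_right K θ (χ := indOne K) (Chars.isClassFunction_indFun K _),
    show (fun k : K => indOne K k) = (K.index : ℂ) • (fun _ : K => (1 : ℂ)) from
      funext fun k => by rw [Pi.smul_apply, smul_eq_mul, mul_one, indOne_apply_mem K k.2],
    Chars.inner_smul_left, show classInner (fun _ : K => (1 : ℂ)) θ = 0 from
      Chars.inner_irr_ne (χ := Chars.principal K) (ψ := ⟨θ, hθ⟩) (fun e => hne (congrArg Subtype.val e).symm),
    mul_zero]

/-- The degree-weighted sum of the family: the regular character minus `Ind 1`, divided by `e`. -/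
theorem sum_weight_apply (hS : (↑S : Set (L → ℂ)) = inducedIrrAbove K ⊥) (x : L) [Decidable (x = 1)]
    (hx : x ∈ K) :
    ∑ φ ∈ S, (φ 1 / classInner φ φ) * φ x =
      (if x = 1 then (Nat.card L : ℂ) else 0) - (K.index : ℂ) := by
  classical
  set δ : L → ℂ := fun y => if y = 1 then (Nat.card L : ℂ) else 0 with hδ
  have hδc : IsClassFunction L δ := fun a g => by simp [hδ]
  have hinn : ∀ φ : L → ℂ, classInner δ φ = conj (φ 1) := fun φ => by
    rw [Chars.inner_def, Finset.sum_eq_single (1 : L)]
    · simp only [hδ, if_pos]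
      rw [← mul_assoc, inv_mul_cancel₀ (Nat.cast_ne_zero.mpr Nat.card_pos.ne'), one_mul]
    · intro y _ hy; simp [hδ, hy]
    · exact fun h => absurd (Finset.mem_univ _) h
  have h := congrFun (expand_induced K S hS hδc
    (fun y hy => if_neg fun e : y = 1 => hy (e ▸ K.one_mem))) x
  simp only [hinn, Pi.add_apply, Pi.smul_apply, Finset.sum_apply, smul_eq_mul] at h
  rw [indOne_apply_mem K hx, indOne_apply_mem K K.one_mem, map_natCast,
    div_self (Nat.cast_ne_zero.mpr Subgroup.index_ne_zero_of_finite), one_mul] at h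
  have hreal : ∀ φ ∈ S, conj (φ 1) = φ 1 := fun φ hφ => by
    obtain ⟨θ, hθ, -, -, rfl⟩ : φ ∈ inducedIrrAbove K ⊥ := hS ▸ Finset.mem_coe.mpr hφ
    rw [indFun_deg K (Chars.isCharacter_of_irr hθ), map_natCast]
  rw [Finset.sum_congr rfl fun φ hφ => by rw [hreal φ hφ]] at h
  rw [show δ x = (if x = 1 then (Nat.card L : ℂ) else 0) by simp [hδ]] at h
  rw [h]
  ring

end CfsgLib.FT
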