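import Cfsg.Agent.Lib.FT.InvDade
import Cfsg.Agent.Lib.FT.InducedExpansion
import Cfsg.Agent.Lib.Chars.Permutation

/-!
# Peterfalvi (7.7)–(7.9): the Dade map on a coherent family induced from a normal subgroup
-/

set_option autoImplicit false
set_option linter.style.haveILetI false
set_option linter.unusedSectionVars false

namespace CfsgLib.FT

open Cfsg CfsgLib.Chars CfsgLib.CharsMore
open scoped ComplexConjugate

universe u

variable {G : Type u} [Group G] [Fintype G]

/-- Hypothesis (7.6): a normal subgroup `K` of `L` with the Dade hypothesis on `K^#`. -/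
structure KernelSetup (A : Set G) (L : Subgroup G) [Fintype L] (R : G → Subgroup G) (K : Subgroup L)
    (S : Finset (L → ℂ)) : Prop where
  dade : DadeHypothesis A L R
  mem_iff : ∀ x : L, (x : G) ∈ A ↔ x ∈ K ∧ x ≠ 1
  coe_eq : (↑S : Set (L → ℂ)) = inducedIrrAbove K ⊥

/-- Hypothesis of (7.8): the family is coherent and `ζ` is an irreducible member of degree `[L:K]`. -/
structure CoherentSetup (A : Set G) (L : Subgroup G) [Fintype L] (R : G → Subgroup G)
    (K : Subgroup L) [K.Normal] (S : Finset (L → ℂ)) (ν : (L → ℂ) → (G → ℂ)) (ζ : L → ℂ) : Prop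
    extends KernelSetup A L R K S where
  iso : IsLinearIsometryOn (zspan (↑S : Set (L → ℂ))) ν
  agree : ∀ α ∈ zspanOn (↑S : Set (L → ℂ)) {1}ᶜ, ν α = dadeIsometry A L R α
  zeta_mem : ζ ∈ S
  zeta_irr : IsIrrCharacter L ζ
  zeta_deg : ζ 1 = (K.index : ℂ)

variable {A : Set G} {L : Subgroup G} [Fintype L] {R : G → Subgroup G} {K : Subgroup L} [K.Normal]
  {S : Finset (L → ℂ)}

section Kernel

variable (hK : KernelSetup A L R K S)
include hK

theorem KernelSetup.mem {φ : L → ℂ} (hφ : φ ∈ S) : φ ∈ inducedIrrAbove K ⊥ :=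
  hK.coe_eq ▸ Finset.mem_coe.mpr hφ

theorem KernelSetup.isCharacter {φ : L → ℂ} (hφ : φ ∈ S) : IsCharacter L φ := by
  obtain ⟨θ, hθ, -, -, rfl⟩ := hK.mem hφ
  exact isCharacter_indFun K (isCharacter_of_irr hθ)

theorem KernelSetup.apply_one {φ : L → ℂ} (hφ : φ ∈ S) : φ 1 = (charDegree φ : ℂ) :=
  CharApps.deg_eq_of_isChar (hK.isCharacter hφ)

theorem KernelSetup.degree_pos {φ : L → ℂ} (hφ : φ ∈ S) : 0 < charDegree φ := by
  obtain ⟨θ, hθ, -, -, rfl⟩ := hK.mem hφ
  rw [charDegree_indFun K (isCharacter_of_irr hθ)]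
  exact Nat.mul_pos (Nat.pos_of_ne_zero Subgroup.index_ne_zero_of_finite)
    (CharApps.deg_pos (⟨θ, hθ⟩ : IrrCharacter K))

theorem KernelSetup.inner_self_ne_zero {φ : L → ℂ} (hφ : φ ∈ S) : classInner φ φ ≠ 0 := fun h => by
  rw [inner_self_eq_zero_iff] at h
  have h2 := (hK.apply_one hφ).symm.trans (congrFun h 1)
  rw [Pi.zero_apply, Nat.cast_eq_zero] at h2
  exact (hK.degree_pos hφ).ne' h2

theorem KernelSetup.inner_eq_zero {φ ψ : L → ℂ} (hφ : φ ∈ S) (hψ : ψ ∈ S) (hne : φ ≠ ψ) :
    classInner φ ψ = 0 := by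
  classical
  haveI := Fintype.ofFinite K
  obtain ⟨θ, hθ, -, -, e⟩ := hK.mem hφ
  obtain ⟨θ', hθ', -, -, e'⟩ := hK.mem hψ
  rw [e, e', inner_indFun_right K θ' (isClassFunction_indFun K θ), inner_indFun_restrict K hθ hθ']
  have : IsEmpty {x : L // conjFn K x θ = θ'} := ⟨fun x => hne (by
    rw [e, e', ← x.2, indFun_conjFn])⟩
  rw [Nat.card_eq_zero.mpr (Or.inl this), Nat.cast_zero, mul_zero]

theorem KernelSetup.inner_one {φ : L → ℂ} (hφ : φ ∈ S) : classInner φ (fun _ => 1) = 0 := by
  haveI := Fintype.ofFinite K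
  obtain ⟨θ, hθ, hne, -, rfl⟩ := hK.mem hφ
  rw [inner_indFun K θ (χ := fun _ : L => (1 : ℂ)) (fun _ _ => rfl)]
  exact inner_irr_ne (χ := ⟨θ, hθ⟩) (ψ := principal K) fun e => hne (congrArg Subtype.val e)

theorem KernelSetup.isGeneralized {α : L → ℂ} (hα : α ∈ zspan (↑S : Set (L → ℂ))) :
    IsGeneralizedCharacter L α :=
  mem_genChar.mp ((Submodule.span_le.mpr fun _ hφ => genChar_of_isCharacter (hK.isCharacter hφ)) hα)

theorem KernelSetup.supported {α : L → ℂ} (hα : α ∈ zspanOn (↑S : Set (L → ℂ)) {1}ᶜ) {x : L}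
    (hx : (x : G) ∉ A) : α x = 0 := by
  by_cases hx1 : x = 1
  · exact hα.2 x (by simp [hx1])
  have hxK : x ∉ K := fun h => hx ((hK.mem_iff x).mpr ⟨h, hx1⟩)
  obtain ⟨hα, -⟩ := hα
  change α ∈ Submodule.span ℤ _ at hα
  induction hα using Submodule.span_induction with
  | mem φ hφ =>
    obtain ⟨θ, -, -, -, rfl⟩ := hK.mem hφ
    exact indFun_eq_zero_of_notMem K θ hxK
  | zero => rfl
  | add a b _ _ ha hb => rw [Pi.add_apply, ha, hb, add_zero]
  | smul n a _ ha => rw [Pi.smul_apply, ha, smul_zero]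

omit hK in
theorem comb_mem {φ ψ : L → ℂ} (hφ : φ ∈ S) (hψ : ψ ∈ S) (m n : ℕ)
    (h : (m : ℂ) * φ 1 = (n : ℂ) * ψ 1) :
    (m : ℂ) • φ - (n : ℂ) • ψ ∈ zspanOn (↑S : Set (L → ℂ)) {1}ᶜ := by
  refine mem_zspanOn_one.2 ⟨Submodule.sub_mem _ ?_ ?_, by simp [h]⟩
  · rw [← Int.cast_natCast, ← zsmul_eq_cast]
    exact Submodule.smul_mem _ _ (Submodule.subset_span hφ)
  · rw [← Int.cast_natCast, ← zsmul_eq_cast]
    exact Submodule.smul_mem _ _ (Submodule.subset_span hψ)

theorem KernelSetup.apply_eq {φ : L → ℂ} (hφ : φ ∈ S) {a : L} (ha : (a : G) ∉ A) (ha1 : a ≠ 1) :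
    φ a = 0 := by
  obtain ⟨θ, -, -, -, rfl⟩ := hK.mem hφ
  exact indFun_eq_zero_of_notMem K θ fun h => ha ((hK.mem_iff a).mpr ⟨h, ha1⟩)

theorem KernelSetup.rho_supported (χ : G → ℂ) (x : L) (hx : x ∉ K) : invDade A L R χ x = 0 :=
  invDade_of_notMem (fun h => hx ((hK.mem_iff x).mp h).1) χ

/-- Peterfalvi (7.7). -/
theorem KernelSetup.invDade_expansion {χ : G → ℂ} (hχ : IsClassFunction G χ) {ξ : L → ℂ}
    (hξ : ξ ∈ S) :
    ∃ k : ℂ, ∀ a : L, (a : G) ∈ A → invDade A L R χ a = k + ∑ φ ∈ S,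
      (classInner χ (dadeIsometry A L R ((charDegree ξ : ℂ) • φ - (charDegree φ : ℂ) • ξ)) /
        ((charDegree ξ : ℂ) * classInner φ φ)) * φ a := by
  classical
  set ρ := invDade A L R χ with hρ
  set t := classInner ρ ξ / (charDegree ξ : ℂ) with ht
  refine ⟨classInner ρ (indOne K) - (K.index : ℂ) * t, fun a ha => ?_⟩
  have hd : (charDegree ξ : ℂ) ≠ 0 := Nat.cast_ne_zero.mpr (hK.degree_pos hξ).ne'
  have hcoef : ∀ φ ∈ S, classInner ρ φ = classInner χ (dadeIsometry A L R
      ((charDegree ξ : ℂ) • φ - (charDegree φ : ℂ) • ξ)) / (charDegree ξ : ℂ) +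
      (charDegree φ : ℂ) * t := by
    intro φ hφ
    set α := (charDegree ξ : ℂ) • φ - (charDegree φ : ℂ) • ξ with hα
    have hm : α ∈ zspanOn (↑S : Set (L → ℂ)) {1}ᶜ := comb_mem hφ hξ _ _
      (by rw [hK.apply_one hφ, hK.apply_one hξ]; ring)
    have h := inner_dade hK.dade (isClassFunction_of_isGeneralized (hK.isGeneralized hm.1))
      (fun x hx => hK.supported hm hx) hχ
    have h' : classInner χ (dadeIsometry A L R α) = classInner ρ α := by
      rw [← inner_conj, h, inner_conj]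
    rw [h', hα, Chars.inner_sub_right, Chars.inner_smul_right,
      Chars.inner_smul_right, map_natCast, map_natCast, ht]
    field_simp
    ring
  obtain ⟨haK, ha1⟩ := (hK.mem_iff a).mp ha
  have he := congrFun (expand_induced K S hK.coe_eq (isClassFunction_invDade hK.dade hχ)
    (hK.rho_supported χ)) a
  simp only [Pi.add_apply, Pi.smul_apply, Finset.sum_apply, smul_eq_mul] at he
  rw [indOne_apply_mem K haK, div_mul_cancel₀ _ (Nat.cast_ne_zero.mpr Subgroup.index_ne_zero_of_finite),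
    ← hρ] at he
  have hw := sum_weight_apply K hK.coe_eq a haK
  rw [if_neg ha1, zero_sub] at hw
  rw [he, sub_add_eq_add_sub, add_sub_assoc]
  congr 1
  rw [eq_sub_iff_add_eq, show (K.index : ℂ) * t = -(t * -(K.index : ℂ)) by ring, ← hw, Finset.mul_sum,
    ← sub_eq_add_neg, ← Finset.sum_sub_distrib]
  refine Finset.sum_congr rfl fun φ hφ => ?_
  rw [hcoef φ hφ, hK.apply_one hφ]
  have := hK.inner_self_ne_zero hφ
  field_simp
  ring

end Kernel

variable {ν : (L → ℂ) → (G → ℂ)} {ζ : L → ℂ}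

/-- The function `β = (Ind 1 - ζ)^τ` of (7.8). -/
noncomputable def betaFun (A : Set G) (L : Subgroup G) [Fintype L] (R : G → Subgroup G)
    (K : Subgroup L) [K.Normal] (ζ : L → ℂ) : G → ℂ :=
  dadeIsometry A L R (indOne K - ζ)

section Coherent

variable (hC : CoherentSetup A L R K S ν ζ)
include hC

theorem CoherentSetup.charDegree_zeta : charDegree ζ = K.index := by
  rw [charDegree, hC.zeta_deg, Complex.natCast_re, Nat.floor_natCast]

theorem CoherentSetup.zeta_norm : classInner ζ ζ = 1 := inner_irr_self ⟨ζ, hC.zeta_irr⟩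

theorem CoherentSetup.nu_gen {φ : L → ℂ} (hφ : φ ∈ S) : IsGeneralizedCharacter G (ν φ) :=
  hC.iso.2.2.2 φ (Submodule.subset_span hφ)

theorem CoherentSetup.nu_inner {φ ψ : L → ℂ} (hφ : φ ∈ S) (hψ : ψ ∈ S) :
    classInner (ν φ) (ν ψ) = classInner φ ψ :=
  hC.iso.2.2.1 φ (Submodule.subset_span hφ) ψ (Submodule.subset_span hψ)

theorem CoherentSetup.dade_comb {φ ψ : L → ℂ} (hφ : φ ∈ S) (hψ : ψ ∈ S) (m n : ℕ)
    (h : (m : ℂ) * φ 1 = (n : ℂ) * ψ 1) :
    dadeIsometry A L R ((m : ℂ) • φ - (n : ℂ) • ψ) = (m : ℂ) • ν φ - (n : ℂ) • ν ψ := by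
  set M : Submodule ℤ (L → ℂ) := Submodule.span ℤ (↑S : Set (L → ℂ))
  have hM : IsLinearIsometryOn (M : Set (L → ℂ)) ν := hC.iso
  have hmem : ∀ {θ : L → ℂ} (_ : θ ∈ S) (k : ℕ), (k : ℂ) • θ ∈ M := fun hθ k => by
    rw [← Int.cast_natCast, ← zsmul_eq_cast]; exact M.smul_mem _ (Submodule.subset_span hθ)
  rw [← hC.agree _ (comb_mem hφ hψ m n h), isometry_map_sub hM (hmem hφ m) (hmem hψ n),
    ← Int.cast_natCast, ← Int.cast_natCast (R := ℂ) n, isometry_map_smul hM (Submodule.subset_span hφ),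
    isometry_map_smul hM (Submodule.subset_span hψ)]

theorem CoherentSetup.indOne_sub_supported (x : L) (hx : (x : G) ∉ A) : (indOne K - ζ) x = 0 := by
  rw [Pi.sub_apply]
  by_cases hx1 : x = 1
  · subst hx1
    rw [indOne_apply_mem K K.one_mem, hC.zeta_deg, sub_self]
  · rw [hC.toKernelSetup.apply_eq hC.zeta_mem hx hx1,
      show indOne K x = 0 from indFun_eq_zero_of_notMem K _ fun h => hx ((hC.mem_iff x).mpr ⟨h, hx1⟩),
      sub_self]

theorem CoherentSetup.indOne_sub_gen : IsGeneralizedCharacter L (indOne K - ζ) :=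
  ⟨indOne K, ζ, isCharacter_indFun K isCharacter_one, isCharacter_of_irr hC.zeta_irr, rfl⟩

theorem CoherentSetup.beta_gen : IsGeneralizedCharacter G (betaFun A L R K ζ) :=
  isGeneralized_dadeIsometry hC.dade hC.indOne_sub_gen hC.indOne_sub_supported

/-- `⟨β, 1⟩ = 1`. -/
theorem CoherentSetup.inner_beta_one : classInner (betaFun A L R K ζ) (fun _ => 1) = 1 := by
  haveI := Fintype.ofFinite K
  rw [betaFun, inner_dadeIsometry_one hC.dade (isClassFunction_of_isGeneralized hC.indOne_sub_gen)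
    hC.indOne_sub_supported, Chars.inner_sub_left, hC.toKernelSetup.inner_one hC.zeta_mem, sub_zero,
    indOne, inner_indFun K _ (χ := fun _ : L => (1 : ℂ)) (fun _ _ => rfl), inner_one_one]

/-- `‖β‖² = e + 1`. -/
theorem CoherentSetup.inner_beta_self :
    classInner (betaFun A L R K ζ) (betaFun A L R K ζ) = (K.index : ℂ) + 1 := by
  have h0 := inner_indOne_induced K (hC.toKernelSetup.mem hC.zeta_mem)
  rw [betaFun, inner_dadeIsometry_dadeIsometry hC.dade
    (isClassFunction_of_isGeneralized hC.indOne_sub_gen) hC.indOne_sub_supported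
    (isClassFunction_of_isGeneralized hC.indOne_sub_gen), Chars.inner_sub_left,
    Chars.inner_sub_right, Chars.inner_sub_right, inner_indOne_indOne, h0, hC.zeta_norm,
    show classInner ζ (indOne K) = 0 by rw [← inner_conj, h0, map_zero]]
  ring

/-- The members of the coherent image are orthogonal to `1`. -/
theorem CoherentSetup.inner_nu_one_eq {φ : L → ℂ} (hφ : φ ∈ S) :
    (K.index : ℂ) * classInner (ν φ) (fun _ => 1) =
      (charDegree φ : ℂ) * classInner (ν ζ) (fun _ => 1) := by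
  have hd : (K.index : ℂ) * φ 1 = (charDegree φ : ℂ) * ζ 1 := by
    rw [hC.toKernelSetup.apply_one hφ, hC.zeta_deg]; ring
  have hm := comb_mem hφ hC.zeta_mem _ _ hd
  have h := inner_dadeIsometry_one hC.dade
    (isClassFunction_of_isGeneralized (hC.toKernelSetup.isGeneralized hm.1))
    (fun x hx => hC.toKernelSetup.supported hm hx)
  rw [hC.dade_comb hφ hC.zeta_mem _ _ hd, Chars.inner_sub_left, Chars.inner_smul_left,
    Chars.inner_smul_left, Chars.inner_sub_left, Chars.inner_smul_left, Chars.inner_smul_left,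
    hC.toKernelSetup.inner_one hφ, hC.toKernelSetup.inner_one hC.zeta_mem, mul_zero, mul_zero,
    sub_zero, sub_eq_zero] at h
  exact h

/-- `⟨β, ν φ⟩` in terms of `⟨β, ν ζ⟩`. -/
theorem CoherentSetup.inner_beta_nu {φ : L → ℂ} (hφ : φ ∈ S) (hne : φ ≠ ζ) :
    (K.index : ℂ) * classInner (betaFun A L R K ζ) (ν φ) =
      (charDegree φ : ℂ) * (classInner (betaFun A L R K ζ) (ν ζ) + 1) := by
  have hd : (K.index : ℂ) * φ 1 = (charDegree φ : ℂ) * ζ 1 := by
    rw [hC.toKernelSetup.apply_one hφ, hC.zeta_deg]; ring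
  have hm := comb_mem hφ hC.zeta_mem _ _ hd
  have h := inner_dadeIsometry_dadeIsometry hC.dade (isClassFunction_of_isGeneralized hC.indOne_sub_gen)
    hC.indOne_sub_supported (isClassFunction_of_isGeneralized (hC.toKernelSetup.isGeneralized hm.1))
  rw [hC.dade_comb hφ hC.zeta_mem _ _ hd, ← betaFun, Chars.inner_sub_right, Chars.inner_smul_right,
    Chars.inner_smul_right, map_natCast, map_natCast, Chars.inner_sub_right, Chars.inner_smul_right,
    Chars.inner_smul_right, map_natCast, map_natCast, Chars.inner_sub_left, Chars.inner_sub_left,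
    inner_indOne_induced K (hC.toKernelSetup.mem hφ),
    inner_indOne_induced K (hC.toKernelSetup.mem hC.zeta_mem), hC.zeta_norm,
    hC.toKernelSetup.inner_eq_zero hC.zeta_mem hφ (Ne.symm hne)] at h
  linear_combination h

/-- The average over `A` paired with `Ind 1 - ζ`. -/
theorem CoherentSetup.inner_rho_indOne_sub {χ : G → ℂ} (hχ : IsClassFunction G χ) :
    classInner (invDade A L R χ) (indOne K - ζ) = classInner χ (betaFun A L R K ζ) := by
  rw [← inner_conj, ← inner_dade hC.dade (isClassFunction_of_isGeneralized hC.indOne_sub_gen)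
    hC.indOne_sub_supported hχ, inner_conj]
  rfl

theorem CoherentSetup.sum_on_A :
    (∑ a : L, open scoped Classical in if (a : G) ∈ A then (1 : ℂ) else 0) = (Nat.card K : ℂ) - 1 ∧
      (∑ a : L, open scoped Classical in if (a : G) ∈ A then ζ a else 0) = -(K.index : ℂ) ∧
      (∑ a : L, open scoped Classical in if (a : G) ∈ A then ζ a * conj (ζ a) else 0) =
        (Nat.card L : ℂ) - (K.index : ℂ) ^ 2 := by
  classical
  have hsplit : ∀ F : L → ℂ, (∀ x, x ∉ K → F x = 0) →
      ∑ a : L, (if (a : G) ∈ A then F a else 0) = (∑ a : L, F a) - F 1 := by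
    intro F hF
    rw [eq_sub_iff_add_eq, ← Finset.sum_ite_eq' Finset.univ (1 : L) F |>.trans (if_pos (Finset.mem_univ _)),
      ← Finset.sum_add_distrib]
    refine Finset.sum_congr rfl fun a _ => ?_
    by_cases ha1 : a = 1
    · subst ha1
      rw [if_neg fun h => ((hC.mem_iff 1).mp h).2 rfl, if_pos rfl, zero_add]
    · rw [if_neg ha1, add_zero]
      split_ifs with h
      · rfl
      · exact (hF a fun hk => h ((hC.mem_iff a).mpr ⟨hk, ha1⟩)).symm
  have hz0 : ∀ x, x ∉ K → ζ x = 0 := fun x hx =>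
    hC.toKernelSetup.apply_eq hC.zeta_mem (fun h => hx ((hC.mem_iff x).mp h).1)
      fun e => hx (e ▸ K.one_mem)
  have hL : (Nat.card L : ℂ) ≠ 0 := Nat.cast_ne_zero.mpr Nat.card_pos.ne'
  refine ⟨?_, ?_, ?_⟩
  · have := hsplit (fun a => if a ∈ K then 1 else 0) fun x hx => if_neg hx
    rw [Finset.sum_boole, if_pos K.one_mem, ← Fintype.card_subtype, ← Nat.card_eq_fintype_card] at this
    rw [← this]
    refine Finset.sum_congr rfl fun a _ => ?_
    split_ifs with h hk
    · rfl
    · exact absurd ((hC.mem_iff a).mp h).1 hk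
    · rfl
  · rw [hsplit ζ hz0, hC.zeta_deg]
    have h := hC.toKernelSetup.inner_one hC.zeta_mem
    rw [inner_def, mul_eq_zero] at h
    simp only [map_one, mul_one] at h
    rw [h.resolve_left (inv_ne_zero hL), zero_sub]
  · rw [hsplit (fun a => ζ a * conj (ζ a)) fun x hx => by simp [hz0 x hx], hC.zeta_deg, map_natCast]
    have h := hC.zeta_norm
    rw [inner_def, inv_mul_eq_one₀ hL] at h
    rw [← h]
    ring

theorem CoherentSetup.inner_on_A (f : L → ℂ) :
    classInner (open scoped Classical in fun a : L => if (a : G) ∈ A then f a else 0)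
      (indOne K - ζ) =
      (Nat.card L : ℂ)⁻¹ * ∑ a : L,
        open scoped Classical in if (a : G) ∈ A then f a * ((K.index : ℂ) - conj (ζ a)) else 0 := by
  classical
  rw [inner_def]
  congr 1
  refine Finset.sum_congr rfl fun a _ => ?_
  split_ifs with ha
  · rw [Pi.sub_apply, indOne_apply_mem K ((hC.mem_iff a).mp ha).1, map_sub, map_natCast]
  · rw [zero_mul]

/-- Peterfalvi (7.8 c): off the coherent image the average is constant. -/
theorem CoherentSetup.invDade_of_orth {χ : G → ℂ} (hχ : IsClassFunction G χ)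
    (horth : ∀ φ ∈ S, classInner χ (ν φ) = 0) {a : L} (ha : (a : G) ∈ A) :
    invDade A L R χ a = classInner χ (betaFun A L R K ζ) := by
  classical
  obtain ⟨k, hk⟩ := hC.toKernelSetup.invDade_expansion hχ hC.zeta_mem
  have hconst : ∀ a : L, (a : G) ∈ A → invDade A L R χ a = k := by
    intro a ha
    rw [hk a ha, Finset.sum_eq_zero, add_zero]
    intro φ hφ
    rw [hC.dade_comb hφ hC.zeta_mem _ _ (by
      rw [hC.toKernelSetup.apply_one hφ, hC.toKernelSetup.apply_one hC.zeta_mem]; ring),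
      Chars.inner_sub_right, Chars.inner_smul_right, Chars.inner_smul_right, horth φ hφ,
      horth ζ hC.zeta_mem]
    simp
  rw [hconst a ha, ← hC.inner_rho_indOne_sub hχ,
    show invDade A L R χ = fun x : L => if (x : G) ∈ A then k else 0 from funext fun x => by
      split_ifs with hx
      · exact hconst x hx
      · exact invDade_of_notMem hx χ,
    hC.inner_on_A fun _ => k]
  obtain ⟨h1, h2, -⟩ := hC.sum_on_A
  have h2' : ∑ a : L, (if (a : G) ∈ A then conj (ζ a) else 0) = -(K.index : ℂ) := by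
    have := congrArg conj h2
    rw [map_sum, map_neg, map_natCast] at this
    rw [← this]
    exact Finset.sum_congr rfl fun a _ => by split <;> simp
  have h3 : ∀ a : L, (if (a : G) ∈ A then k * ((K.index : ℂ) - conj (ζ a)) else 0) =
      k * (K.index : ℂ) * (if (a : G) ∈ A then 1 else 0) - k * (if (a : G) ∈ A then conj (ζ a) else 0) :=
    fun a => by split <;> ring
  rw [Finset.sum_congr rfl fun a _ => h3 a, Finset.sum_sub_distrib, ← Finset.mul_sum, ← Finset.mul_sum,
    h1, h2', ← K.card_mul_index, Nat.cast_mul]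
  have hi : (K.index : ℂ) ≠ 0 := Nat.cast_ne_zero.mpr Subgroup.index_ne_zero_of_finite
  have hc : (Nat.card K : ℂ) ≠ 0 := Nat.cast_ne_zero.mpr Nat.card_pos.ne'
  field_simp
  ring

/-- Peterfalvi (7.8 b): the average of `ν ζ` is `ζ + a` on `A`. -/
theorem CoherentSetup.invDade_nu_zeta {a : L} (ha : (a : G) ∈ A) :
    invDade A L R (ν ζ) a = ζ a + (classInner (ν ζ) (betaFun A L R K ζ) + 1) := by
  classical
  have hχ : IsClassFunction G (ν ζ) := isClassFunction_of_isGeneralized (hC.nu_gen hC.zeta_mem)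
  obtain ⟨k, hk⟩ := hC.toKernelSetup.invDade_expansion hχ hC.zeta_mem
  have hc : ∀ φ ∈ S, classInner (ν ζ)
      (dadeIsometry A L R ((charDegree ζ : ℂ) • φ - (charDegree φ : ℂ) • ζ)) =
      if φ = ζ then 0 else -(charDegree φ : ℂ) := by
    intro φ hφ
    rw [hC.dade_comb hφ hC.zeta_mem _ _ (by
      rw [hC.toKernelSetup.apply_one hφ, hC.toKernelSetup.apply_one hC.zeta_mem]; ring),
      Chars.inner_sub_right, Chars.inner_smul_right, Chars.inner_smul_right, map_natCast, map_natCast,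
      hC.nu_inner hC.zeta_mem hφ, hC.nu_inner hC.zeta_mem hC.zeta_mem, hC.zeta_norm]
    split_ifs with h
    · rw [h, hC.zeta_norm, sub_self]
    · rw [hC.toKernelSetup.inner_eq_zero hC.zeta_mem hφ (Ne.symm h)]
      ring
  set e := (K.index : ℂ) with he
  have hi : e ≠ 0 := Nat.cast_ne_zero.mpr Subgroup.index_ne_zero_of_finite
  have hform : ∀ a : L, (a : G) ∈ A → invDade A L R (ν ζ) a = ζ a + (k + 1) := by
    intro a ha
    obtain ⟨haK, ha1⟩ := (hC.mem_iff a).mp ha
    have hw := sum_weight_apply K hC.coe_eq a haK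
    rw [if_neg ha1, zero_sub, ← Finset.add_sum_erase _ _ hC.zeta_mem, hC.zeta_norm, div_one,
      hC.zeta_deg, ← he] at hw
    rw [hk a ha, ← Finset.add_sum_erase _ _ hC.zeta_mem, hc ζ hC.zeta_mem, if_pos rfl, zero_div,
      zero_mul, zero_add, Finset.sum_congr rfl (g := fun φ => -(1 / e) * (φ 1 / classInner φ φ * φ a))
      fun φ hφ => by
        obtain ⟨hne, hφS⟩ := Finset.mem_erase.mp hφ
        rw [hc φ hφS, if_neg hne, hC.charDegree_zeta, ← he, hC.toKernelSetup.apply_one hφS]
        have := hC.toKernelSetup.inner_self_ne_zero hφS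
        field_simp, ← Finset.mul_sum,
      show ∑ φ ∈ S.erase ζ, φ 1 / classInner φ φ * φ a = -e - e * ζ a by linear_combination hw]
    field_simp
    ring
  rw [hform a ha, ← hC.inner_rho_indOne_sub hχ,
    show invDade A L R (ν ζ) = fun x : L => if (x : G) ∈ A then ζ x + (k + 1) else 0 from
      funext fun x => by
        split_ifs with hx
        · exact hform x hx
        · exact invDade_of_notMem hx _,
    hC.inner_on_A fun x => ζ x + (k + 1)]
  obtain ⟨h1, h2, h3⟩ := hC.sum_on_A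
  have h2' : ∑ a : L, (if (a : G) ∈ A then conj (ζ a) else 0) = -(K.index : ℂ) := by
    have := congrArg conj h2
    rw [map_sum, map_neg, map_natCast] at this
    rw [← this]
    exact Finset.sum_congr rfl fun a _ => by split <;> simp
  have h4 : ∀ a : L, (if (a : G) ∈ A then (ζ a + (k + 1)) * (e - conj (ζ a)) else 0) =
      e * (if (a : G) ∈ A then ζ a else 0) - (if (a : G) ∈ A then ζ a * conj (ζ a) else 0) +
      ((k + 1) * e * (if (a : G) ∈ A then 1 else 0) -
        (k + 1) * (if (a : G) ∈ A then conj (ζ a) else 0)) :=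
    fun a => by split <;> ring
  rw [Finset.sum_congr rfl fun a _ => h4 a, Finset.sum_add_distrib, Finset.sum_sub_distrib,
    Finset.sum_sub_distrib, ← Finset.mul_sum, ← Finset.mul_sum, ← Finset.mul_sum, h1, h2, h2', h3,
    ← he, ← K.card_mul_index, Nat.cast_mul, ← he]
  have hcK : (Nat.card K : ℂ) ≠ 0 := Nat.cast_ne_zero.mpr Nat.card_pos.ne'
  field_simp
  ring

/-- The integer `a` of (7.8). -/
theorem CoherentSetup.exists_coef :
    ∃ n : ℤ, classInner (betaFun A L R K ζ) (ν ζ) + 1 = (n : ℂ) ∧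
      classInner (ν ζ) (betaFun A L R K ζ) + 1 = (n : ℂ) := by
  obtain ⟨z, hz⟩ := inner_gen_int (mem_genChar.mpr hC.beta_gen)
    (mem_genChar.mpr (hC.nu_gen hC.zeta_mem))
  refine ⟨z + 1, by rw [hz]; push_cast; ring, ?_⟩
  rw [← inner_conj, hz, map_intCast]; push_cast; ring

/-- Peterfalvi (7.8 b): the norm of the average. -/
theorem CoherentSetup.norm_invDade_nu_zeta_eq {n : ℤ}
    (hn : classInner (ν ζ) (betaFun A L R K ζ) + 1 = (n : ℂ)) :
    classInner (invDade A L R (ν ζ)) (invDade A L R (ν ζ)) =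
      (Nat.card L : ℂ)⁻¹ * ((Nat.card L : ℂ) - (K.index : ℂ) ^ 2 - 2 * (n : ℂ) * (K.index : ℂ) +
        (n : ℂ) ^ 2 * ((Nat.card K : ℂ) - 1)) := by
  classical
  obtain ⟨h1, h2, h3⟩ := hC.sum_on_A
  have h2' : ∑ a : L, (if (a : G) ∈ A then conj (ζ a) else 0) = -(K.index : ℂ) := by
    have := congrArg conj h2
    rw [map_sum, map_neg, map_natCast] at this
    rw [← this]
    exact Finset.sum_congr rfl fun a _ => by split <;> simp
  rw [inner_def]
  congr 1
  have h4 : ∀ a : L, invDade A L R (ν ζ) a * conj (invDade A L R (ν ζ) a) =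
      (if (a : G) ∈ A then ζ a * conj (ζ a) else 0) +
      (n : ℂ) * ((if (a : G) ∈ A then ζ a else 0) + (if (a : G) ∈ A then conj (ζ a) else 0)) +
      (n : ℂ) ^ 2 * (if (a : G) ∈ A then 1 else 0) := by
    intro a
    by_cases ha : (a : G) ∈ A
    · rw [hC.invDade_nu_zeta ha, hn, if_pos ha, if_pos ha, if_pos ha, if_pos ha, map_add, map_intCast]
      ring
    · rw [invDade_of_notMem ha, if_neg ha, if_neg ha, if_neg ha, if_neg ha]
      ring
  rw [Finset.sum_congr rfl fun a _ => h4 a, Finset.sum_add_distrib, Finset.sum_add_distrib,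
    ← Finset.mul_sum, ← Finset.mul_sum, Finset.sum_add_distrib, h1, h2, h2', h3]
  ring

/-- Peterfalvi (7.8 b): the norm bound. -/
theorem CoherentSetup.norm_invDade_nu_zeta (hbig : 2 * K.index + 1 ≤ Nat.card K) :
    1 - (K.index : ℝ) / Nat.card K ≤
      (classInner (invDade A L R (ν ζ)) (invDade A L R (ν ζ))).re := by
  classical
  obtain ⟨n, -, hn⟩ := hC.exists_coef
  rw [hC.norm_invDade_nu_zeta_eq hn, show (Nat.card L : ℂ) = ((Nat.card L : ℝ) : ℂ) by norm_cast,
    show (K.index : ℂ) = ((K.index : ℝ) : ℂ) by norm_cast,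
    show (Nat.card K : ℂ) = ((Nat.card K : ℝ) : ℂ) by norm_cast,
    show (n : ℂ) = ((n : ℝ) : ℂ) by norm_cast]
  norm_cast
  rw [← K.card_mul_index]
  push_cast
  have he : (0 : ℝ) < K.index := by
    exact_mod_cast Nat.pos_of_ne_zero Subgroup.index_ne_zero_of_finite
  have hh : (0 : ℝ) < Nat.card K := by exact_mod_cast Nat.card_pos
  have hb : 2 * (K.index : ℝ) + 1 ≤ Nat.card K := by exact_mod_cast hbig
  rw [inv_mul_eq_div, le_div_iff₀ (by positivity)]
  have hq : 0 ≤ (n : ℝ) ^ 2 * ((Nat.card K : ℝ) - 1) - 2 * (n : ℝ) * K.index := by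
    rcases le_or_gt n 0 with hn0 | hn0
    · have : (n : ℝ) ≤ 0 := by exact_mod_cast hn0
      nlinarith [sq_nonneg (n : ℝ)]
    · have : (1 : ℝ) ≤ n := by exact_mod_cast hn0
      nlinarith [mul_le_mul_of_nonneg_left this (by linarith : (0 : ℝ) ≤ (n : ℝ))]
  field_simp
  nlinarith

/-- The part of `β` orthogonal to `1` and the coherent image. -/
noncomputable def gammaFun (_hC : CoherentSetup A L R K S ν ζ) : G → ℂ :=
  betaFun A L R K ζ - (fun _ => 1) + ν ζ -
    ((classInner (betaFun A L R K ζ) (ν ζ) + 1) / (K.index : ℂ)) •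
      ∑ φ ∈ S, ((charDegree φ : ℂ) / classInner φ φ) • ν φ

theorem CoherentSetup.gamma_orth_nu (h1 : classInner (ν ζ) (fun _ => 1) = 0) {φ : L → ℂ}
    (hφ : φ ∈ S) : classInner (gammaFun hC) (ν φ) = 0 := by
  classical
  have hi : (K.index : ℂ) ≠ 0 := Nat.cast_ne_zero.mpr Subgroup.index_ne_zero_of_finite
  have hone : classInner (fun _ : G => (1 : ℂ)) (ν φ) = 0 := by
    have h := hC.inner_nu_one_eq hφ
    rw [h1, mul_zero, mul_eq_zero] at h
    rw [← inner_conj, h.resolve_left hi, map_zero]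
  rw [gammaFun, Chars.inner_sub_left, Chars.inner_add_left, Chars.inner_sub_left, hone,
    Chars.inner_smul_left, Chars.inner_sum_left, Finset.sum_eq_single φ]
  · rw [Chars.inner_smul_left, hC.nu_inner hφ hφ, div_mul_cancel₀ _ (hC.toKernelSetup.inner_self_ne_zero hφ),
      hC.nu_inner hC.zeta_mem hφ]
    by_cases h : φ = ζ
    · subst h
      rw [hC.zeta_norm, hC.charDegree_zeta]
      field_simp
      ring
    · rw [hC.toKernelSetup.inner_eq_zero hC.zeta_mem hφ (Ne.symm h)]
      have := hC.inner_beta_nu hφ h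
      field_simp
      linear_combination this
  · intro ψ hψ hne
    rw [Chars.inner_smul_left, hC.nu_inner hψ hφ, hC.toKernelSetup.inner_eq_zero hψ hφ hne, mul_zero]
  · exact fun h => absurd hφ h

theorem CoherentSetup.gamma_orth_one (h1 : classInner (ν ζ) (fun _ => 1) = 0) :
    classInner (gammaFun hC) (fun _ => 1) = 0 := by
  classical
  have hi : (K.index : ℂ) ≠ 0 := Nat.cast_ne_zero.mpr Subgroup.index_ne_zero_of_finite
  have hone : ∀ φ ∈ S, classInner (ν φ) (fun _ : G => (1 : ℂ)) = 0 := fun φ hφ => by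
    have h := hC.inner_nu_one_eq hφ
    rw [h1, mul_zero, mul_eq_zero] at h
    exact h.resolve_left hi
  rw [gammaFun, Chars.inner_sub_left, Chars.inner_add_left, Chars.inner_sub_left, hC.inner_beta_one,
    inner_one_one, h1, Chars.inner_smul_left, Chars.inner_sum_left, Finset.sum_eq_zero]
  · ring
  · intro φ hφ
    rw [Chars.inner_smul_left, hone φ hφ, mul_zero]

/-- Peterfalvi (7.8 a): the norm of the remainder. -/
theorem CoherentSetup.gamma_norm (h1 : classInner (ν ζ) (fun _ => 1) = 0) {n : ℤ}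
    (hn : classInner (betaFun A L R K ζ) (ν ζ) + 1 = (n : ℂ)) :
    classInner (gammaFun hC) (gammaFun hC) = (K.index : ℂ) - 1 -
      ((n : ℂ) ^ 2 * ((Nat.card K : ℂ) - 1) / (K.index : ℂ) - 2 * (n : ℂ)) := by
  classical
  have hi : (K.index : ℂ) ≠ 0 := Nat.cast_ne_zero.mpr Subgroup.index_ne_zero_of_finite
  set β := betaFun A L R K ζ with hβ
  set w : G → ℂ := ∑ φ ∈ S, ((charDegree φ : ℂ) / classInner φ φ) • ν φ with hw
  have hg : classInner (gammaFun hC) (gammaFun hC) = classInner (gammaFun hC) β := by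
    conv_lhs => arg 2; rw [gammaFun]
    rw [Chars.inner_sub_right, Chars.inner_add_right, Chars.inner_sub_right, hC.gamma_orth_one h1,
      hC.gamma_orth_nu h1 hC.zeta_mem, Chars.inner_smul_right, inner_sum_right, Finset.sum_eq_zero]
    · ring
    · intro φ hφ
      rw [Chars.inner_smul_right, hC.gamma_orth_nu h1 hφ, mul_zero]
  rw [hg, gammaFun, Chars.inner_sub_left, Chars.inner_add_left, Chars.inner_sub_left,
    Chars.inner_smul_left, ← hβ, hC.inner_beta_self, hn,
    show classInner (fun _ : G => (1 : ℂ)) β = 1 by rw [← inner_conj, hC.inner_beta_one, map_one],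
    show classInner (ν ζ) β = (n : ℂ) - 1 by
      rw [← inner_conj, show classInner β (ν ζ) = (n : ℂ) - 1 by rw [← hn]; ring, map_sub,
        map_intCast, map_one]]
  have hwβ : classInner (∑ φ ∈ S, ((charDegree φ : ℂ) / classInner φ φ) • ν φ) β =
      (n : ℂ) * ((Nat.card K : ℂ) - 1) - (K.index : ℂ) := by
    have hterm : ∀ φ ∈ S, classInner (((charDegree φ : ℂ) / classInner φ φ) • ν φ) β =
        ((n : ℂ) / (K.index : ℂ)) * (φ 1 / classInner φ φ * φ 1) -
          (if φ = ζ then (K.index : ℂ) else 0) := by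
      intro φ hφ
      rw [Chars.inner_smul_left, ← inner_conj β (ν φ), hC.toKernelSetup.apply_one hφ]
      have hne := hC.toKernelSetup.inner_self_ne_zero hφ
      split_ifs with h
      · rw [h, show classInner β (ν ζ) = (n : ℂ) - 1 by rw [← hn]; ring, map_sub, map_intCast,
          map_one, hC.zeta_norm, hC.charDegree_zeta]
        field_simp
      · have h2 := hC.inner_beta_nu hφ h
        rw [← hβ, hn] at h2
        have h3 := congrArg conj h2
        rw [map_mul, map_mul, map_natCast, map_natCast, map_intCast] at h3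
        field_simp
        linear_combination (charDegree φ : ℂ) * h3
    rw [Chars.inner_sum_left, Finset.sum_congr rfl hterm, Finset.sum_sub_distrib, ← Finset.mul_sum,
      sum_weight_apply K hC.coe_eq 1 K.one_mem, if_pos rfl, Finset.sum_ite_eq', if_pos hC.zeta_mem,
      ← K.card_mul_index, Nat.cast_mul]
    field_simp
  rw [hwβ]
  field_simp
  ring

end Coherent

end CfsgLib.FT
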