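import Cfsg.Agent.Lib.FT.CoherentDade
import Cfsg.Agent.Lib.Chars.Permutation

/-!
# Peterfalvi (7.9): two coherent families with disjoint Dade supports
-/

set_option autoImplicit false
set_option linter.style.haveILetI false
set_option linter.unusedSectionVars false

namespace CfsgLib.FT

open Cfsg CfsgLib.Chars CfsgLib.CharsMore
open scoped ComplexConjugate

universe u

variable {G : Type u} [Group G] [Fintype G]

theorem inner_conjFun_irr (θ : G → ℂ) (χ : IrrCharacter G) :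
    classInner θ (conjIrr χ : G → ℂ) = conj (classInner (conjFun θ) (χ : G → ℂ)) := by
  rw [inner_def, inner_def]
  simp only [map_mul, map_inv₀, Complex.conj_natCast, map_sum, Complex.conj_conj]
  refine congrArg _ (Finset.sum_congr rfl fun g _ => ?_)
  show θ g * conj (conj ((χ : G → ℂ) g)) = conj (conj (θ g)) * (χ : G → ℂ) g
  rw [Complex.conj_conj, Complex.conj_conj]

/-- The parity argument: two orthogonal virtual characters with principal multiplicity one, each
real up to a signed conjugate pair, cannot both avoid the other's exceptional character. -/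
theorem nonorth_of_sub_conj (hodd : Odd (Nat.card G)) {θ₁ θ₂ : G → ℂ}
    (h₁ : IsGeneralizedCharacter G θ₁) (h₂ : IsGeneralizedCharacter G θ₂)
    (hθ : classInner θ₁ θ₂ = 0) (h₁1 : classInner θ₁ (fun _ => 1) = 1)
    (h₂1 : classInner θ₂ (fun _ => 1) = 1) {ψ₁ ψ₂ : IrrCharacter G} {ε₁ ε₂ : ℤ}
    (hε₁ : ε₁ = 1 ∨ ε₁ = -1) (hε₂ : ε₂ = 1 ∨ ε₂ = -1)
    (hd₁ : conjFun θ₁ - θ₁ = (ε₁ : ℂ) • ((ψ₁ : G → ℂ) - (conjIrr ψ₁ : G → ℂ)))
    (hd₂ : conjFun θ₂ - θ₂ = (ε₂ : ℂ) • ((ψ₂ : G → ℂ) - (conjIrr ψ₂ : G → ℂ)))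
    (hne₁ : ψ₁ ≠ principal G) (hne₂ : ψ₂ ≠ principal G) (h12 : ψ₁ ≠ ψ₂) :
    classInner θ₁ (ψ₂ : G → ℂ) ≠ 0 ∨ classInner θ₂ (ψ₁ : G → ℂ) ≠ 0 := by
  classical
  haveI := irrFintype G
  choose m hm using (isGeneralized_iff_inner.mp h₁).2
  choose k hk using (isGeneralized_iff_inner.mp h₂).2
  by_contra hcon
  push Not at hcon
  have hk₁ : k ψ₁ = 0 := by exact_mod_cast (hk ψ₁).symm.trans hcon.2
  have hm₂ : m ψ₂ = 0 := by exact_mod_cast (hm ψ₂).symm.trans hcon.1
  have h0 : ∑ χ : IrrCharacter G, m χ * k χ = 0 := by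
    apply Int.cast_injective (α := ℂ)
    push_cast
    rw [← hθ, inner_eq_sum (isClassFunction_of_isGeneralized h₁)]
    exact Finset.sum_congr rfl fun χ _ => by rw [hm, hk, map_intCast]
  have hp₁ : m (principal G) = 1 := by
    have h := hm (principal G)
    rw [show ((principal G : IrrCharacter G) : G → ℂ) = fun _ => 1 from rfl, h₁1] at h
    exact_mod_cast h.symm
  have hp₂ : k (principal G) = 1 := by
    have h := hk (principal G)
    rw [show ((principal G : IrrCharacter G) : G → ℂ) = fun _ => 1 from rfl, h₂1] at h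
    exact_mod_cast h.symm
  rw [← Finset.add_sum_erase _ _ (Finset.mem_univ (principal G)), hp₁, hp₂, one_mul] at h0
  have h2 := congrArg (Int.cast : ℤ → ZMod 2) h0
  push_cast at h2
  have hsym : ∀ {θ : G → ℂ} {ψ : IrrCharacter G} {ε : ℤ} {z : IrrCharacter G → ℤ},
      (ε = 1 ∨ ε = -1) → conjFun θ - θ = (ε : ℂ) • ((ψ : G → ℂ) - (conjIrr ψ : G → ℂ)) →
      (∀ χ : IrrCharacter G, classInner θ (χ : G → ℂ) = (z χ : ℂ)) → ∀ χ : IrrCharacter G,
      ((z (conjIrr χ) : ZMod 2) + if ψ = conjIrr χ then 1 else 0) =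
        (z χ : ZMod 2) + if ψ = χ then 1 else 0 := by
    intro θ ψ ε z hε hd hz χ
    have h := congrArg (fun f => classInner f (χ : G → ℂ)) hd
    simp only [Chars.inner_sub_left, Chars.inner_smul_left, inner_irr, hz] at h
    rw [show classInner (conjFun θ) (χ : G → ℂ) = (z (conjIrr χ) : ℂ) by
      rw [← Complex.conj_conj (classInner (conjFun θ) (χ : G → ℂ)), ← inner_conjFun_irr, hz,
        map_intCast]] at h
    have h' : z (conjIrr χ) - z χ =
        ε * ((if ψ = χ then 1 else 0) - (if conjIrr ψ = χ then 1 else 0)) := by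
      apply Int.cast_injective (α := ℂ)
      push_cast
      exact h
    have hiff : (conjIrr ψ = χ) ↔ (ψ = conjIrr χ) :=
      ⟨fun e => by rw [← e, conjIrr_conjIrr], fun e => by rw [e, conjIrr_conjIrr]⟩
    have hε' : (ε : ZMod 2) = 1 := by rcases hε with h | h <;> simp [h]
    have h'' := congrArg (Int.cast : ℤ → ZMod 2) h'
    push_cast at h''
    rw [hε', one_mul] at h''
    simp only [hiff] at h''
    linear_combination h''
  let b₁ : IrrCharacter G → ZMod 2 := fun χ => (m χ : ZMod 2) + if ψ₁ = χ then 1 else 0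
  let b₂ : IrrCharacter G → ZMod 2 := fun χ => (k χ : ZMod 2) + if ψ₂ = χ then 1 else 0
  have hb : ∑ χ ∈ Finset.univ.erase (principal G), b₁ χ * b₂ χ = 0 := by
    refine Finset.sum_involution (fun χ _ => conjIrr χ) (fun χ _ => ?_) (fun χ hχ _ => ?_)
      (fun χ hχ => ?_) (fun χ _ => conjIrr_conjIrr χ)
    · show b₁ χ * b₂ χ + b₁ (conjIrr χ) * b₂ (conjIrr χ) = 0
      simp only [b₁, b₂, hsym hε₁ hd₁ hm, hsym hε₂ hd₂ hk]
      exact (by decide : ∀ a : ZMod 2, a + a = 0) _
    · intro h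
      exact (Finset.ne_of_mem_erase hχ)
        (eq_principal_of_real_of_odd hodd χ ((conjIrr_eq_iff χ).mp h))
    · refine Finset.mem_erase.mpr ⟨fun h => Finset.ne_of_mem_erase hχ ?_, Finset.mem_univ _⟩
      rw [← conjIrr_conjIrr χ, h, conjIrr_principal]
  have hexp : ∀ χ : IrrCharacter G, b₁ χ * b₂ χ = (m χ : ZMod 2) * (k χ : ZMod 2) := by
    intro χ
    simp only [b₁, b₂]
    by_cases e1 : ψ₁ = χ
    · subst e1
      rw [if_pos rfl, if_neg (Ne.symm h12), hk₁, Int.cast_zero]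
      ring
    · rw [if_neg e1]
      by_cases e2 : ψ₂ = χ
      · subst e2
        rw [if_pos rfl, hm₂, Int.cast_zero]
        ring
      · rw [if_neg e2]
        ring
  rw [Finset.sum_congr rfl fun χ _ => hexp χ] at hb
  rw [hb, add_zero] at h2
  exact absurd h2 (by decide)

theorem conjFun_dadeIsometry {A : Set G} {L : Subgroup G} {R : G → Subgroup G} (α : L → ℂ) :
    conjFun (dadeIsometry A L R α) = dadeIsometry A L R (conjFun α) :=
  funext fun g => conj_dadeIsometry α g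

variable {A : Set G} {L : Subgroup G} [Fintype L] {R : G → Subgroup G} {K : Subgroup L} [K.Normal]
  {S : Finset (L → ℂ)} {ν : (L → ℂ) → (G → ℂ)} {ζ : L → ℂ}

theorem CoherentSetup.conj_mem (hC : CoherentSetup A L R K S ν ζ) : conjFun ζ ∈ S := by
  rw [← Finset.mem_coe, hC.coe_eq]
  exact inducedIrrAbove_conj K (hC.toKernelSetup.mem hC.zeta_mem)

theorem CoherentSetup.conj_ne (hC : CoherentSetup A L R K S ν ζ) (hodd : Odd (Nat.card G)) :
    conjFun ζ ≠ ζ := fun h => by
  have hreal : ∀ g, (ζ g).im = 0 := fun g => Complex.conj_eq_iff_im.mp (congrFun h g)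
  have hp : ζ = fun _ => 1 := congrArg Subtype.val (eq_principal_of_real_of_odd
    (hodd.of_dvd_nat (Subgroup.card_subgroup_dvd_card L)) ⟨ζ, hC.zeta_irr⟩ hreal)
  have h1 := hC.toKernelSetup.inner_one hC.zeta_mem
  rw [hp, inner_one_one] at h1
  exact one_ne_zero h1

/-- The exceptional character of a coherent setup. -/
structure CoherentSetup.Exceptional (ν : (L → ℂ) → (G → ℂ)) (ζ : L → ℂ) (ψ : IrrCharacter G) (ε : ℤ) :
    Prop where
  sign : ε = 1 ∨ ε = -1
  apply_zeta : ν ζ = (ε : ℂ) • (ψ : G → ℂ)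
  apply_conj : ν (conjFun ζ) = (ε : ℂ) • (conjIrr ψ : G → ℂ)
  ne_principal : ψ ≠ principal G
  conj_ne : conjIrr ψ ≠ ψ

theorem CoherentSetup.dade_sub_conj (hC : CoherentSetup A L R K S ν ζ) :
    dadeIsometry A L R (ζ - conjFun ζ) = ν ζ - ν (conjFun ζ) := by
  have h := hC.dade_comb hC.zeta_mem hC.conj_mem 1 1 (by
    rw [show conjFun ζ 1 = conj (ζ 1) from rfl, hC.zeta_deg, map_natCast])
  simpa using h

theorem CoherentSetup.exists_exceptional (hC : CoherentSetup A L R K S ν ζ)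
    (hodd : Odd (Nat.card G)) : ∃ ψ ε, CoherentSetup.Exceptional ν ζ ψ ε := by
  classical
  have hz := hC.zeta_mem
  have hc := hC.conj_mem
  have hn : ∀ {φ : L → ℂ}, φ ∈ S → classInner φ φ = 1 →
      ∃ (ψ : IrrCharacter G) (ε : ℤ), (ε = 1 ∨ ε = -1) ∧ ν φ = (ε : ℂ) • (ψ : G → ℂ) := by
    intro φ hφ h1
    rcases irr_or_neg_irr_of_norm_one (hC.nu_gen hφ) ((hC.nu_inner hφ hφ).trans h1) with h | h
    · exact ⟨⟨_, h⟩, 1, Or.inl rfl, by simp⟩
    · exact ⟨⟨_, h⟩, -1, Or.inr rfl, by simp⟩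
  obtain ⟨ψ, ε, hε, hψ⟩ := hn hz hC.zeta_norm
  obtain ⟨ψ', ε', hε', hψ'⟩ := hn hc (inner_irr_self ⟨_, isIrrCharacter_conj hC.zeta_irr⟩)
  have hne : ψ ≠ ψ' := by
    intro e
    have h := hC.nu_inner hz hc
    rw [hψ, hψ', e, Chars.inner_smul_left, Chars.inner_smul_right, inner_irr_self,
      hC.toKernelSetup.inner_eq_zero hz hc (Ne.symm (hC.conj_ne hodd)), map_intCast] at h
    rcases hε with h1 | h1 <;> rcases hε' with h2 | h2 <;> rw [h1, h2] at h <;> norm_num at h
  have hdiff : conjFun (ν ζ - ν (conjFun ζ)) = ν (conjFun ζ) - ν ζ := by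
    have hm := comb_mem hz hc 1 1 (by
      rw [show conjFun ζ 1 = conj (ζ 1) from rfl, hC.zeta_deg, map_natCast])
    have h2 := hC.dade_comb hc hz 1 1 (by
      rw [show conjFun ζ 1 = conj (ζ 1) from rfl, hC.zeta_deg, map_natCast])
    simp only [Nat.cast_one, one_smul] at h2
    rw [← hC.dade_sub_conj, conjFun_dadeIsometry, show conjFun (ζ - conjFun ζ) = conjFun ζ - ζ from
      funext fun x => by simp [conjFun], h2]
  have h1 : ∀ φ : G → ℂ, φ = ν ζ - ν (conjFun ζ) → φ 1 = 0 := fun φ e => by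
    rw [e, ← hC.dade_sub_conj]
    exact dadeIsometry_eq_zero hC.dade fun ⟨_, ha, hw⟩ => not_dadeWit_one hC.dade ha hw
  have heq : ε' = ε := by
    have h := h1 _ rfl
    rw [hψ, hψ'] at h
    obtain ⟨d, hd0, hd⟩ := irr_degree_nat ψ.2
    obtain ⟨d', hd0', hd'⟩ := irr_degree_nat ψ'.2
    simp only [Pi.sub_apply, Pi.smul_apply, smul_eq_mul, hd, hd'] at h
    have h' : ε * d - ε' * d' = 0 := by exact_mod_cast h
    rcases hε with e1 | e1 <;> rcases hε' with e2 | e2 <;> rw [e1, e2] at h' ⊢ <;> omega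
  rw [heq] at hψ'
  have hε0 : (ε : ℂ) ≠ 0 := by rcases hε with h | h <;> simp [h]
  have hd := hdiff
  rw [hψ, hψ', ← smul_sub, ← smul_sub, show conjFun ((ε : ℂ) • ((ψ : G → ℂ) - (ψ' : G → ℂ))) =
    (ε : ℂ) • ((conjIrr ψ : G → ℂ) - (conjIrr ψ' : G → ℂ)) from funext fun x => by
      show conj ((ε : ℂ) * ((ψ : G → ℂ) x - (ψ' : G → ℂ) x)) = (ε : ℂ) * (conj _ - conj _)
      rw [map_mul, map_sub, map_intCast]] at hd
  have h3 := congrArg (fun f => classInner f (conjIrr ψ : G → ℂ)) (smul_right_injective _ hε0 hd)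
  simp only [Chars.inner_sub_left, inner_irr, if_pos] at h3
  have hcc : conjIrr ψ' ≠ conjIrr ψ := fun e => hne (by
    rw [← conjIrr_conjIrr ψ, ← e, conjIrr_conjIrr])
  rw [if_neg hcc] at h3
  have h4 : ψ' = conjIrr ψ := by
    by_contra h
    rw [if_neg h] at h3
    split at h3 <;> norm_num at h3
  refine ⟨ψ, ε, hε, hψ, by rw [hψ', h4], fun e => hne ?_, fun e => hne ?_⟩
  · rw [h4, e, conjIrr_principal]
  · rw [h4, e]

theorem CoherentSetup.inner_nu_zeta_one (hC : CoherentSetup A L R K S ν ζ)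
    (hodd : Odd (Nat.card G)) : classInner (ν ζ) (fun _ => 1) = 0 := by
  obtain ⟨ψ, ε, hE⟩ := hC.exists_exceptional hodd
  rw [hE.apply_zeta, Chars.inner_smul_left,
    show classInner (ψ : G → ℂ) (fun _ => 1) = 0 from inner_irr_ne (ψ := principal G) hE.ne_principal,
    mul_zero]

variable {A' : Set G} {L' : Subgroup G} [Fintype L'] {R' : G → Subgroup G} {K' : Subgroup L'}
  [K'.Normal] {S' : Finset (L' → ℂ)} {ν' : (L' → ℂ) → (G → ℂ)} {ζ' : L' → ℂ}

theorem inner_dade_disjoint (hD : DadeHypothesis A L R) (hD' : DadeHypothesis A' L' R')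
    (hdisj : Disjoint (dadeSupp A R) (dadeSupp A' R')) (α : L → ℂ) (β : L' → ℂ) :
    classInner (dadeIsometry A L R α) (dadeIsometry A' L' R' β) = 0 := by
  rw [inner_def, Finset.sum_eq_zero, mul_zero]
  intro g _
  by_cases hg : g ∈ dadeSupp A R
  · rw [dadeIsometry_eq_zero hD' fun h => Set.disjoint_left.mp hdisj hg h, map_zero, mul_zero]
  · rw [dadeIsometry_eq_zero hD fun h => hg h, zero_mul]

/-- Peterfalvi (7.9): one of the exceptional characters occurs in the other `β`. -/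
theorem CoherentSetup.nonorth (hC : CoherentSetup A L R K S ν ζ)
    (hC' : CoherentSetup A' L' R' K' S' ν' ζ') (hodd : Odd (Nat.card G))
    (hdisj : Disjoint (dadeSupp A R) (dadeSupp A' R')) :
    classInner (betaFun A L R K ζ) (ν' ζ') ≠ 0 ∨ classInner (betaFun A' L' R' K' ζ') (ν ζ) ≠ 0 := by
  classical
  obtain ⟨ψ, ε, hE⟩ := hC.exists_exceptional hodd
  obtain ⟨ψ', ε', hE'⟩ := hC'.exists_exceptional hodd
  have hne : ψ ≠ ψ' := by
    intro e
    have h := inner_dade_disjoint hC.dade hC'.dade hdisj (ζ - conjFun ζ) (ζ' - conjFun ζ')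
    rw [hC.dade_sub_conj, hC'.dade_sub_conj, hE.apply_zeta, hE.apply_conj, hE'.apply_zeta,
      hE'.apply_conj, ← smul_sub, ← smul_sub, Chars.inner_smul_left, Chars.inner_smul_right, ← e,
      Chars.inner_sub_left, Chars.inner_sub_right, Chars.inner_sub_right, inner_irr_self,
      inner_irr_self, inner_irr_ne hE.conj_ne, inner_irr_ne hE.conj_ne.symm, map_intCast] at h
    rcases hE.sign with h1 | h1 <;> rcases hE'.sign with h2 | h2 <;> rw [h1, h2] at h <;>
      norm_num at h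
  have hrel : ∀ {A : Set G} {L : Subgroup G} [Fintype L] {R : G → Subgroup G} {K : Subgroup L}
      [K.Normal] {S : Finset (L → ℂ)} {ν : (L → ℂ) → (G → ℂ)} {ζ : L → ℂ} {ψ : IrrCharacter G}
      {ε : ℤ}, CoherentSetup A L R K S ν ζ → CoherentSetup.Exceptional ν ζ ψ ε →
      conjFun (betaFun A L R K ζ) - betaFun A L R K ζ =
        (ε : ℂ) • ((ψ : G → ℂ) - (conjIrr ψ : G → ℂ)) := by
    intro A L _ R K _ S ν ζ ψ ε hC hE
    rw [smul_sub, ← hE.apply_zeta, ← hE.apply_conj, ← hC.dade_sub_conj, betaFun,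
      conjFun_dadeIsometry]
    funext g
    have hreal : conjFun (indOne K) = indOne K := by
      rw [indOne, conjFun_indFun K, show conjFun (fun _ : K => (1 : ℂ)) = fun _ => 1 from
        funext fun _ => map_one _]
    unfold dadeIsometry
    simp only [Pi.sub_apply]
    split
    · rw [show conjFun (indOne K - ζ) = conjFun (indOne K) - conjFun ζ from
        funext fun x => map_sub _ _ _, hreal]
      simp only [Pi.sub_apply]
      ring
    · ring
  rcases nonorth_of_sub_conj hodd hC.beta_gen hC'.beta_gen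
    (inner_dade_disjoint hC.dade hC'.dade hdisj _ _) hC.inner_beta_one hC'.inner_beta_one
    hE.sign hE'.sign (hrel hC hE) (hrel hC' hE') hE.ne_principal hE'.ne_principal hne with h | h
  · left
    rw [hE'.apply_zeta, Chars.inner_smul_right]
    exact mul_ne_zero (by rcases hE'.sign with e | e <;> simp [e]) h
  · right
    rw [hE.apply_zeta, Chars.inner_smul_right]
    exact mul_ne_zero (by rcases hE.sign with e | e <;> simp [e]) h

end CfsgLib.FT
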