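import Cfsg.Agent.Lib.CNGroups.FrobeniusCover
import Cfsg.Agent.Lib.CharsMore.DadeGeneralized

/-!
# Covers by Dade supports of Frobenius kernels (Peterfalvi 7.9 to 7.11)

The Gram data of a Frobenius group `L` with kernel `H` transported to the ambient group by the Dade
map relative to `H^#`; several such pieces with disjoint supports cannot cover an odd group.
-/

set_option autoImplicit false
set_option linter.style.haveILetI false
set_option linter.unusedSectionVars false

namespace CfsgLib.FT

open _root_.Subgroup Cfsg CfsgLib.Chars CfsgLib.CharsMore CfsgLib.CNGroups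
open scoped ComplexConjugate

universe u

variable {G : Type u} [Group G] [Fintype G] {A : Set G} {L : Subgroup G} {R : G → Subgroup G}

/-- The support of the Dade map. -/
def dadeSupp (A : Set G) (R : G → Subgroup G) : Set G := {g | ∃ a ∈ A, DadeWit R g a}

theorem not_dadeWit_one (hD : DadeHypothesis A L R) {a : G} (ha : a ∈ A) :
    ¬ DadeWit R (1 : G) a := by
  rintro ⟨x, u, hu, e⟩
  rw [mul_one, mul_inv_cancel] at e
  have h1 : a ∈ R a ⊓ (L ⊓ centralizer ({a} : Set G)) :=
    ⟨(eq_inv_of_mul_eq_one_left e.symm) ▸ (R a).inv_mem hu, dade_mem_centralizer hD ha⟩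
  rw [hD.inf_eq_bot a ha, mem_bot] at h1
  exact hD.one_not_mem (h1 ▸ ha)

theorem conj_dadeIsometry (α : L → ℂ) (g : G) :
    conj (dadeIsometry A L R α g) = dadeIsometry A L R (fun x => conj (α x)) g := by
  unfold dadeIsometry
  split
  · rfl
  · exact map_zero _

/-- The Dade map preserves inner products of class functions supported in `A`. -/
theorem inner_dadeIsometry_dadeIsometry (hD : DadeHypothesis A L R) [Fintype L] {α β : L → ℂ}
    (hα : IsClassFunction L α) (hαA : ∀ x : L, (x : G) ∉ A → α x = 0)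
    (hβ : IsClassFunction L β) :
    classInner (dadeIsometry A L R α) (dadeIsometry A L R β) = classInner α β := by
  refine inner_dadeIsometry hD hα hαA (isClassFunction_dadeIsometry hD hβ) fun a ha => ?_
  rw [finsum_mem_congr rfl fun u hu =>
    dadeIsometry_apply hD hβ a ha (g := (a : G) * u) (x := 1) hu (by group)]
  haveI := Fintype.ofFinite (R a)
  rw [← finsum_set_coe_eq_finsum_mem, finsum_eq_sum_of_fintype, Finset.sum_const, Finset.card_univ,
    nsmul_eq_mul, ← mul_assoc]
  simp only [SetLike.coe_sort_coe]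
  rw [Nat.card_eq_fintype_card, inv_mul_cancel₀ (Nat.cast_ne_zero.mpr Fintype.card_ne_zero), one_mul]

theorem inner_dadeIsometry_one (hD : DadeHypothesis A L R) [Fintype L] {α : L → ℂ}
    (hα : IsClassFunction L α) (hαA : ∀ x : L, (x : G) ∉ A → α x = 0) :
    classInner (dadeIsometry A L R α) (fun _ => 1) = classInner α (fun _ => 1) := by
  refine inner_dadeIsometry hD hα hαA (isClassFunction_of_isCharacter isCharacter_one) fun a _ => ?_
  haveI := Fintype.ofFinite (R a)
  rw [← finsum_set_coe_eq_finsum_mem, finsum_eq_sum_of_fintype, Finset.sum_const, Finset.card_univ,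
    nsmul_one]
  simp only [SetLike.coe_sort_coe]
  rw [Nat.card_eq_fintype_card, inv_mul_cancel₀ (Nat.cast_ne_zero.mpr Fintype.card_ne_zero)]

/-- The piece attached to a Frobenius group with kernel `H` and the Dade map relative to `H^#`. -/
theorem exists_dade_piece (hodd : Odd (Nat.card G)) {H : Subgroup G} (hHL : H < L)
    (hnorm : L ≤ normalizer (H : Set G)) (hH1 : H ≠ ⊥)
    (hD : DadeHypothesis ((H : Set G) \ {1}) L R)
    (hfrob : ∀ x ∈ H, x ≠ 1 → L ⊓ centralizer ({x} : Set G) ≤ H) :
    ∃ Q : Piece (Nat.card H) (dadeSupp ((H : Set G) \ {1}) R), Q.e = H.relIndex L := by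
  classical
  haveI := Fintype.ofFinite L
  set H' := H.subgroupOf L with hH'
  haveI hn : H'.Normal := normal_subgroupOf_of_le_normalizer hnorm
  have htop : normalizer (H' : Set L) = ⊤ := normalizer_eq_top _
  have hcardH : Nat.card H' = Nat.card H := Nat.card_congr (subgroupOfEquivOfLe hHL.le).toEquiv
  obtain ⟨P, hP⟩ := exists_alphaData (G := L) (hodd.of_dvd_nat (card_subgroup_dvd_card L)) (H := H')
    (fun h => hH1 (by
      rw [hH', subgroupOf_eq_bot, disjoint_iff, inf_of_le_left hHL.le] at h
      exact h))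
    (fun g hg => absurd (htop.symm ▸ mem_top g) hg)
    (fun h hh hh1 x hx => hfrob h hh (fun e => hh1 (Subtype.ext e)) ⟨x.2, by
      show (x : G) ∈ centralizer ({(h : G)} : Set G)
      rw [mem_centralizer_singleton_iff]
      exact congrArg Subtype.val (mem_centralizer_singleton_iff.mp hx.2)⟩)
    (htop.symm ▸ lt_top_iff_ne_top.mpr fun h => hHL.not_ge (subgroupOf_eq_top.mp h))
  have hA : ∀ r, ∀ x : L, (x : G) ∉ (H : Set G) \ {1} → P.α r x = 0 := by
    intro r x hx
    by_contra h
    obtain ⟨hx1, y, hy⟩ := P.α_supp r x h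
    refine hx ⟨?_, fun e => hx1 (Subtype.ext e)⟩
    have := hn.conj_mem _ hy y⁻¹
    exact mem_subgroupOf.mp (by simpa [mul_assoc] using this)
  have hcf : ∀ r, IsClassFunction L (P.α r) := fun r => isClassFunction_of_isGeneralized (P.α_gen r)
  let P' : AlphaData G (Nat.card H) (dadeSupp ((H : Set G) \ {1}) R) :=
    { n := P.n, e := P.e, α := fun r => dadeIsometry ((H : Set G) \ {1}) L R (P.α r), bar := P.bar
      two_le := P.two_le, even_n := P.even_n, three_le := P.three_le
      dvd_card := hcardH ▸ P.dvd_card, prime_card := fun h => hcardH ▸ P.prime_card h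
      bar_ne := P.bar_ne, bar_bar := P.bar_bar
      conj_α := fun r g => by
        rw [conj_dadeIsometry, show (fun x => conj (P.α r x)) = P.α (P.bar r) from
          funext fun x => P.conj_α r x]
      α_gen := fun r => isGeneralized_dadeIsometry hD (P.α_gen r) (hA r)
      α_one := fun r => dadeIsometry_eq_zero hD fun ⟨a, ha, hw⟩ => not_dadeWit_one hD ha hw
      α_supp := fun r g h => by
        by_contra hn
        exact h (dadeIsometry_eq_zero hD hn)
      inner_one := fun r => (inner_dadeIsometry_one hD (hcf r) (hA r)).trans (P.inner_one r)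
      inner_self := fun r =>
        (inner_dadeIsometry_dadeIsometry hD (hcf r) (hA r) (hcf r)).trans (P.inner_self r)
      inner_ne := fun r s h =>
        (inner_dadeIsometry_dadeIsometry hD (hcf r) (hA r) (hcf s)).trans (P.inner_ne r s h) }
  obtain ⟨Q, hQ⟩ := P'.exists_piece
  refine ⟨Q, hQ.trans (hP.trans ?_)⟩
  rw [htop, relIndex_top_right]
  rfl

/-- The proportion of the group in the support of the Dade map. -/
theorem card_dadeSupp (hD : DadeHypothesis A L R) :
    (Nat.card L : ℝ) * (dadeSupp A R).ncard = (Nat.card G : ℝ) * A.ncard := by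
  classical
  haveI := Fintype.ofFinite L
  haveI : ∀ a : G, Fintype (R a) := fun a => Fintype.ofFinite _
  have h := dade_average hD (K := ℝ) (fun g => if g ∈ dadeSupp A R then 1 else 0) (fun _ _ => 1)
    (fun g hg => if_neg hg) (fun a ha g x u hu e => if_pos ⟨a, ha, x, u, hu, e⟩)
  have h1 : ∀ a : L, (Nat.card (R a) : ℝ)⁻¹ * ∑ _u : R (a : G), (1 : ℝ) = 1 := fun a => by
    rw [Finset.sum_const, Finset.card_univ, nsmul_one, Nat.card_eq_fintype_card,
      inv_mul_cancel₀ (Nat.cast_ne_zero.mpr Fintype.card_ne_zero)]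
  have h2 : ((Finset.univ.filter fun a : L => (a : G) ∈ A).card : ℝ) = A.ncard := by
    rw [← Fintype.card_subtype, ← Nat.card_eq_fintype_card, ← Nat.card_coe_set_eq]
    exact congrArg _ (Nat.card_congr
      { toFun := fun a => ⟨a.1.1, a.2⟩
        invFun := fun a => ⟨⟨a.1, hD.subset a.2⟩, a.2⟩
        left_inv := fun _ => rfl
        right_inv := fun _ => rfl })
  rw [Finset.sum_boole, Finset.sum_congr rfl fun a _ => h1 a, Finset.sum_const, nsmul_one, h2,
    show ((Finset.univ.filter fun g => g ∈ dadeSupp A R).card : ℝ) = (dadeSupp A R).ncard by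
      rw [Set.ncard_eq_toFinset_card']; congr 2; ext; simp] at h
  have hG : (Nat.card G : ℝ) ≠ 0 := Nat.cast_ne_zero.mpr Nat.card_pos.ne'
  have hL : (Nat.card L : ℝ) ≠ 0 := Nat.cast_ne_zero.mpr Nat.card_pos.ne'
  field_simp at h
  linarith

/-- No odd group is partitioned by the Dade supports of Frobenius kernels. -/
theorem no_dade_cover {ι : Type*} [Fintype ι] [DecidableEq ι] (hodd : Odd (Nat.card G))
    (M H : ι → Subgroup G) (R : ι → G → Subgroup G) (hHM : ∀ i, H i < M i)
    (hnorm : ∀ i, M i ≤ normalizer (H i : Set G)) (hH1 : ∀ i, H i ≠ ⊥)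
    (hD : ∀ i, DadeHypothesis ((H i : Set G) \ {1}) (M i) (R i))
    (hfrob : ∀ i, ∀ x ∈ H i, x ≠ 1 → M i ⊓ centralizer ({x} : Set G) ≤ H i)
    (hcop : ∀ i j, i ≠ j → (Nat.card (H i)).Coprime (Nat.card (H j)))
    (hdisj : ∀ i j, i ≠ j → Disjoint (dadeSupp ((H i : Set G) \ {1}) (R i))
      (dadeSupp ((H j : Set G) \ {1}) (R j)))
    (hcover : ∀ g : G, g ≠ 1 → ∃ i, g ∈ dadeSupp ((H i : Set G) \ {1}) (R i)) (hG : 1 < Nat.card G) :
    False := by
  classical
  choose Q hQ using fun i => exists_dade_piece hodd (hHM i) (hnorm i) (hH1 i) (hD i) (hfrob i)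
  have hLcard : ∀ i, (Q i).e * Nat.card (H i) = Nat.card (M i) := fun i => by
    rw [hQ i, mul_comm, ← relIndex_bot_left (H i),
      relIndex_mul_relIndex _ _ _ bot_le (hHM i).le, relIndex_bot_left]
  have hg : (0 : ℝ) < (Nat.card G : ℝ) := by exact_mod_cast Nat.card_pos
  have hncard : ∀ i, (((H i : Set G) \ {1}).ncard : ℝ) = (Nat.card (H i) : ℝ) - 1 := fun i => by
    have hc : Nat.card ↥(H i) = (H i : Set G).ncard := by rw [← Nat.card_coe_set_eq]; rfl
    rw [Set.ncard_sdiff_singleton_of_mem (one_mem (H i)), ← hc,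
      Nat.cast_sub (Nat.one_le_iff_ne_zero.mpr Nat.card_pos.ne'), Nat.cast_one]
  let T : ι → Finset G := fun i => (dadeSupp ((H i : Set G) \ {1}) (R i)).toFinset
  have hT : (Finset.univ : Finset ι).biUnion T = Finset.univ.erase 1 := by
    ext g
    simp only [Finset.mem_biUnion, Finset.mem_univ, true_and, T, Set.mem_toFinset, Finset.mem_erase,
      and_true]
    refine ⟨?_, hcover g⟩
    rintro ⟨i, a, ha, hw⟩ rfl
    exact not_dadeWit_one (hD i) ha hw
  have hcard : ∑ i, ((T i).card : ℝ) = (Nat.card G : ℝ) - 1 := by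
    rw [← Nat.cast_sum, ← Finset.card_biUnion (fun i _ j _ hij => by
      rw [Function.onFun, Finset.disjoint_left]
      intro g hgi hgj
      exact Set.disjoint_left.mp (hdisj i j hij) (Set.mem_toFinset.mp hgi) (Set.mem_toFinset.mp hgj)),
      hT, Finset.card_erase_of_mem (Finset.mem_univ _), Finset.card_univ, ← Nat.card_eq_fintype_card,
      Nat.cast_sub hG.le, Nat.cast_one]
  have hterm : ∀ i, ((Nat.card (H i) : ℝ) - 1) / (((Q i).e : ℝ) * Nat.card (H i)) =
      ((T i).card : ℝ) / (Nat.card G : ℝ) := by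
    intro i
    have h1 := card_dadeSupp (hD i)
    rw [hncard] at h1
    have h2 : ((Q i).e : ℝ) * Nat.card (H i) = (Nat.card (M i) : ℝ) := by exact_mod_cast hLcard i
    have h3 : ((T i).card : ℝ) = (dadeSupp ((H i : Set G) \ {1}) (R i)).ncard := by
      rw [Set.ncard_eq_toFinset_card']
    have h4 : (Nat.card (M i) : ℝ) ≠ 0 := Nat.cast_ne_zero.mpr Nat.card_pos.ne'
    rw [h2, h3, div_eq_div_iff h4 hg.ne']
    linarith
  have hsum : ∑ i, ((Nat.card (H i) : ℝ) - 1) / (((Q i).e : ℝ) * Nat.card (H i)) =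
      1 - 1 / (Nat.card G : ℝ) := by
    rw [Finset.sum_congr rfl fun i _ => hterm i, ← Finset.sum_div, hcard]
    field_simp
  by_cases hι : 2 ≤ Fintype.card ι
  · exact no_piece_cover hodd Q (fun i => Nat.card_pos)
      (fun i => hodd.of_dvd_nat ((Dvd.intro _ (hLcard i)).trans (card_subgroup_dvd_card _)))
      hι hdisj hcop
      (fun i j hij => Nat.le_of_dvd Nat.card_pos ((hcop i j hij).mul_dvd_of_dvd_of_dvd
        (card_subgroup_dvd_card _) (card_subgroup_dvd_card _))) hsum
  · rcases Finset.eq_empty_or_nonempty (Finset.univ : Finset ι) with h | ⟨i, -⟩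
    · obtain ⟨g, hg1⟩ : ∃ g : G, g ≠ 1 := by
        haveI : Nontrivial G := Finite.one_lt_card_iff_nontrivial.mp hG
        exact exists_ne 1
      obtain ⟨i, -⟩ := hcover g hg1
      exact Finset.notMem_empty i (h ▸ Finset.mem_univ i)
    · have hu : (Finset.univ : Finset ι) = {i} := by
        refine Finset.eq_singleton_iff_unique_mem.mpr ⟨Finset.mem_univ _, fun j _ => ?_⟩
        have hs : Subsingleton ι := Fintype.card_le_one_iff_subsingleton.mp (by omega)
        exact Subsingleton.elim _ _
      rw [hu, Finset.sum_singleton] at hsum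
      have he : (3 : ℝ) ≤ ((Q i).e : ℝ) := by exact_mod_cast (Q i).three_le
      have hh : (1 : ℝ) ≤ (Nat.card (H i) : ℝ) := by
        exact_mod_cast Nat.one_le_iff_ne_zero.mpr (Nat.card_pos (α := H i)).ne'
      set h := (Nat.card (H i) : ℝ)
      set e := ((Q i).e : ℝ)
      have h5 : (h - 1) / (e * h) ≤ 1 / 3 := by
        rw [div_le_div_iff₀ (by positivity) (by norm_num)]
        nlinarith
      have hG3 : (2 : ℝ) ≤ (Nat.card G : ℝ) := by exact_mod_cast hG
      have h6 : 1 / (Nat.card G : ℝ) ≤ 1 / 2 := one_div_le_one_div_of_le (by norm_num) hG3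
      linarith

end CfsgLib.FT
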