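import Cfsg.Agent.Lib.Base.MinimalNormal
import Cfsg.Agent.Lib.Base.ThompsonFPF
import Cfsg.Agent.Lib.Base.Transport
import Cfsg.Agent.Lib.Coprime.Action
import Mathlib.LinearAlgebra.Dual.Lemmas
import Mathlib.Algebra.Module.ZMod

/-!
# The fixed point formula for a Frobenius group acting coprimely (Peterfalvi 9.1)

For an abelian module with no fixed point of an elementary abelian kernel, the weight idempotents,
computed after adjoining `p`-th roots of unity as shifts, are permuted freely by the complement.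
-/

set_option autoImplicit false
set_option linter.style.haveILetI false
set_option linter.unusedSectionVars false

namespace CfsgLib.FT

open _root_.Subgroup

universe u

section Module

/-- Homomorphisms to `ZMod p` separate the points of an elementary abelian group. -/
theorem eq_zero_of_forall_hom_zmod {A : Type*} [AddCommGroup A] {p : ℕ} [Fact p.Prime]
    (h : ∀ a : A, p • a = 0) (x : A) (hx : ∀ χ : A →+ ZMod p, χ x = 0) : x = 0 := by
  haveI : Module (ZMod p) A := AddCommGroup.zmodModule h
  exact (Module.forall_dual_apply_eq_zero_iff (ZMod p) x).mp fun χ => hx χ.toAddMonoidHom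

variable {M : Type u} [AddCommGroup M] {F : Type u} [Group F]

/-- The fixed points of a set of operators. -/
def fixPts (ρ : F →* AddMonoid.End M) (S : Set F) : AddSubgroup M where
  carrier := {m | ∀ s ∈ S, ρ s m = m}
  zero_mem' := fun s _ => map_zero _
  add_mem' := fun ha hb s hs => by rw [map_add, ha s hs, hb s hs]
  neg_mem' := fun ha s hs => by rw [map_neg, ha s hs]

theorem mem_fixPts {ρ : F →* AddMonoid.End M} {S : Set F} {m : M} :
    m ∈ fixPts ρ S ↔ ∀ s ∈ S, ρ s m = m := Iff.rfl

theorem end_sum_apply {ι : Type*} (s : Finset ι) (f : ι → AddMonoid.End M) (m : M) :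
    (∑ i ∈ s, f i) m = ∑ i ∈ s, f i m :=
  map_sum (AddMonoidHom.eval m : AddMonoid.End M →+ M) f s

theorem nsmul_eq_zero_of_coprime [Finite M] {n : ℕ} (h : (Nat.card M).Coprime n) {m : M}
    (hm : n • m = 0) : m = 0 :=
  AddMonoid.addOrderOf_eq_one_iff.mp (Nat.eq_one_of_dvd_coprimes h (addOrderOf_dvd_natCard m)
    (addOrderOf_dvd_of_nsmul_eq_zero hm))

variable [Finite M] [Finite F]

/-- The key case: elementary abelian kernel without fixed points. -/
theorem card_fix_pow_of_elementary (ρ : F →* AddMonoid.End M) {N E : Subgroup F}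
    (hnorm : ∀ e ∈ E, ∀ v ∈ N, e * v * e⁻¹ ∈ N)
    (hfpf : ∀ e ∈ E, e ≠ 1 → ∀ v ∈ N, e * v = v * e → v = 1)
    (hcomm : ∀ a ∈ N, ∀ b ∈ N, a * b = b * a) {p : ℕ} [hp : Fact p.Prime]
    (hexp : ∀ a ∈ N, a ^ p = 1) (hcop : (Nat.card M).Coprime (Nat.card N))
    (hfix : fixPts ρ (N : Set F) = ⊥) :
    Nat.card (fixPts ρ (E : Set F)) ^ Nat.card E = Nat.card M := by
  classical
  haveI := Fintype.ofFinite F
  haveI := Fintype.ofFinite M
  haveI := Fintype.ofFinite N
  haveI := Fintype.ofFinite E
  by_cases hN1 : N = ⊥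
  · have hM : ∀ m : M, m = 0 := fun m => by
      have : m ∈ fixPts ρ (N : Set F) := fun s hs => by
        rw [hN1, SetLike.mem_coe, mem_bot] at hs
        rw [hs, map_one]; rfl
      rw [hfix] at this
      exact this
    haveI : Subsingleton M := ⟨fun a b => (hM a).trans (hM b).symm⟩
    rw [Nat.card_of_subsingleton (0 : fixPts ρ (E : Set F)), Nat.card_of_subsingleton (0 : M), one_pow]
  obtain ⟨v₁, hv₁, hv₁1⟩ := (bot_or_exists_ne_one N).resolve_left hN1
  have hpN : p ∣ Nat.card N := by
    have h1 : orderOf v₁ = p := orderOf_eq_prime (hexp v₁ hv₁) hv₁1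
    exact h1 ▸ orderOf_dvd_natCard _ hv₁
  have hMp : (Nat.card M).Coprime p := hcop.coprime_dvd_right hpN
  -- the elementary abelian kernel as a vector space
  letI : CommGroup N := { (inferInstance : Group N) with
    mul_comm := fun a b => Subtype.ext (hcomm a a.2 b b.2) }
  haveI : Finite (Additive N →+ ZMod p) :=
    Finite.of_injective (fun (χ : Additive N →+ ZMod p) (a : Additive N) => χ a)
      (fun χ ψ h => AddMonoidHom.ext (congrFun h))
  have hsep : ∀ x : Additive N, (∀ χ : Additive N →+ ZMod p, χ x = 0) → x = 0 :=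
    eq_zero_of_forall_hom_zmod fun a => Additive.toMul.injective (Subtype.ext (by
      rw [toMul_nsmul, SubmonoidClass.coe_pow]; exact hexp _ (Additive.toMul a).2))
  haveI := Fintype.ofFinite (Additive N →+ ZMod p)
  -- adjoining the roots of unity
  let Z : AddSubgroup (ZMod p → M) :=
    { carrier := {f | ∑ i, f i = 0}
      zero_mem' := by simp
      add_mem' := fun {a b} ha hb => by
        show ∑ i, (a i + b i) = 0
        rw [Finset.sum_add_distrib, ha, hb, add_zero]
      neg_mem' := fun {a} ha => by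
        show ∑ i, -(a i) = 0
        rw [Finset.sum_neg_distrib, ha, neg_zero] }
  have hZcop : ∀ k, (Nat.card M).Coprime k → ∀ z : Z, k • z = 0 → z = 0 := fun k hk z hz =>
    Subtype.ext (funext fun i => nsmul_eq_zero_of_coprime hk
      (congrFun (congrArg Subtype.val hz) i))
  let T : ZMod p → AddMonoid.End Z := fun k =>
    { toFun := fun f => ⟨fun i => (f : ZMod p → M) (i - k), by
        show ∑ i, (f : ZMod p → M) (i - k) = 0
        exact (Fintype.sum_equiv (Equiv.subRight k) _ (f : ZMod p → M) (fun i => rfl)).trans f.2⟩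
      map_zero' := rfl
      map_add' := fun f g => rfl }
  have hT0 : T 0 = 1 := by
    refine DFunLike.ext _ _ fun f => Subtype.ext (funext fun i => ?_)
    show (f : ZMod p → M) (i - 0) = _
    rw [sub_zero]; rfl
  have hTadd : ∀ a b, T (a + b) = T a * T b := fun a b => by
    refine DFunLike.ext _ _ fun f => Subtype.ext (funext fun i => ?_)
    show (f : ZMod p → M) (i - (a + b)) = (f : ZMod p → M) (i - a - b)
    rw [sub_sub]
  have hTsum : ∑ k, T k = 0 := by
    refine DFunLike.ext _ _ fun f => Subtype.ext (funext fun i => ?_)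
    rw [end_sum_apply, AddSubgroup.val_finsetSum, Finset.sum_apply]
    show ∑ k, (f : ZMod p → M) (i - k) = 0
    exact (Fintype.sum_equiv (Equiv.subLeft i) _ (f : ZMod p → M) (fun k => rfl)).trans f.2
  let R : F →* AddMonoid.End Z :=
    { toFun := fun g =>
        { toFun := fun f => ⟨fun i => ρ g ((f : ZMod p → M) i), by
            show ∑ i, ρ g ((f : ZMod p → M) i) = 0
            rw [← map_sum, show ∑ i, (f : ZMod p → M) i = 0 from f.2, map_zero]⟩
          map_zero' := Subtype.ext (funext fun i => map_zero _)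
          map_add' := fun a b => Subtype.ext (funext fun i => map_add _ _ _) }
      map_one' := AddMonoidHom.ext fun f => Subtype.ext (funext fun i => by
        show ρ 1 ((f : ZMod p → M) i) = _
        rw [map_one]; rfl)
      map_mul' := fun a b => AddMonoidHom.ext fun f => Subtype.ext (funext fun i => by
        show ρ (a * b) ((f : ZMod p → M) i) = _
        rw [map_mul]; rfl) }
  have hTR : ∀ k g, T k * R g = R g * T k := fun k g => AddMonoidHom.ext fun f => rfl
  -- a sum of shifts invariant under a nonzero shift vanishes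
  have hkill : ∀ (S : AddMonoid.End Z) (k : ZMod p), k ≠ 0 → T k * S = S → S = 0 := by
    intro S k hk hkS
    have hall : ∀ n : ℕ, T ((n : ZMod p) * k) * S = S := by
      intro n
      induction n with
      | zero => rw [Nat.cast_zero, zero_mul, hT0, one_mul]
      | succ n ih => rw [Nat.cast_succ, add_mul, one_mul, hTadd, mul_assoc, hkS, ih]
    have hall' : ∀ j : ZMod p, T j * S = S := fun j => by
      have := hall (j * k⁻¹).val
      rwa [ZMod.natCast_zmod_val, mul_assoc, inv_mul_cancel₀ hk, mul_one] at this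
    refine DFunLike.ext _ _ fun z => hZcop p hMp _ ?_
    have h1 : (∑ j, T j) * S = (Finset.univ : Finset (ZMod p)).card • S := by
      rw [Finset.sum_mul, Finset.sum_congr rfl (fun j _ => hall' j), Finset.sum_const]
    rw [hTsum, zero_mul, Finset.card_univ, ZMod.card] at h1
    exact (DFunLike.congr_fun h1.symm z : _)
  -- the weight operators
  let ofN : N → Additive N := Additive.ofMul
  let W : (Additive N →+ ZMod p) → AddMonoid.End Z := fun χ => ∑ v : N, T (-χ (ofN v)) * R v
  have horthv : ∀ v : N, v ≠ 1 → ∑ χ : (Additive N →+ ZMod p), T (-χ (ofN v)) = 0 := by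
    intro v hv
    obtain ⟨χ₀, hχ₀⟩ : ∃ χ₀ : (Additive N →+ ZMod p), χ₀ (ofN v) ≠ 0 := by
      by_contra h
      push Not at h
      exact hv (Additive.ofMul.injective (hsep (ofN v) h))
    refine hkill _ (-χ₀ (ofN v)) (neg_ne_zero.mpr hχ₀) ?_
    rw [Finset.mul_sum]
    refine Fintype.sum_equiv (Equiv.addLeft χ₀) _ _ fun χ => ?_
    rw [← hTadd, Equiv.coe_addLeft, AddMonoidHom.add_apply, neg_add]
  have horthχ : ∀ χ : (Additive N →+ ZMod p), χ ≠ 0 → ∑ v : N, T (χ (ofN v)) = 0 := by
    intro χ hχ
    obtain ⟨a, ha⟩ : ∃ a : N, χ (ofN a) ≠ 0 := by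
      by_contra h
      push Not at h
      exact hχ (AddMonoidHom.ext fun x => h (Additive.toMul x))
    refine hkill _ (χ (ofN a)) ha ?_
    rw [Finset.mul_sum]
    refine Fintype.sum_equiv (Equiv.mulLeft a) _ _ fun v => ?_
    rw [← hTadd, Equiv.coe_mulLeft, ← map_add]
    rfl
  set n := Nat.card N with hn
  set m := Nat.card (Additive N →+ ZMod p) with hm
  have hWW : ∀ χ ψ : (Additive N →+ ZMod p), W χ * W ψ = if χ = ψ then n • W ψ else 0 := by
    intro χ ψ
    have h1 : W χ * W ψ = ∑ v : N, T ((ψ - χ) (ofN v)) * W ψ := by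
      rw [Finset.sum_mul]
      refine Finset.sum_congr rfl fun v _ => ?_
      rw [Finset.mul_sum, Finset.mul_sum]
      refine Fintype.sum_equiv (Equiv.mulLeft v) _ _ fun w => ?_
      rw [Equiv.coe_mulLeft, Subgroup.coe_mul, map_mul]
      have h2 : ψ (ofN (v * w)) = ψ (ofN v) + ψ (ofN w) := map_add ψ (ofN v) (ofN w)
      calc T (-χ (ofN v)) * R (v : F) * (T (-ψ (ofN w)) * R (w : F))
          = T (-χ (ofN v)) * (R (v : F) * T (-ψ (ofN w))) * R (w : F) := by simp only [mul_assoc]
        _ = T (-χ (ofN v)) * (T (-ψ (ofN w)) * R (v : F)) * R (w : F) := by rw [hTR]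
        _ = T ((ψ - χ) (ofN v)) * (T (-ψ (ofN (v * w))) * (R (v : F) * R (w : F))) := by
          simp only [← mul_assoc, ← hTadd]
          congr 3
          rw [AddMonoidHom.sub_apply, h2]
          abel
    rw [h1]
    split_ifs with h
    · subst h
      simp only [sub_self, AddMonoidHom.zero_apply, hT0, one_mul, Finset.sum_const, Finset.card_univ,
        hn, Nat.card_eq_fintype_card]
    · rw [← Finset.sum_mul, horthχ (ψ - χ) (sub_ne_zero.mpr (Ne.symm h)), zero_mul]
  have hWsum : ∑ χ, W χ = m • 1 := by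
    rw [Finset.sum_comm, Finset.sum_eq_single (1 : N)]
    · have h0 : ∀ χ : (Additive N →+ ZMod p), T (-χ (ofN 1)) * R ((1 : N) : F) = 1 := fun χ => by
        rw [show ofN 1 = 0 from rfl, map_zero, neg_zero, hT0, Subgroup.coe_one, map_one, one_mul]
      rw [Finset.sum_congr rfl (fun χ _ => h0 χ), Finset.sum_const, Finset.card_univ, hm,
        Nat.card_eq_fintype_card]
    · intro v _ hv
      rw [← Finset.sum_mul, horthv v hv, zero_mul]
    · exact fun h => absurd (Finset.mem_univ _) h
  have hW0 : W 0 = 0 := by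
    refine DFunLike.ext _ _ fun z => Subtype.ext (funext fun i => ?_)
    have hmem : ((W 0 z : Z) : ZMod p → M) i ∈ fixPts ρ (N : Set F) := by
      intro g hg
      have h1 : R g * W 0 = W 0 := by
        rw [Finset.mul_sum]
        refine Fintype.sum_equiv (Equiv.mulLeft ⟨g, hg⟩) _ _ fun v => ?_
        simp only [AddMonoidHom.zero_apply, neg_zero, hT0, one_mul, Equiv.coe_mulLeft, Subgroup.coe_mul,
          map_mul]
      exact congrFun (congrArg Subtype.val (DFunLike.congr_fun h1 z)) i
    rw [hfix] at hmem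
    exact hmem
  -- the complement permutes the weights freely
  let cjN : E → Additive N →+ Additive N := fun σ =>
    (MonoidHom.toAdditive
      { toFun := fun v : N => (⟨(σ : F)⁻¹ * v * σ, by simpa using hnorm _ (E.inv_mem σ.2) v v.2⟩ : N)
        map_one' := Subtype.ext (by simp)
        map_mul' := fun a b => Subtype.ext (by simp [mul_assoc]) })
  let act : E → (Additive N →+ ZMod p) → (Additive N →+ ZMod p) := fun σ χ => χ.comp (cjN σ)
  have hcj : ∀ (σ : E) (v : N), cjN σ (ofN v) = ofN ⟨(σ : F)⁻¹ * v * σ, by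
      simpa using hnorm _ (E.inv_mem σ.2) v v.2⟩ := fun σ v => rfl
  have hact_one : ∀ χ, act 1 χ = χ := fun χ => AddMonoidHom.ext fun x => by
    show χ (cjN 1 (ofN (Additive.toMul x))) = χ (ofN (Additive.toMul x))
    rw [hcj]
    congr 1
    exact congrArg ofN (Subtype.ext (by simp))
  have hact_mul : ∀ σ τ χ, act (σ * τ) χ = act σ (act τ χ) := fun σ τ χ => AddMonoidHom.ext fun x => by
    show χ (cjN (σ * τ) (ofN (Additive.toMul x))) = χ (cjN τ (cjN σ (ofN (Additive.toMul x))))
    rw [hcj, hcj, hcj]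
    congr 1
    exact congrArg ofN (Subtype.ext (by simp [mul_assoc]))
  have hfree : ∀ σ : E, ∀ χ : (Additive N →+ ZMod p), χ ≠ 0 → act σ χ = χ → σ = 1 := by
    intro σ χ hχ hσ
    by_contra hσ1
    apply hχ
    let g : N → N := fun v => v⁻¹ * Additive.toMul (cjN σ (ofN v))
    have hg : Function.Injective g := by
      intro a b hab
      have h : (a : F)⁻¹ * ((σ : F)⁻¹ * a * σ) = (b : F)⁻¹ * ((σ : F)⁻¹ * b * σ) :=
        congrArg Subtype.val hab
      have hfix' : (σ : F) * ((b : F) * (a : F)⁻¹) = ((b : F) * (a : F)⁻¹) * σ := by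
        calc (σ : F) * ((b : F) * (a : F)⁻¹)
            = (σ : F) * (b : F) * ((a : F)⁻¹ * ((σ : F)⁻¹ * a * σ)) * ((σ : F)⁻¹ * (a : F)⁻¹ * σ) := by
              group
          _ = (σ : F) * (b : F) * ((b : F)⁻¹ * ((σ : F)⁻¹ * b * σ)) * ((σ : F)⁻¹ * (a : F)⁻¹ * σ) := by
              rw [h]
          _ = ((b : F) * (a : F)⁻¹) * σ := by group
      have := hfpf σ σ.2 (fun e => hσ1 (Subtype.ext e)) _ (N.mul_mem b.2 (N.inv_mem a.2)) hfix'
      exact Subtype.ext (mul_inv_eq_one.mp this).symm
    refine AddMonoidHom.ext fun x => ?_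
    obtain ⟨v, hv⟩ := (Finite.injective_iff_surjective.mp hg) (Additive.toMul x)
    have hx : x = -ofN v + cjN σ (ofN v) := by
      rw [← ofMul_toMul x, ← hv]; rfl
    rw [hx, map_add, map_neg, AddMonoidHom.zero_apply, ← AddMonoidHom.comp_apply]
    show -χ (ofN v) + act σ χ (ofN v) = 0
    rw [hσ, neg_add_cancel]
  have hRW : ∀ (σ : E) (χ : (Additive N →+ ZMod p)), R (σ : F) * W χ = W (act σ χ) * R (σ : F) := by
    intro σ χ
    rw [Finset.mul_sum, Finset.sum_mul]
    let cv : N ≃ N :=
      { toFun := fun v => ⟨(σ : F) * v * (σ : F)⁻¹, hnorm σ σ.2 v v.2⟩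
        invFun := fun v => ⟨(σ : F)⁻¹ * v * σ, by simpa using hnorm _ (E.inv_mem σ.2) v v.2⟩
        left_inv := fun v => Subtype.ext (by simp [mul_assoc])
        right_inv := fun v => Subtype.ext (by simp [mul_assoc]) }
    refine Fintype.sum_equiv cv _ _ fun v => ?_
    have h1 : act σ χ (ofN (cv v)) = χ (ofN v) := by
      show χ (cjN σ (ofN (cv v))) = _
      rw [hcj]
      congr 1
      exact congrArg ofN (Subtype.ext (by simp [cv, mul_assoc]))
    rw [h1, ← mul_assoc, ← hTR, mul_assoc, mul_assoc, ← map_mul, ← map_mul]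
    congr 2
    simp [cv, mul_assoc]
  -- representatives of the orbits
  let st : Setoid {χ : (Additive N →+ ZMod p) // χ ≠ 0} :=
    { r := fun a b => ∃ σ : E, act σ a.1 = b.1
      iseqv := ⟨fun a => ⟨1, hact_one _⟩,
        fun {a b} ⟨σ, h⟩ => ⟨σ⁻¹, by rw [← h, ← hact_mul, inv_mul_cancel, hact_one]⟩,
        fun {a b c} ⟨σ, h⟩ ⟨τ, h'⟩ => ⟨τ * σ, by rw [hact_mul, h, h']⟩⟩ }
  haveI : Fintype (Quotient st) := Fintype.ofFinite _
  let rep : Quotient st → (Additive N →+ ZMod p) := fun q => (q.out).1
  have hrep : ∀ (σ : E) (q q' : Quotient st), act σ (rep q) = rep q' → σ = 1 ∧ q = q' := by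
    intro σ q q' h
    have hq : q = q' := by
      rw [← q.out_eq, ← q'.out_eq]; exact Quotient.sound ⟨σ, h⟩
    exact ⟨hfree σ (rep q) q.out.2 (h.trans (congrArg rep hq.symm)), hq⟩
  set ε : AddMonoid.End Z := ∑ q, W (rep q) with hε
  set S : AddMonoid.End Z := ∑ σ : E, R (σ : F) with hS
  have hεε : ε * ε = n • ε := by
    rw [hε, Finset.sum_mul]
    refine (Finset.sum_congr rfl fun q _ => ?_).trans (Finset.sum_nsmul _ _ _)
    rw [Finset.mul_sum, Finset.sum_eq_single q]
    · rw [hWW, if_pos rfl]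
    · intro q' _ hne
      rw [hWW, if_neg]
      intro h
      exact hne (hrep 1 q q' (by rw [hact_one, h])).2.symm
    · exact fun h => absurd (Finset.mem_univ _) h
  have hεσε : ∀ σ : E, σ ≠ 1 → ε * R (σ : F) * ε = 0 := by
    intro σ hσ
    rw [hε, Finset.sum_mul, Finset.sum_mul]
    refine Finset.sum_eq_zero fun q _ => ?_
    rw [mul_assoc, Finset.mul_sum, Finset.mul_sum]
    refine Finset.sum_eq_zero fun q' _ => ?_
    rw [hRW, ← mul_assoc, hWW, if_neg, zero_mul]
    intro h
    exact hσ (hrep σ q' q h.symm).1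
  have hεSε : ε * S * ε = n • ε := by
    rw [show ε * S * ε = ∑ σ : E, ε * R (σ : F) * ε from
      map_sum ((AddMonoidHom.mulRight ε).comp (AddMonoidHom.mulLeft ε)) (fun σ : E => R (σ : F)) _,
      Finset.sum_eq_single (1 : E)]
    · rw [Subgroup.coe_one, map_one, mul_one, hεε]
    · exact fun σ _ hσ => hεσε σ hσ
    · exact fun h => absurd (Finset.mem_univ _) h
  have hsum : ∑ σ : E, R (σ : F) * ε * R (σ⁻¹ : E) = m • 1 := by
    have h1 : ∀ σ : E, R (σ : F) * ε * R (σ⁻¹ : E) = ∑ q, W (act σ (rep q)) := fun σ => by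
      rw [hε, Finset.mul_sum, Finset.sum_mul]
      refine Finset.sum_congr rfl fun q _ => ?_
      rw [hRW, mul_assoc, ← map_mul, ← Subgroup.coe_mul, mul_inv_cancel, Subgroup.coe_one, map_one,
        mul_one]
    let b : E × Quotient st → {χ : (Additive N →+ ZMod p) // χ ≠ 0} := fun z => ⟨act z.1 (rep z.2), fun h => z.2.out.2 (by
      have h' := congrArg (act z.1⁻¹) h
      rwa [← hact_mul, inv_mul_cancel, hact_one] at h')⟩
    have hb : Function.Bijective b := by
      constructor
      · rintro ⟨σ, q⟩ ⟨τ, q'⟩ h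
        have h' := congrArg (fun x : {χ : (Additive N →+ ZMod p) // χ ≠ 0} => act τ⁻¹ x.1) h
        simp only [b, ← hact_mul, inv_mul_cancel, hact_one] at h'
        obtain ⟨h1, rfl⟩ := hrep _ _ _ h'
        rw [inv_mul_eq_one] at h1
        rw [h1]
      · intro χ
        obtain ⟨σ, hσ⟩ : (Quotient.mk st χ).out ≈ χ := Quotient.mk_out χ
        exact ⟨(σ, Quotient.mk st χ), Subtype.ext hσ⟩
    rw [Finset.sum_congr rfl (fun σ _ => h1 σ), ← hWsum, ← Fintype.sum_prod_type']
    refine (Fintype.sum_equiv (Equiv.ofBijective b hb) _ (fun χ => W χ.1) (fun z => rfl)).trans ?_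
    rw [← Finset.sum_subtype (Finset.univ.erase (0 : (Additive N →+ ZMod p))) (by simp) W,
      Finset.sum_erase _ hW0]
  -- the two injections
  have hcopn : (Nat.card M).Coprime n := hcop
  have hcopm : (Nat.card M).Coprime m := by
    have hpX : IsPGroup p (Multiplicative (Additive N →+ ZMod p)) := fun a => ⟨1, by
      rw [pow_one]
      refine Multiplicative.toAdd.injective ?_
      rw [toAdd_pow, toAdd_one]
      refine AddMonoidHom.ext fun x => ?_
      rw [AddMonoidHom.smul_apply, nsmul_eq_mul, ZMod.natCast_self, zero_mul]; rfl⟩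
    obtain ⟨k, hk⟩ := IsPGroup.iff_card.mp hpX
    rw [hm, ← Nat.card_congr (Multiplicative.ofAdd (α := (Additive N →+ ZMod p))).symm, hk]
    exact hMp.pow_right k
  let C := fixPts R (E : Set F)
  have hSmem : ∀ w, S w ∈ C := fun w g hg => by
    have h1 : R g * S = S := by
      rw [hS, Finset.mul_sum]
      refine Fintype.sum_equiv (Equiv.mulLeft ⟨g, hg⟩) _ _ fun σ => ?_
      rw [Equiv.coe_mulLeft, Subgroup.coe_mul, map_mul]
    exact DFunLike.congr_fun h1 w
  let Φ : Z →+ (E → C) :=
    { toFun := fun w σ => ⟨S (ε (R (σ⁻¹ : E) w)), hSmem _⟩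
      map_zero' := funext fun σ => Subtype.ext (by simp)
      map_add' := fun a b => funext fun σ => Subtype.ext (by simp) }
  let Θ : (E → C) →+ Z :=
    { toFun := fun c => ∑ σ : E, R (σ : F) (ε (c σ))
      map_zero' := by simp
      map_add' := fun a b => by simp [Finset.sum_add_distrib] }
  have hΦ : Function.Injective Φ := by
    refine (injective_iff_map_eq_zero _).mpr fun w hw => hZcop (n * m) (hcopn.mul_right hcopm) _ ?_
    have h1 : ∑ σ : E, (R (σ : F) * (ε * S * ε) * R (σ⁻¹ : E)) w = 0 :=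
      Finset.sum_eq_zero fun σ _ => by
        show R (σ : F) (ε (S (ε (R (σ⁻¹ : E) w)))) = 0
        rw [show S (ε (R (σ⁻¹ : E) w)) = (0 : Z) from congrArg Subtype.val (congrFun hw σ),
          map_zero, map_zero]
    rw [← end_sum_apply, hεSε] at h1
    simp only [mul_smul_comm, smul_mul_assoc] at h1
    rw [Finset.sum_nsmul, hsum, smul_smul] at h1
    exact h1
  have hΘ : Function.Injective Θ := by
    refine (injective_iff_map_eq_zero _).mpr fun c hc => funext fun σ => Subtype.ext ?_
    refine hZcop (n * m) (hcopn.mul_right hcopm) _ ?_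
    have h1 : ∀ τ : E, ε (R (σ⁻¹ : E) (R (τ : F) (ε (c τ)))) =
        if τ = σ then n • ε (c σ) else 0 := by
      intro τ
      show (ε * (R ((σ⁻¹ : E) : F) * R (τ : F)) * ε) (c τ) = _
      rw [← map_mul, ← Subgroup.coe_mul]
      split_ifs with h
      · subst h
        rw [inv_mul_cancel, Subgroup.coe_one, map_one, mul_one, hεε]; rfl
      · rw [hεσε _ (fun e => h (inv_mul_eq_one.mp e).symm)]; rfl
    have h2 : ε (R (σ⁻¹ : E) (Θ c)) = n • ε (c σ) := by
      show ε (R (σ⁻¹ : E) (∑ τ : E, R (τ : F) (ε (c τ)))) = _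
      rw [map_sum, map_sum, Finset.sum_congr rfl (fun τ _ => h1 τ), Finset.sum_ite_eq',
        if_pos (Finset.mem_univ σ)]
    rw [hc, map_zero, map_zero] at h2
    have h3 : S (ε (c σ)) = m • (c σ : Z) := by
      have h4 : ∀ τ : E, R (τ : F) (ε (c σ)) = (R (τ : F) * ε * R (τ⁻¹ : E)) (c σ) := fun τ => by
        show _ = R (τ : F) (ε (R (τ⁻¹ : E) (c σ)))
        rw [(c σ).2 _ (τ⁻¹ : E).2]
      rw [hS, end_sum_apply, Finset.sum_congr rfl (fun τ _ => h4 τ), ← end_sum_apply, hsum]
      rfl
    have h5 := congrArg S h2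
    rw [map_zero, map_nsmul, h3, smul_smul] at h5
    exact h5.symm
  have hcardZ : Nat.card Z = Nat.card C ^ Nat.card E := by
    rw [← Nat.card_fun]
    exact le_antisymm (Nat.card_le_card_of_injective Φ hΦ) (Nat.card_le_card_of_injective Θ hΘ)
  -- back to `M`
  have hcount : ∀ A : AddSubgroup M,
      Nat.card {f : ZMod p → M // (∀ i, f i ∈ A) ∧ ∑ i, f i = 0} = Nat.card A ^ (p - 1) := by
    intro A
    have hZp : Nat.card {i : ZMod p // i ≠ 0} = p - 1 := by
      rw [Nat.card_eq_fintype_card, Fintype.card_subtype_compl, Fintype.card_subtype_eq, ZMod.card]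
    rw [← hZp, ← Nat.card_fun]
    refine Nat.card_congr
      { toFun := fun f i => ⟨f.1 i.1, f.2.1 i.1⟩
        invFun := fun g => ⟨fun i => if h : i = 0 then -∑ j, (g j : M) else g ⟨i, h⟩, ?_, ?_⟩
        left_inv := fun f => Subtype.ext (funext fun i => ?_)
        right_inv := fun g => funext fun i => Subtype.ext ?_ }
    · intro i
      show (if h : i = 0 then -∑ j, (g j : M) else (g ⟨i, h⟩ : M)) ∈ A
      split
      · exact A.neg_mem (A.sum_mem fun j _ => (g j).2)
      · exact (g _).2
    · rw [← Finset.add_sum_erase _ _ (Finset.mem_univ (0 : ZMod p)),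
        Finset.sum_subtype (Finset.univ.erase (0 : ZMod p)) (p := fun i => i ≠ 0) (by simp)]
      refine (congrArg₂ (· + ·) (dif_pos rfl) (Finset.sum_congr rfl fun j _ => dif_neg j.2)).trans
        (neg_add_cancel _)
    · show (if h : i = 0 then -∑ j : {i : ZMod p // i ≠ 0}, f.1 j.1 else f.1 i) = f.1 i
      split
      · next h =>
        subst h
        have hs := f.2.2
        rw [← Finset.add_sum_erase _ _ (Finset.mem_univ (0 : ZMod p)),
          Finset.sum_subtype (Finset.univ.erase (0 : ZMod p)) (p := fun i => i ≠ 0) (by simp)] at hs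
        exact (eq_neg_of_add_eq_zero_left hs).symm
      · rfl
    · show (if h : (i : ZMod p) = 0 then -∑ j, (g j : M) else (g ⟨i, h⟩ : M)) = g i
      rw [dif_neg i.2]
  have hM' : Nat.card Z = Nat.card M ^ (p - 1) := by
    rw [← AddSubgroup.card_top (G := M), ← hcount ⊤]
    exact Nat.card_congr
      { toFun := fun z => ⟨z.1, fun i => trivial, z.2⟩
        invFun := fun f => ⟨f.1, f.2.2⟩
        left_inv := fun z => rfl
        right_inv := fun f => rfl }
  have hC' : Nat.card C = Nat.card (fixPts ρ (E : Set F)) ^ (p - 1) := by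
    rw [← hcount]
    exact Nat.card_congr
      { toFun := fun z => ⟨z.1.1, fun i g hg => congrFun (congrArg Subtype.val (z.2 g hg)) i, z.1.2⟩
        invFun := fun f => ⟨⟨f.1, f.2.2⟩, fun g hg => Subtype.ext (funext fun i => f.2.1 i g hg)⟩
        left_inv := fun z => rfl
        right_inv := fun f => rfl }
  rw [hM', hC', ← pow_mul, mul_comm, pow_mul] at hcardZ
  exact (Nat.pow_left_injective (by have := hp.out.two_le; omega) hcardZ).symm

/-- The restriction of operators to an invariant subgroup. -/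
def restrictHom (ρ : F →* AddMonoid.End M) (A : AddSubgroup M) (hA : ∀ g, ∀ a ∈ A, ρ g a ∈ A) :
    F →* AddMonoid.End A where
  toFun g :=
    { toFun := fun a => ⟨ρ g a, hA g a a.2⟩
      map_zero' := Subtype.ext (map_zero _)
      map_add' := fun a b => Subtype.ext (map_add _ _ _) }
  map_one' := DFunLike.ext _ _ fun a => Subtype.ext (by
    show ρ 1 (a : M) = _
    rw [map_one]; rfl)
  map_mul' g h := DFunLike.ext _ _ fun a => Subtype.ext (by
    show ρ (g * h) (a : M) = _
    rw [map_mul]; rfl)

theorem card_fixPts_restrictHom (ρ : F →* AddMonoid.End M) (A : AddSubgroup M)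
    (hA : ∀ g, ∀ a ∈ A, ρ g a ∈ A) (S : Set F) :
    Nat.card (fixPts (restrictHom ρ A hA) S) = Nat.card (A ⊓ fixPts ρ S : AddSubgroup M) :=
  Nat.card_congr
    { toFun := fun a => ⟨a.1.1, a.1.2, fun g hg => congrArg Subtype.val (a.2 g hg)⟩
      invFun := fun a => ⟨⟨a.1, a.2.1⟩, fun g hg => Subtype.ext (a.2.2 g hg)⟩
      left_inv := fun _ => rfl
      right_inv := fun _ => rfl }

/-- The trace map of a set of operators. -/
noncomputable def traceHom (ρ : F →* AddMonoid.End M) (N : Subgroup F) : M →+ M :=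
  haveI := Fintype.ofFinite N
  (∑ v : N, ρ v : AddMonoid.End M)

theorem traceHom_apply (ρ : F →* AddMonoid.End M) (N : Subgroup F) [inst : Fintype N] (m : M) :
    traceHom ρ N m = ∑ v : N, ρ v m := by
  obtain rfl : inst = Fintype.ofFinite N := Subsingleton.elim _ _
  exact end_sum_apply _ _ _

theorem traceHom_mem (ρ : F →* AddMonoid.End M) (N : Subgroup F) (m : M) :
    traceHom ρ N m ∈ fixPts ρ (N : Set F) := by
  haveI := Fintype.ofFinite N
  intro g hg
  rw [traceHom_apply, map_sum]
  refine Fintype.sum_equiv (Equiv.mulLeft ⟨g, hg⟩) _ _ fun v => ?_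
  rw [Equiv.coe_mulLeft, Subgroup.coe_mul, map_mul]
  rfl

theorem traceHom_of_mem (ρ : F →* AddMonoid.End M) (N : Subgroup F) {m : M}
    (hm : m ∈ fixPts ρ (N : Set F)) : traceHom ρ N m = Nat.card N • m := by
  haveI := Fintype.ofFinite N
  rw [traceHom_apply, Finset.sum_congr rfl (fun v _ => hm _ v.2), Finset.sum_const, Finset.card_univ,
    Nat.card_eq_fintype_card]

theorem map_traceHom (ρ : F →* AddMonoid.End M) {N : Subgroup F} [N.Normal] (g : F) (m : M) :
    ρ g (traceHom ρ N m) = traceHom ρ N (ρ g m) := by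
  haveI := Fintype.ofFinite N
  rw [traceHom_apply, traceHom_apply, map_sum]
  let cv : N ≃ N :=
    { toFun := fun v => ⟨g * v * g⁻¹, Subgroup.Normal.conj_mem inferInstance _ v.2 g⟩
      invFun := fun v => ⟨g⁻¹ * v * g, by
        simpa using Subgroup.Normal.conj_mem inferInstance _ v.2 g⁻¹⟩
      left_inv := fun v => Subtype.ext (by simp [mul_assoc])
      right_inv := fun v => Subtype.ext (by simp [mul_assoc]) }
  refine Fintype.sum_equiv cv _ _ fun v => ?_
  show (ρ g * ρ v) m = (ρ (cv v) * ρ g) m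
  rw [← map_mul, ← map_mul]
  simp [cv, mul_assoc]

/-- An invariant subgroup splits as fixed points and trace kernel. -/
theorem card_eq_fix_mul_ker (ρ : F →* AddMonoid.End M) {N : Subgroup F}
    (hcop : (Nat.card M).Coprime (Nat.card N)) (A : AddSubgroup M)
    (hA : ∀ a ∈ A, traceHom ρ N a ∈ A) :
    Nat.card A = Nat.card (A ⊓ fixPts ρ (N : Set F) : AddSubgroup M) *
      Nat.card (A ⊓ (traceHom ρ N).ker : AddSubgroup M) := by
  let f : A →+ (A ⊓ fixPts ρ (N : Set F) : AddSubgroup M) :=
    ((traceHom ρ N).comp A.subtype).codRestrict _ fun a => ⟨hA _ a.2, traceHom_mem ρ N _⟩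
  have hker : Nat.card f.ker = Nat.card (A ⊓ (traceHom ρ N).ker : AddSubgroup M) :=
    Nat.card_congr
      { toFun := fun a => ⟨a.1.1, a.1.2, congrArg Subtype.val a.2⟩
        invFun := fun a => ⟨⟨a.1, a.2.1⟩, Subtype.ext a.2.2⟩
        left_inv := fun _ => rfl
        right_inv := fun _ => rfl }
  have hsurj : Function.Surjective f := by
    rintro ⟨b, hbA, hbN⟩
    have hi : Function.Injective (fun a : A => Nat.card N • a) := fun a c h => sub_eq_zero.mp
      (Subtype.ext (nsmul_eq_zero_of_coprime hcop (by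
        have h' := congrArg Subtype.val h
        simp only [AddSubmonoidClass.coe_nsmul] at h'
        rw [AddSubgroup.coe_sub, nsmul_sub, h', sub_self])))
    obtain ⟨a, ha⟩ := (Finite.injective_iff_surjective.mp hi) ⟨b, hbA⟩
    have ha' : Nat.card N • (a : M) = b := congrArg Subtype.val ha
    have haN : (a : M) ∈ fixPts ρ (N : Set F) := fun g hg => sub_eq_zero.mp
      (nsmul_eq_zero_of_coprime hcop (by rw [nsmul_sub, ← map_nsmul, ha', hbN g hg, sub_self]))
    exact ⟨a, Subtype.ext ((traceHom_of_mem ρ N haN).trans ha')⟩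
  rw [← hker, AddSubgroup.card_eq_card_quotient_mul_card_addSubgroup f.ker,
    Nat.card_congr (QuotientAddGroup.quotientKerEquivOfSurjective f hsurj).toEquiv]

theorem card_fix_sup (ρ : F →* AddMonoid.End M) (U E : Subgroup F) :
    fixPts ρ (U : Set F) ⊓ fixPts ρ (E : Set F) = fixPts ρ ((U ⊔ E : Subgroup F) : Set F) := by
  refine le_antisymm (fun m hm g hg => ?_)
    (fun m hm => ⟨fun g hg => hm g (le_sup_left (b := E) hg), fun g hg => hm g (le_sup_right (a := U) hg)⟩)
  let St : Subgroup F :=
    { carrier := {g | ρ g m = m}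
      one_mem' := by simp
      mul_mem' := fun {a b} ha hb => by
        show ρ (a * b) m = m
        rw [map_mul]
        exact (congrArg (ρ a) hb).trans ha
      inv_mem' := fun {a} ha => by
        show ρ a⁻¹ m = m
        conv_lhs => rw [← show ρ a m = m from ha]
        show (ρ a⁻¹ * ρ a) m = m
        rw [← map_mul, inv_mul_cancel, map_one]; rfl }
  exact sup_le (c := St) (fun g hg => hm.1 g hg) (fun g hg => hm.2 g hg) hg

end Module

/-- A solvable fixed-point-free kernel without fixed points. -/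
theorem card_fix_pow_of_fix_eq_bot : ∀ (n : ℕ) {F M : Type u} [Group F] [Finite F] [AddCommGroup M]
    [Finite M] (ρ : F →* AddMonoid.End M) (U E : Subgroup F), U.Normal → Nat.card U = n →
    (∀ e ∈ E, e ≠ 1 → ∀ u ∈ U, e * u = u * e → u = 1) → Group.IsSolvable U →
    (Nat.card M).Coprime n → fixPts ρ (U : Set F) = ⊥ →
    Nat.card (fixPts ρ (E : Set F)) ^ Nat.card E = Nat.card M := by
  intro n
  induction n using Nat.strong_induction_on with
  | _ n ih =>
    intro F M _ _ _ _ ρ U E hUn hcard hfpf hsol hcop hfix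
    haveI := hUn
    by_cases hU : U = ⊥
    · have hM : ∀ m : M, m = 0 := fun m => by
        have : m ∈ fixPts ρ (U : Set F) := fun s hs => by
          rw [hU, SetLike.mem_coe, mem_bot] at hs
          rw [hs, map_one]; rfl
        rw [hfix] at this
        exact this
      haveI : Subsingleton M := ⟨fun a b => (hM a).trans (hM b).symm⟩
      rw [Nat.card_of_subsingleton (0 : fixPts ρ (E : Set F)), Nat.card_of_subsingleton (0 : M),
        one_pow]
    obtain ⟨N, hNU, hN⟩ := Base.exists_isMinimalNormal_le hU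
    haveI := hN.normal
    haveI := hsol
    have hNs : Group.IsSolvable N :=
      Group.isSolvable_of_isSolvable_injective (Subgroup.inclusion_injective hNU)
    obtain ⟨p, hp, hNc, hexp, -⟩ := hN.exists_prime hNs
    haveI := Fact.mk hp
    have hcopU : (Nat.card M).Coprime (Nat.card U) := hcard ▸ hcop
    have hcopN : (Nat.card M).Coprime (Nat.card N) :=
      hcopU.coprime_dvd_right (Subgroup.card_dvd_of_le hNU)
    have hcomm : ∀ a ∈ N, ∀ b ∈ N, a * b = b * a := fun a ha b hb => by
      haveI := hNc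
      exact congrArg Subtype.val (mul_comm' (⟨a, ha⟩ : N) ⟨b, hb⟩)
    set A := fixPts ρ (N : Set F) with hA
    set K := (traceHom ρ N).ker with hK
    have hAi : ∀ g, ∀ a ∈ A, ρ g a ∈ A := fun g a ha v hv => by
      show (ρ v * ρ g) a = ρ g a
      rw [← map_mul, show v * g = g * (g⁻¹ * v * g) by group, map_mul]
      refine congrArg (ρ g) (ha _ ?_)
      simpa using hN.normal.conj_mem v hv g⁻¹
    have hKi : ∀ g, ∀ a ∈ K, ρ g a ∈ K := fun g a ha => by
      rw [hK, AddMonoidHom.mem_ker] at ha ⊢
      rw [← map_traceHom, ha, map_zero]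
    have hsplit : ∀ B : AddSubgroup M, (∀ a ∈ B, traceHom ρ N a ∈ B) →
        Nat.card B = Nat.card (B ⊓ A : AddSubgroup M) * Nat.card (B ⊓ K : AddSubgroup M) :=
      fun B hB => card_eq_fix_mul_ker ρ hcopN B hB
    have hK' : Nat.card (K ⊓ fixPts ρ (E : Set F) : AddSubgroup M) ^ Nat.card E = Nat.card K := by
      rw [← card_fixPts_restrictHom ρ K hKi]
      refine card_fix_pow_of_elementary (restrictHom ρ K hKi) (N := N) (E := E)
        (fun e _ v hv => hN.normal.conj_mem v hv e) (fun e he he1 v hv => hfpf e he he1 v (hNU hv))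
        hcomm hexp (hcopN.coprime_dvd_left (AddSubgroup.card_addSubgroup_dvd_card K)) ?_
      refine (AddSubgroup.eq_bot_iff_forall _).mpr fun a ha => ?_
      have h1 : traceHom ρ N (a : M) = Nat.card N • (a : M) :=
        traceHom_of_mem ρ N fun g hg => congrArg Subtype.val (ha g hg)
      rw [AddMonoidHom.mem_ker.mp a.2] at h1
      exact Subtype.ext (nsmul_eq_zero_of_coprime hcopN h1.symm)
    have hA' : Nat.card (A ⊓ fixPts ρ (E : Set F) : AddSubgroup M) ^ Nat.card E = Nat.card A := by
      let ρA := restrictHom ρ A hAi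
      have hle : N ≤ ρA.ker := fun g hg => DFunLike.ext _ _ fun a => Subtype.ext (a.2 g hg)
      let ρq := QuotientGroup.lift N ρA hle
      let mk := QuotientGroup.mk' N
      have hlt : Nat.card (U.map mk) < n := by
        have h1 := U.card_mul_index
        have h2 : (U.map mk).index = U.index :=
          Subgroup.index_map_eq U (QuotientGroup.mk'_surjective N)
            (by rw [QuotientGroup.ker_mk']; exact hNU)
        have h3 := (U.map mk).card_mul_index
        have h4 := Subgroup.card_eq_card_quotient_mul_card_subgroup N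
        have h5 : 1 < Nat.card N := Subgroup.one_lt_card_iff_ne_bot N |>.mpr hN.ne_bot
        have h6 : 0 < U.index := Nat.pos_of_ne_zero Subgroup.index_ne_zero_of_finite
        rw [← hcard]
        rw [h2] at h3
        have h7 : 0 < Nat.card (U.map mk) := Nat.card_pos
        nlinarith
      have hdis : ∀ e ∈ E, e ∈ N → e = 1 := fun e he heN => by
        by_contra h
        exact h (hfpf e he h e (hNU heN) rfl)
      have hE : Nat.card (E.map mk) = Nat.card E := by
        refine (Nat.card_congr (Equiv.ofBijective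
          (fun e : E => (⟨mk e, Subgroup.mem_map_of_mem mk e.2⟩ : E.map mk)) ⟨?_, ?_⟩)).symm
        · intro a b h
          have h' := QuotientGroup.eq.mp (congrArg Subtype.val h)
          exact Subtype.ext (inv_mul_eq_one.mp (hdis _ (E.mul_mem (E.inv_mem a.2) b.2) h'))
        · rintro ⟨x, a, ha, rfl⟩; exact ⟨⟨a, ha⟩, rfl⟩
      have himg : ∀ S : Subgroup F, fixPts ρq ((S.map mk : Subgroup (F ⧸ N)) : Set (F ⧸ N)) =
          fixPts ρA (S : Set F) := fun S => by
        ext a
        refine ⟨fun h g hg => h (mk g) (Subgroup.mem_map_of_mem mk hg), ?_⟩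
        rintro h _ ⟨g, hg, rfl⟩
        exact h g hg
      have key := ih _ hlt ρq (U.map mk) (E.map mk)
        (hUn.map mk (QuotientGroup.mk'_surjective N)) rfl ?_ ?_ ?_ ?_
      · rwa [himg, card_fixPts_restrictHom, hE] at key
      · rintro _ ⟨e, he, rfl⟩ he1 _ ⟨u, hu, rfl⟩ hc
        have he1' : e ≠ 1 := fun h => he1 (by rw [h, map_one])
        have hw : u⁻¹ * (e * u * e⁻¹) ∈ N := by
          rw [← QuotientGroup.eq_one_iff]
          show mk (u⁻¹ * (e * u * e⁻¹)) = 1
          rw [map_mul, map_mul, map_mul, map_inv, map_inv, hc]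
          group
        let g : N → N := fun x => ⟨(x : F)⁻¹ * (e * x * e⁻¹),
          N.mul_mem (N.inv_mem x.2) (hN.normal.conj_mem _ x.2 e)⟩
        have hcancel : ∀ x y : F, x ∈ U → y ∈ U → x⁻¹ * (e * x * e⁻¹) = y⁻¹ * (e * y * e⁻¹) →
            y = x := by
          intro x y hx hy h
          have h1 : e * (x * y⁻¹) = (x * y⁻¹) * e := by
            calc e * (x * y⁻¹) = x * (x⁻¹ * (e * x * e⁻¹)) * (y⁻¹ * (e * y * e⁻¹))⁻¹ * y⁻¹ * e := by
                  group
              _ = x * y⁻¹ * e := by rw [h]; group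
          exact (mul_inv_eq_one.mp (hfpf e he he1' _ (U.mul_mem hx (U.inv_mem hy)) h1)).symm
        have hg : Function.Injective g := fun x y h =>
          Subtype.ext (hcancel _ _ (hNU x.2) (hNU y.2) (congrArg Subtype.val h)).symm
        obtain ⟨x, hx⟩ := (Finite.injective_iff_surjective.mp hg) ⟨_, hw⟩
        rw [hcancel x u (hNU x.2) hu (congrArg Subtype.val hx)]
        exact (QuotientGroup.eq_one_iff _).mpr x.2
      · exact Group.isSolvable_of_surjective (f := mk.subgroupMap U) (mk.subgroupMap_surjective U)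
      · exact (hcopU.coprime_dvd_left (AddSubgroup.card_addSubgroup_dvd_card A)).coprime_dvd_right
          (Subgroup.card_map_dvd U mk)
      · rw [himg, AddSubgroup.eq_bot_iff_forall]
        intro a ha
        have : (a : M) ∈ fixPts ρ (U : Set F) := fun g hg => congrArg Subtype.val (ha g hg)
        rw [hfix] at this
        exact Subtype.ext this
    have hEi : ∀ a ∈ fixPts ρ (E : Set F), traceHom ρ N a ∈ fixPts ρ (E : Set F) := fun a ha g hg => by
      rw [map_traceHom, ha g hg]
    have h1 := hsplit ⊤ fun _ _ => AddSubgroup.mem_top _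
    rw [top_inf_eq, top_inf_eq, AddSubgroup.card_top] at h1
    rw [hsplit _ hEi, mul_pow, inf_comm _ A, inf_comm _ K, hA', hK', ← h1]

/-- The fixed point formula for abelian groups. -/
theorem card_fix_formula {F M : Type u} [Group F] [Finite F] [AddCommGroup M] [Finite M]
    (ρ : F →* AddMonoid.End M) (U E : Subgroup F) [U.Normal] (hE : E ≠ ⊥)
    (hfpf : ∀ e ∈ E, e ≠ 1 → ∀ u ∈ U, e * u = u * e → u = 1)
    (hcop : (Nat.card M).Coprime (Nat.card U)) :
    Nat.card (fixPts ρ ((U ⊔ E : Subgroup F) : Set F)) ^ Nat.card E * Nat.card M =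
      Nat.card (fixPts ρ (E : Set F)) ^ Nat.card E * Nat.card (fixPts ρ (U : Set F)) := by
  have hnil : Group.IsNilpotent U := by
    refine Base.IsFPF.isNilpotent (A := E) ⟨?_, fun a ha ha1 => ?_⟩ hE
    · rw [Subgroup.normalizer_eq_top]; exact le_top
    · refine (eq_bot_iff_forall _).mpr fun u hu => hfpf a ha ha1 u hu.1 ?_
      exact Subgroup.mem_centralizer_iff.mp hu.2 a rfl
  set K := (traceHom ρ U).ker with hK
  have hKi : ∀ g, ∀ a ∈ K, ρ g a ∈ K := fun g a ha => by
    rw [hK, AddMonoidHom.mem_ker] at ha ⊢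
    rw [← map_traceHom, ha, map_zero]
  have hEi : ∀ a ∈ fixPts ρ (E : Set F), traceHom ρ U a ∈ fixPts ρ (E : Set F) := fun a ha g hg => by
    rw [map_traceHom, ha g hg]
  have h2 := card_eq_fix_mul_ker ρ hcop (fixPts ρ (E : Set F)) hEi
  have h1 := card_eq_fix_mul_ker ρ hcop ⊤ fun _ _ => AddSubgroup.mem_top _
  rw [top_inf_eq, top_inf_eq, AddSubgroup.card_top] at h1
  rw [inf_comm, card_fix_sup, inf_comm _ K] at h2
  have h3 : Nat.card (K ⊓ fixPts ρ (E : Set F) : AddSubgroup M) ^ Nat.card E = Nat.card K := by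
    rw [← card_fixPts_restrictHom ρ K hKi]
    refine card_fix_pow_of_fix_eq_bot _ (restrictHom ρ K hKi) U E inferInstance rfl hfpf
      inferInstance (hcop.coprime_dvd_left (AddSubgroup.card_addSubgroup_dvd_card K)) ?_
    refine (AddSubgroup.eq_bot_iff_forall _).mpr fun a ha => ?_
    have h4 : traceHom ρ U (a : M) = Nat.card U • (a : M) :=
      traceHom_of_mem ρ U fun g hg => congrArg Subtype.val (ha g hg)
    rw [AddMonoidHom.mem_ker.mp a.2] at h4
    exact Subtype.ext (nsmul_eq_zero_of_coprime hcop h4.symm)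
  rw [h2, mul_pow, h3, h1]
  ring

end CfsgLib.FT
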