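import Cfsg.Agent.Lib.FT.DadeCover
import Cfsg.Agent.S1525

/-!
# The adjoint of the Dade map (Peterfalvi 7.1–7.5)
-/

set_option autoImplicit false
set_option linter.style.haveILetI false
set_option linter.unusedSectionVars false

namespace CfsgLib.FT

open _root_.Subgroup Cfsg CfsgLib.Chars CfsgLib.CharsMore
open scoped ComplexConjugate

universe u

variable {G : Type u} [Group G] [Fintype G] {A : Set G} {L : Subgroup G} {R : G → Subgroup G}

/-- The adjoint of the Dade map: the average over the cosets `a R(a)`. -/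
noncomputable def invDade (A : Set G) (L : Subgroup G) (R : G → Subgroup G) (χ : G → ℂ) : L → ℂ :=
  open scoped Classical in
  fun a => if (a : G) ∈ A then (Nat.card (R a) : ℂ)⁻¹ * ∑ᶠ u ∈ (R a : Set G), χ (a * u) else 0

theorem invDade_of_mem {a : L} (ha : (a : G) ∈ A) (χ : G → ℂ) :
    invDade A L R χ a = (Nat.card (R a) : ℂ)⁻¹ * ∑ᶠ u ∈ (R (a : G) : Set G), χ (a * u) := if_pos ha

theorem invDade_of_notMem {a : L} (ha : (a : G) ∉ A) (χ : G → ℂ) : invDade A L R χ a = 0 :=
  if_neg ha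

theorem conj_mem_iff (hD : DadeHypothesis A L R) {l a : L} :
    ((l * a * l⁻¹ : L) : G) ∈ A ↔ (a : G) ∈ A := by
  refine ⟨fun h => ?_, fun h => by simpa using hD.conj_mem l l.2 a h⟩
  simpa [mul_assoc] using hD.conj_mem (l : G)⁻¹ (L.inv_mem l.2) _ h

theorem isClassFunction_invDade (hD : DadeHypothesis A L R) {χ : G → ℂ}
    (hχ : IsClassFunction G χ) : IsClassFunction L (invDade A L R χ) := by
  classical
  intro a l
  by_cases ha : (a : G) ∈ A
  · have ha' : ((l * a * l⁻¹ : L) : G) ∈ A := (conj_mem_iff hD).mpr ha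
    rw [invDade_of_mem ha', invDade_of_mem ha]
    have hmem : ∀ u, u ∈ R ((l * a * l⁻¹ : L) : G) ↔ (l : G)⁻¹ * u * (l : G) ∈ R (a : G) := by
      intro u
      constructor
      · intro hu
        have h := dade_card_H_conj hD ha' (L.inv_mem l.2) u hu
        simpa [mul_assoc] using h
      · intro hu
        have h := dade_card_H_conj hD ha l.2 _ hu
        simpa [mul_assoc] using h
    haveI := Fintype.ofFinite (R ((l * a * l⁻¹ : L) : G))
    haveI := Fintype.ofFinite (R (a : G))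
    let e : R ((l * a * l⁻¹ : L) : G) ≃ R (a : G) :=
      { toFun := fun u => ⟨(l : G)⁻¹ * u * (l : G), (hmem u).mp u.2⟩
        invFun := fun u => ⟨(l : G) * u * (l : G)⁻¹, (hmem _).mpr (by simp [mul_assoc])⟩
        left_inv := fun u => Subtype.ext (by simp [mul_assoc])
        right_inv := fun u => Subtype.ext (by simp [mul_assoc]) }
    rw [Nat.card_congr e, ← finsum_set_coe_eq_finsum_mem, ← finsum_set_coe_eq_finsum_mem,
      finsum_eq_sum_of_fintype, finsum_eq_sum_of_fintype]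
    congr 1
    refine Fintype.sum_equiv e _ _ fun u => ?_
    rw [← hχ ((a : G) * (e u : G)) (l : G)]
    congr 1
    simp [e, mul_assoc]
  · rw [invDade_of_notMem ha, invDade_of_notMem (fun h => ha ((conj_mem_iff hD).mp h))]

theorem invDade_add (χ ψ : G → ℂ) :
    invDade A L R (χ + ψ) = invDade A L R χ + invDade A L R ψ := by
  funext a
  simp only [invDade, Pi.add_apply]
  split
  · rw [← mul_add, finsum_mem_add_distrib (Set.toFinite _)]
  · rw [add_zero]

theorem invDade_smul (c : ℂ) (χ : G → ℂ) : invDade A L R (c • χ) = c • invDade A L R χ := by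
  funext a
  simp only [invDade, Pi.smul_apply, smul_eq_mul]
  split
  · rw [mul_finsum_mem, mul_finsum_mem, mul_finsum_mem]
    exact finsum_mem_congr rfl fun u _ => by ring
  · rw [mul_zero]

theorem invDade_sub (χ ψ : G → ℂ) :
    invDade A L R (χ - ψ) = invDade A L R χ - invDade A L R ψ := by
  rw [sub_eq_add_neg, ← neg_one_smul ℂ ψ, invDade_add, invDade_smul, neg_one_smul, ← sub_eq_add_neg]

theorem invDade_one {a : L} (ha : (a : G) ∈ A) : invDade A L R (fun _ => 1) a = 1 := by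
  rw [invDade_of_mem ha]
  haveI := Fintype.ofFinite (R (a : G))
  rw [← finsum_set_coe_eq_finsum_mem, finsum_eq_sum_of_fintype, Finset.sum_const, Finset.card_univ,
    nsmul_one]
  simp only [SetLike.coe_sort_coe]
  rw [Nat.card_eq_fintype_card, inv_mul_cancel₀ (Nat.cast_ne_zero.mpr Fintype.card_ne_zero)]

/-- Peterfalvi (7.2): the averaging map inverts the Dade map. -/
theorem invDade_dade (hD : DadeHypothesis A L R) {α : L → ℂ} (hα : IsClassFunction L α)
    (hαA : ∀ x : L, (x : G) ∉ A → α x = 0) : invDade A L R (dadeIsometry A L R α) = α := by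
  funext a
  by_cases ha : (a : G) ∈ A
  · rw [invDade_of_mem ha, finsum_mem_congr rfl fun u hu =>
      dadeIsometry_apply hD hα a ha (g := (a : G) * u) (x := 1) hu (by group)]
    haveI := Fintype.ofFinite (R (a : G))
    rw [← finsum_set_coe_eq_finsum_mem, finsum_eq_sum_of_fintype, Finset.sum_const, Finset.card_univ,
      nsmul_eq_mul, ← mul_assoc]
    simp only [SetLike.coe_sort_coe]
    rw [Nat.card_eq_fintype_card, inv_mul_cancel₀ (Nat.cast_ne_zero.mpr Fintype.card_ne_zero),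
      one_mul]
  · rw [invDade_of_notMem ha, hαA a ha]

/-- Peterfalvi (7.2): reciprocity. -/
theorem inner_dade (hD : DadeHypothesis A L R) [Fintype L] {α : L → ℂ} (hα : IsClassFunction L α)
    (hαA : ∀ x : L, (x : G) ∉ A → α x = 0) {χ : G → ℂ} (hχ : IsClassFunction G χ) :
    classInner (dadeIsometry A L R α) χ = classInner α (invDade A L R χ) :=
  inner_dadeIsometry hD hα hαA hχ fun _ ha => invDade_of_mem ha χ

/-- Peterfalvi (7.3). -/
theorem norm_invDade_le (hD : DadeHypothesis A L R) [Fintype L] {χ : G → ℂ}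
    (hχ : IsClassFunction G χ) :
    (classInner (invDade A L R χ) (invDade A L R χ)).re ≤
      (Nat.card G : ℝ)⁻¹ * ∑ᶠ g ∈ dadeSupp A R, ‖χ g‖ ^ 2 := by
  classical
  have h := Cfsg.Agent.S1525.result A L R hD χ hχ (invDade A L R χ) fun a ha => invDade_of_mem ha χ
  have hset : dadeSupp A R = {g : G | ∃ a ∈ A, ∃ u ∈ R a, ∃ x : G, x * g * x⁻¹ = a * u} :=
    Set.ext fun g => ⟨fun ⟨a, ha, x, u, hu, e⟩ => ⟨a, ha, u, hu, x, e⟩,
      fun ⟨a, ha, u, hu, x, e⟩ => ⟨a, ha, x, u, hu, e⟩⟩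
  rw [hset]
  refine le_trans (le_of_eq ?_) h
  rw [inner_self_eq, Complex.ofReal_re]
  congr 1
  rw [finsum_mem_eq_toFinset_sum, Set.toFinset_setOf, Finset.sum_filter]
  refine Finset.sum_congr rfl fun a _ => ?_
  split_ifs with ha
  · rfl
  · rw [invDade_of_notMem ha, norm_zero]; ring

/-- Peterfalvi (7.5): several Dade supports, pairwise disjoint, with `G₀` outside them. -/
theorem cover_inequality {ι : Type*} [Fintype ι] (A : ι → Set G) (L : ι → Subgroup G)
    [∀ i, Fintype (L i)] (R : ι → G → Subgroup G) (hD : ∀ i, DadeHypothesis (A i) (L i) (R i))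
    (hdisj : ∀ i j, i ≠ j → Disjoint (dadeSupp (A i) (R i)) (dadeSupp (A j) (R j)))
    {χ : G → ℂ} (hχ : IsClassFunction G χ) (hnorm : classInner χ χ = 1) :
    (Nat.card G : ℝ)⁻¹ * ((∑ᶠ g ∈ {g : G | ∀ i, g ∉ dadeSupp (A i) (R i)}, ‖χ g‖ ^ 2) -
        ({g : G | ∀ i, g ∉ dadeSupp (A i) (R i)} : Set G).ncard) +
      ∑ i, ((classInner (invDade (A i) (L i) (R i) χ) (invDade (A i) (L i) (R i) χ)).re -
        ((A i).ncard : ℝ) / Nat.card (L i)) ≤ 0 := by
  classical
  set T : ι → Finset G := fun i => Finset.univ.filter fun g => g ∈ dadeSupp (A i) (R i) with hT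
  set G₀ : Finset G := Finset.univ.filter fun g => ∀ i, g ∉ dadeSupp (A i) (R i) with hG₀
  have hset : ({g : G | ∀ i, g ∉ dadeSupp (A i) (R i)} : Set G) = ↑G₀ := by
    ext g; simp [hG₀]
  have hTset : ∀ i, dadeSupp (A i) (R i) = ↑(T i) := fun i => by ext g; simp [hT]
  have hpd : Set.PairwiseDisjoint (↑(Finset.univ : Finset ι)) T := by
    intro i _ j _ hij
    rw [Function.onFun, Finset.disjoint_left]
    intro g hi hj
    exact Set.disjoint_left.mp (hdisj i j hij) (Finset.mem_filter.mp hi).2 (Finset.mem_filter.mp hj).2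
  have hd0 : Disjoint G₀ (Finset.univ.biUnion T) := by
    rw [Finset.disjoint_left]
    intro g hg hg'
    obtain ⟨i, -, hi⟩ := Finset.mem_biUnion.mp hg'
    exact (Finset.mem_filter.mp hg).2 i (Finset.mem_filter.mp hi).2
  have hu : G₀ ∪ Finset.univ.biUnion T = Finset.univ := by
    refine Finset.eq_univ_iff_forall.mpr fun g => ?_
    by_cases hg : ∀ i, g ∉ dadeSupp (A i) (R i)
    · exact Finset.mem_union_left _ (by simp [hG₀, hg])
    · push Not at hg
      obtain ⟨i, hi⟩ := hg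
      exact Finset.mem_union_right _ (Finset.mem_biUnion.mpr ⟨i, Finset.mem_univ _, by simp [hT, hi]⟩)
  have hsplit : ∀ f : G → ℝ, ∑ g : G, f g = (∑ g ∈ G₀, f g) + ∑ i, ∑ g ∈ T i, f g := fun f => by
    rw [← hu, Finset.sum_union hd0, Finset.sum_biUnion hpd]
  have hcG : (0 : ℝ) < Nat.card G := by exact_mod_cast Nat.card_pos
  have h1 : (Nat.card G : ℝ)⁻¹ * ((∑ g ∈ G₀, ‖χ g‖ ^ 2) + ∑ i, ∑ g ∈ T i, ‖χ g‖ ^ 2) = 1 := by
    rw [← hsplit]
    have h := congrArg Complex.re hnorm
    rwa [inner_self_eq, Complex.ofReal_re, Complex.one_re] at h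
  have h2 : (Nat.card G : ℝ)⁻¹ * ((G₀.card : ℝ) + ∑ i, ((T i).card : ℝ)) = 1 := by
    have h := hsplit fun _ => (1 : ℝ)
    simp only [Finset.sum_const, nsmul_one, Finset.card_univ] at h
    rw [← h, Nat.card_eq_fintype_card, inv_mul_cancel₀]
    exact Nat.cast_ne_zero.mpr Fintype.card_ne_zero
  have h3 : ∀ i, (classInner (invDade (A i) (L i) (R i) χ) (invDade (A i) (L i) (R i) χ)).re -
      ((A i).ncard : ℝ) / Nat.card (L i) ≤
      (Nat.card G : ℝ)⁻¹ * ((∑ g ∈ T i, ‖χ g‖ ^ 2) - (T i).card) := by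
    intro i
    have h := norm_invDade_le (hD i) hχ
    rw [hTset i, finsum_mem_coe_finset] at h
    have hc := card_dadeSupp (hD i)
    rw [hTset i, Set.ncard_coe_finset] at hc
    have hL : (0 : ℝ) < Nat.card (L i) := by exact_mod_cast Nat.card_pos
    have : ((A i).ncard : ℝ) / Nat.card (L i) = (Nat.card G : ℝ)⁻¹ * (T i).card := by
      field_simp
      linarith
    rw [this, mul_sub]
    linarith
  have h4 := Finset.sum_le_sum fun i (_ : i ∈ Finset.univ) => h3 i
  rw [hset, finsum_mem_coe_finset, Set.ncard_coe_finset]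
  have h5 : ∑ i, (Nat.card G : ℝ)⁻¹ * ((∑ g ∈ T i, ‖χ g‖ ^ 2) - (T i).card) =
      (Nat.card G : ℝ)⁻¹ * ((∑ i, ∑ g ∈ T i, ‖χ g‖ ^ 2) - ∑ i, ((T i).card : ℝ)) := by
    rw [← Finset.mul_sum, Finset.sum_sub_distrib]
  rw [h5] at h4
  rw [mul_add] at h1 h2
  rw [mul_sub] at h4 ⊢
  linarith

end CfsgLib.FT
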