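import Cfsg.Agent.Lib.FT.TypeOne.Group
import Cfsg.Agent.Lib.FT.BG16.Discharge
import Cfsg.Agent.Lib.FT.BG13.S1411
import Cfsg.Agent.Lib.FT.BG13.Cover
import Cfsg.Agent.S1350
import Cfsg.Agent.S1352
import Cfsg.Agent.S1355
import Cfsg.Agent.S1357
import Cfsg.Agent.S1365
import Cfsg.Agent.S1381
import Cfsg.Agent.S1382
import Cfsg.Agent.S1383

/-!
The local analysis supplies everything sections 8 and 12 of the character theory assume.
-/

set_option autoImplicit false

universe u

namespace CfsgLib.FT

/-- The inputs of section 8. -/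
theorem localFacts8 : LocalFacts8.{u} where
  s1351 := BG15.upstream.s1351
  s1352 := fun {_} _ _ hG M hM K hKc hK => Cfsg.Agent.S1352.result hG M hM K hKc hK
  s1355 := fun {_} _ _ hG M hM => Cfsg.Agent.S1355.result hG M hM
  s1357 := fun {_} _ _ hG M hM K U h hne => Cfsg.Agent.S1357.result hG M hM K U h hne
  s1365 := fun {_} _ _ hG M hM K U h h1 => Cfsg.Agent.S1365.result hG M hM K U h h1
  s1366 := BG15.upstream.s1366
  s1378 := BG13.stmtS1378_of BG13.upstream
  s1379 := BG13.stmtS1379_of BG13.upstream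
  s1380 := BG16.stmtS1380
  s1381 := fun {_} _ _ hG M hM K U h => Cfsg.Agent.S1381.result hG M hM K U h
  s1382 := fun {_} _ _ hG M hM K U h => Cfsg.Agent.S1382.result hG M hM K U h
  s1391 := BG16.stmtS1391
  s1432 := BG15.upstream.s1432
  s1434 := BG15.upstream.s1434
  s1436 := BG15.upstream.s1436

namespace TypeOne

/-- The inputs of section 12. -/
theorem localFacts12 : LocalFacts12.{u} where
  base := localFacts8
  s1350 := fun {_} _ _ hG M hM => Cfsg.Agent.S1350.result hG M hM
  s1383 := fun {_} _ _ hG M hM K U h => Cfsg.Agent.S1383.result hG M hM K U h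
  s1417 := BG15.upstream.bg13.s1417
  s1418 := BG15.upstream.bg13.s1418
  s1425 := BG15.upstream.bg13.s1425

end TypeOne

end CfsgLib.FT
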