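import Cfsg.Agent.Lib.FT.PF8
import Cfsg.Agent.Lib.FT.DadeCover

/-!
# Peterfalvi (7.11) applied to the maximal subgroups: not all are of Type I
-/

set_option autoImplicit false
set_option linter.style.haveILetI false

namespace CfsgLib.FT

open _root_.Subgroup Cfsg CfsgLib.CharsMore

universe u

theorem dadeSupp_eq_tildeOf {G : Type u} [Group G] [Fintype G] (M : Subgroup G) (A : Set G) :
    dadeSupp A (supportR M) = tildeOf M A := by
  ext g
  constructor
  · rintro ⟨a, ha, x, u, hu, e⟩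
    exact ⟨a, ha, u, hu, x⁻¹, by rw [← e]; group⟩
  · rintro ⟨a, ha, u, hu, y, rfl⟩
    exact ⟨a, ha, y⁻¹, u, hu, by group⟩

/-- Not every maximal subgroup is of Type I, given that those of Type I are Frobenius groups. -/
theorem exists_not_typeI (F : LocalFacts8.{u}) {G : Type u} [Group G] [Finite G]
    (hG : IsMinSimpleOddOrder G)
    (hfrob : (∀ M : Subgroup G, IsCoatom M → IsOfTypeI M) → ∀ M : Subgroup G, IsCoatom M →
      ∀ x ∈ fittingHallOf M, x ≠ 1 → M ⊓ centralizer ({x} : Set G) ≤ fittingHallOf M) :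
    ∃ M : Subgroup G, IsCoatom M ∧ ¬ IsOfTypeI M := by
  classical
  by_contra hcon
  push Not at hcon
  haveI := Fintype.ofFinite G
  haveI := CfsgLib.OddOrder.minSimple_isSimple hG
  have hκ : ∀ M : Subgroup G, IsCoatom M → kappa M = ∅ ∧ sigmaCore M < M := by
    intro M hM
    obtain ⟨K, U, hKU⟩ := exists_decomposition F hG hM
    obtain ⟨hK, hU⟩ := (F.s1380 hG M hM K U hKU).mp (hcon M hM)
    obtain ⟨-, -, h3, h4, -⟩ := F.s1355 hG M hM
    refine ⟨?_, lt_of_le_of_lt h3 h4⟩
    by_contra hne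
    obtain ⟨p, hp⟩ := Set.nonempty_iff_ne_empty.mpr hne
    have hcop : (Nat.card M).Coprime 1 := Nat.coprime_one_right _
    obtain ⟨-, -, hidx⟩ := hKU.hall
    have h5 := hidx p hp.1
    rw [hK, relIndex_bot_left] at h5
    exact h5 hp hp.2.1
  let s : Setoid {M : Subgroup G // IsCoatom M} :=
    { r := fun M N => ∃ g : G, N.1 = M.1.map (MulAut.conj g).toMonoidHom
      iseqv := ⟨fun M => ⟨1, by
          rw [map_conj_eq_self (one_mem _)]⟩,
        fun {M N} ⟨g, hg⟩ => ⟨g⁻¹, by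
          rw [hg, map_map, show ((MulAut.conj g⁻¹).toMonoidHom.comp (MulAut.conj g).toMonoidHom) =
            MonoidHom.id G from MonoidHom.ext fun x => by simp [mul_assoc], map_id]⟩,
        fun {M N K} ⟨g, hg⟩ ⟨k, hk⟩ => ⟨k * g, by
          rw [hk, hg, map_map]
          exact congrArg (fun f => M.1.map f) (MonoidHom.ext fun x => by simp [mul_assoc])⟩⟩ }
  haveI : Fintype (Quotient s) := Fintype.ofFinite _
  let M : Quotient s → Subgroup G := fun i => i.out.1
  have hM : ∀ i, IsCoatom (M i) := fun i => i.out.2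
  have hnc : ∀ i j, i ≠ j → ∀ g : G, M j ≠ (M i).map (MulAut.conj g).toMonoidHom := fun i j hij g h =>
    hij (by rw [← i.out_eq, ← j.out_eq]; exact Quotient.sound ⟨g, h⟩)
  have hH : ∀ i, fittingHallOf (M i) = sigmaCore (M i) := fun i =>
    fittingHallOf_eq_sigmaCore_of_typeI F hG (hM i) (hcon _ (hM i))
  have hne : ∀ i, sigmaCore (M i) ≠ ⊥ := fun i => hH i ▸ (F.s1355 hG _ (hM i)).1
  have hcop : ∀ i j, i ≠ j →
      (Nat.card (sigmaCore (M i))).Coprime (Nat.card (sigmaCore (M j))) := by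
    intro i j hij
    refine Nat.coprime_of_dvd fun p hp h1 h2 => ?_
    haveI := Fact.mk hp
    have h : ∀ k, p ∣ Nat.card (sigmaCore (M k)) → p ∈ sigma (M k) := fun k hk => by
      obtain ⟨x, hx⟩ := exists_prime_orderOf_dvd_card' p hk
      exact mem_sigma_of_dvd x.2 hp (by rw [orderOf_coe, hx])
    obtain ⟨g, hg⟩ := (F.s1378 hG).2 _ _ (hM i) (hM j) ⟨p, h i h1, h j h2⟩
    exact hnc i j hij g hg
  refine no_dade_cover (CfsgLib.OddOrder.minSimple_odd hG) M (fun i => sigmaCore (M i))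
    (fun i => supportR (M i)) (fun i => (hκ _ (hM i)).2) (fun i => ?_) hne (fun i => ?_) (fun i => ?_)
    hcop (fun i j hij => ?_) (fun g hg => ?_) Finite.one_lt_card
  · exact fun m hm => mem_normalizer_iff_map_conj_eq.mpr (by
      show (sigmaCore (M i)).map (MulAut.conj m).toMonoidHom = _
      rw [← map_sigmaCore, map_conj_eq_self hm])
  · exact typeA1_eq F hG (hM i) ▸ dadeHypothesis_typeSet F hG (hM i) (Or.inl rfl)
  · intro x hx hx1
    have := hfrob hcon _ (hM i) x (hH i ▸ hx) hx1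
    rwa [hH i] at this
  · rw [dadeSupp_eq_tildeOf, dadeSupp_eq_tildeOf, Set.disjoint_iff_inter_eq_empty]
    exact (F.s1379 hG).1 _ _ (hM i) (hM j) (hnc i j hij)
  · obtain ⟨N, hN, hgN⟩ := (F.s1379 hG).2.1 (fun N hN => (hκ N hN).1) g hg
    refine ⟨Quotient.mk s ⟨N, hN⟩, ?_⟩
    obtain ⟨c, hc⟩ : (⟨N, hN⟩ : {M : Subgroup G // IsCoatom M}) ≈ (Quotient.mk s ⟨N, hN⟩).out :=
      Setoid.symm (Quotient.mk_out _)
    rw [dadeSupp_eq_tildeOf, show M (Quotient.mk s ⟨N, hN⟩) = N.map (MulAut.conj c).toMonoidHom from hc,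
      map_sigmaCore, show (((sigmaCore N).map (MulAut.conj c).toMonoidHom : Subgroup G) : Set G) \ {1} =
        MulAut.conj c '' ((sigmaCore N : Set G) \ {1}) by
        rw [Set.image_sdiff (MulAut.conj c).injective, Set.image_singleton, map_one]; rfl,
      tildeOf_conj]
    exact hgN

/-- Not every maximal subgroup is of Type I. -/
theorem stmtS1541_of (F : LocalFacts8.{u}) (h1540 : StmtS1540.{u}) : StmtS1541.{u} :=
  fun hG => exists_not_typeI F hG fun hall _ hM => h1540 hG _ hM (hall _ hM)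

end CfsgLib.FT
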