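import Cfsg.Agent.Lib.FT.Stmts
import Cfsg.Agent.Lib.FT.Transport
import Cfsg.Agent.Lib.CharsMore.DadeBasic
import Cfsg.Agent.Lib.OddOrder.MinSimple
import Cfsg.Agent.Lib.OddOrder.FittingHall

/-!
# Peterfalvi, section 8: the supports of the maximal subgroups

S1537, S1538 and S1539, deduced from the results of the local analysis taken as hypotheses.
-/

set_option autoImplicit false
set_option linter.style.haveILetI false
set_option linter.unusedSectionVars false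

namespace CfsgLib.FT

open _root_.Subgroup Cfsg

universe u

/-- The results of the local analysis used here. -/
structure LocalFacts8 : Prop where
  s1351 : StmtS1351.{u}
  s1352 : StmtS1352.{u}
  s1355 : StmtS1355.{u}
  s1357 : StmtS1357.{u}
  s1365 : StmtS1365.{u}
  s1366 : StmtS1366.{u}
  s1378 : StmtS1378.{u}
  s1379 : StmtS1379.{u}
  s1380 : StmtS1380.{u}
  s1381 : StmtS1381.{u}
  s1382 : StmtS1382.{u}
  s1391 : StmtS1391.{u}
  s1432 : StmtS1432.{u}
  s1434 : StmtS1434.{u}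
  s1436 : StmtS1436.{u}

variable {G : Type u} [Group G] [Finite G]

theorem sigmaCore_le (M : Subgroup G) : sigmaCore M ≤ M := map_subtype_le _

theorem mem_sigma_of_dvd {M : Subgroup G} {x : G} (hx : x ∈ sigmaCore M) {p : ℕ} (hp : p.Prime)
    (hd : p ∣ orderOf x) : p ∈ sigma M :=
  CfsgLib.OddOrder.piCoreOf_primes (sigma M) M p hp (hd.trans (orderOf_dvd_natCard _ hx))

theorem exists_decomposition (F : LocalFacts8.{u}) (hG : IsMinSimpleOddOrder G) {M : Subgroup G}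
    (hM : IsCoatom M) : ∃ K U : Subgroup G, IsSigmaDecomposition M K U := by
  obtain ⟨⟨K, hK⟩, hcyc⟩ := F.s1351 hG M hM
  obtain ⟨U, hU⟩ := (F.s1352 hG M hM K (hcyc K hK) hK).1
  exact ⟨K, U, hU⟩

theorem typeCore_eq_sigmaCore (F : LocalFacts8.{u}) (hG : IsMinSimpleOddOrder G) {M : Subgroup G}
    (hM : IsCoatom M) : typeCore M = sigmaCore M := by
  obtain ⟨K, U, hKU⟩ := exists_decomposition F hG hM
  unfold typeCore
  by_cases h34 : IsOfTypeIII M ∨ IsOfTypeIV M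
  · rw [if_pos h34]
    obtain ⟨hK, hU, -⟩ := (F.s1382 hG M hM K U hKU).mp h34
    rw [(F.s1365 hG M hM K U hKU hK).1, hU, bot_sup_eq]
  · rw [if_neg h34]
    by_contra hne
    obtain ⟨hU, -, hKp⟩ := F.s1357 hG M hM K U hKU hne
    refine h34 ((F.s1382 hG M hM K U hKU).mpr ⟨?_, hU, hne⟩)
    rintro rfl
    rw [card_bot] at hKp
    exact Nat.not_prime_one hKp

theorem fittingHallOf_eq_sigmaCore_of_typeI (F : LocalFacts8.{u}) (hG : IsMinSimpleOddOrder G)
    {M : Subgroup G} (hM : IsCoatom M) (hI : IsOfTypeI M) : fittingHallOf M = sigmaCore M := by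
  obtain ⟨K, U, hKU⟩ := exists_decomposition F hG hM
  rw [← typeCore_eq_sigmaCore F hG hM, typeCore, if_neg]
  intro h
  exact ((F.s1382 hG M hM K U hKU).mp h).1 ((F.s1380 hG M hM K U hKU).mp hI).1

theorem typeA1_eq (F : LocalFacts8.{u}) (hG : IsMinSimpleOddOrder G) {M : Subgroup G}
    (hM : IsCoatom M) : typeA1 M = (sigmaCore M : Set G) \ {1} := by
  rw [typeA1, typeCore_eq_sigmaCore F hG hM]

theorem typeA_spec (F : LocalFacts8.{u}) (hG : IsMinSimpleOddOrder G) {M : Subgroup G}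
    (hM : IsCoatom M) {a : G} (ha : a ∈ typeA M) :
    a ∈ M ∧ a ≠ 1 ∧ (∃ x ∈ sigmaCore M, x ≠ 1 ∧ a * x = x * a) ∧
      (¬ IsOfTypeI M → a ∈ ⁅M, M⁆) := by
  unfold typeA at ha
  by_cases hI : IsOfTypeI M
  · rw [if_pos hI] at ha
    obtain ⟨h1, h2, x, hx, hx'⟩ := ha
    rw [fittingHallOf_eq_sigmaCore_of_typeI F hG hM hI] at hx
    exact ⟨h1, h2, ⟨x, hx, hx'⟩, fun h => absurd hI h⟩
  · rw [if_neg hI] at ha
    obtain ⟨h1, h2, x, hx, hx'⟩ := ha
    rw [typeCore_eq_sigmaCore F hG hM] at hx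
    exact ⟨commutator_le_self M h1, h2, ⟨x, hx, hx'⟩, fun _ => h1⟩

theorem typeA_pow {M : Subgroup G} {a : G} (ha : a ∈ typeA M) {k : ℕ} (hk : a ^ k ≠ 1) :
    a ^ k ∈ typeA M := by
  unfold typeA at ha ⊢
  by_cases hI : IsOfTypeI M
  · rw [if_pos hI] at ha ⊢
    obtain ⟨h1, -, x, hx, hx1, hc⟩ := ha
    exact ⟨pow_mem h1 k, hk, x, hx, hx1, (Commute.pow_left hc k).eq⟩
  · rw [if_neg hI] at ha ⊢
    obtain ⟨h1, -, x, hx, hx1, hc⟩ := ha
    exact ⟨pow_mem h1 k, hk, x, hx, hx1, (Commute.pow_left hc k).eq⟩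

theorem typeA1_subset_typeA (F : LocalFacts8.{u}) (hG : IsMinSimpleOddOrder G) {M : Subgroup G}
    (hM : IsCoatom M) : typeA1 M ⊆ typeA M := by
  rw [typeA1_eq F hG hM]
  rintro a ⟨ha, ha1⟩
  unfold typeA
  by_cases hI : IsOfTypeI M
  · rw [if_pos hI]
    exact ⟨sigmaCore_le M ha, ha1, a, by rwa [fittingHallOf_eq_sigmaCore_of_typeI F hG hM hI], ha1,
      rfl⟩
  · rw [if_neg hI]
    exact ⟨(F.s1355 hG M hM).2.2.1 ha, ha1, a, by rwa [typeCore_eq_sigmaCore F hG hM], ha1, rfl⟩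

theorem typeA_subset_typeA0 (M : Subgroup G) : typeA M ⊆ typeA0 M := Set.subset_union_left

theorem typeA0_subset (F : LocalFacts8.{u}) (hG : IsMinSimpleOddOrder G) {M : Subgroup G}
    (hM : IsCoatom M) : typeA0 M ⊆ (M : Set G) \ {1} := by
  rintro a (ha | ⟨-, W₁, U, W₂, hP, m, hm, w, hw, hw1, -, rfl⟩)
  · obtain ⟨h1, h2, -⟩ := typeA_spec F hG hM ha
    exact ⟨h1, h2⟩
  · have hle : W₁ ⊔ W₂ ≤ M := sup_le hP.W₁_compl.2.1
      (hP.W₂_le.trans (inf_le_left.trans (CfsgLib.OddOrder.fittingHallOf_le M)))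
    exact ⟨M.mul_mem (M.mul_mem hm (hle hw)) (M.inv_mem hm),
      fun h => hw1 (by rw [conj_eq_one_iff.mp h]; exact W₁.one_mem)⟩

theorem conj_image_of_map {M : Subgroup G} (f : Subgroup G → Set G)
    (hf : ∀ e : G ≃* G, f (M.map e.toMonoidHom) = e '' f M) {m : G} (hm : m ∈ M) :
    MulAut.conj m '' f M = f M := by
  rw [← hf, map_conj_eq_self hm]

theorem conj_image_typeA (M : Subgroup G) {m : G} (hm : m ∈ M) {A : Set G}
    (hA : A = typeA1 M ∨ A = typeA M ∨ A = typeA0 M) : MulAut.conj m '' A = A := by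
  rcases hA with rfl | rfl | rfl
  · exact conj_image_of_map typeA1 (fun e => map_typeA1 e M) hm
  · exact conj_image_of_map typeA (fun e => map_typeA e M) hm
  · exact conj_image_of_map typeA0 (fun e => map_typeA0 e M) hm

theorem subset_typeA0 (F : LocalFacts8.{u}) (hG : IsMinSimpleOddOrder G) {M : Subgroup G}
    (hM : IsCoatom M) {A : Set G} (hA : A = typeA1 M ∨ A = typeA M ∨ A = typeA0 M) :
    A ⊆ typeA0 M ∧ typeA1 M ⊆ A := by
  have h1 := typeA1_subset_typeA F hG hM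
  rcases hA with rfl | rfl | rfl
  · exact ⟨h1.trans (typeA_subset_typeA0 M), subset_rfl⟩
  · exact ⟨typeA_subset_typeA0 M, h1⟩
  · exact ⟨subset_rfl, h1.trans (typeA_subset_typeA0 M)⟩

theorem supportR_of_le {M : Subgroup G} {a : G} (h : centralizer ({a} : Set G) ≤ M) :
    supportR M a = ⊥ := dif_neg fun hh => hh.1 h

theorem dadeHypothesis_typeA0 (F : LocalFacts8.{u}) (hG : IsMinSimpleOddOrder G) {M : Subgroup G}
    (hM : IsCoatom M) : DadeHypothesis (typeA0 M) M (supportR M) := by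
  obtain ⟨hfus, huniq, hdata⟩ := F.s1391 hG M hM (typeA0 M) (Or.inr rfl)
  have hcase : ∀ a ∈ typeA0 M,
      (centralizer ({a} : Set G) ≤ M ∧ supportR M a = ⊥) ∨
      ∃ L : Subgroup G, supportR M a = fittingHallOf L ⊓ centralizer ({a} : Set G) ∧
        centralizer ({a} : Set G) ≤
          normalizer ((fittingHallOf L ⊓ centralizer ({a} : Set G) : Subgroup G) : Set G) ∧
        IsComplIn (fittingHallOf L ⊓ centralizer ({a} : Set G)) (M ⊓ centralizer ({a} : Set G))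
          (centralizer ({a} : Set G)) ∧
        ∀ y ∈ typeA0 M, (Nat.card (fittingHallOf L)).Coprime
          (Nat.card ↥(M ⊓ centralizer ({y} : Set G))) := by
    intro a ha
    by_cases hC : centralizer ({a} : Set G) ≤ M
    · exact Or.inl ⟨hC, supportR_of_le hC⟩
    · right
      have h : ¬ centralizer ({a} : Set G) ≤ M ∧
          ∃! L : Subgroup G, IsCoatom L ∧ centralizer ({a} : Set G) ≤ L := ⟨hC, (huniq a ha hC).2⟩
      obtain ⟨hL, hxL⟩ := Classical.choose_spec h.2.exists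
      obtain ⟨-, hn, hc, hcop, -⟩ := hdata a ha hC _ hL hxL
      exact ⟨_, dif_pos h, hn, hc, hcop⟩
  refine
    { one_not_mem := fun h => (typeA0_subset F hG hM h).2 rfl
      subset := fun a ha => (typeA0_subset F hG hM ha).1
      conj_mem := fun x hx a ha => ?_
      fusion := fun a ha g hg => ?_
      le_centralizer := fun a ha => ?_
      conj_mem_H := fun a ha c hc u hu => ?_
      inf_eq_bot := fun a ha => ?_
      sup_eq := fun a ha => ?_
      coprime := fun a ha b hb => ?_ }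
  · rw [← conj_image_typeA M hx (Or.inr (Or.inr rfl))]
    exact ⟨a, ha, rfl⟩
  · exact hfus a ha g hg
  · rcases hcase a ha with ⟨-, h⟩ | ⟨L, h, -⟩
    · rw [h]; exact bot_le
    · rw [h]; exact inf_le_right
  · rcases hcase a ha with ⟨-, h⟩ | ⟨L, h, hn, -⟩
    · rw [h, mem_bot] at hu ⊢
      rw [hu]; group
    · rw [h] at hu ⊢
      exact (mem_normalizer_iff.mp (hn hc) u).mp hu
  · rcases hcase a ha with ⟨-, h⟩ | ⟨L, h, -, hc, -⟩
    · rw [h, bot_inf_eq]
    · rw [h]; exact hc.2.2.1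
  · rcases hcase a ha with ⟨hC, h⟩ | ⟨L, h, -, hc, -⟩
    · rw [h, bot_sup_eq, inf_of_le_right hC]
    · rw [h]
      refine le_antisymm (sup_le hc.1 hc.2.1) fun c hc' => ?_
      obtain ⟨u, hu, v, hv, rfl⟩ := hc.2.2.2 c hc'
      exact mul_mem_sup hu hv
  · rcases hcase a ha with ⟨-, h⟩ | ⟨L, h, -, -, hcop⟩
    · rw [h, card_bot]; exact Nat.coprime_one_left _
    · rw [h]
      exact (hcop b hb).coprime_dvd_left (card_dvd_of_le inf_le_left)

theorem dadeHypothesis_subset {A B : Set G} {L : Subgroup G} {H : G → Subgroup G}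
    (hD : DadeHypothesis A L H) (hBA : B ⊆ A) (hconj : ∀ x ∈ L, ∀ a ∈ B, x * a * x⁻¹ ∈ B) :
    DadeHypothesis B L H where
  one_not_mem h := hD.one_not_mem (hBA h)
  subset := hBA.trans hD.subset
  conj_mem := hconj
  fusion a ha g hg := hD.fusion a (hBA ha) g (hBA hg)
  le_centralizer a ha := hD.le_centralizer a (hBA ha)
  conj_mem_H a ha := hD.conj_mem_H a (hBA ha)
  inf_eq_bot a ha := hD.inf_eq_bot a (hBA ha)
  sup_eq a ha := hD.sup_eq a (hBA ha)
  coprime a ha b hb := hD.coprime a (hBA ha) b (hBA hb)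

theorem dadeHypothesis_typeSet (F : LocalFacts8.{u}) (hG : IsMinSimpleOddOrder G) {M : Subgroup G}
    (hM : IsCoatom M) {A : Set G} (hA : A = typeA1 M ∨ A = typeA M ∨ A = typeA0 M) :
    DadeHypothesis A M (supportR M) :=
  dadeHypothesis_subset (dadeHypothesis_typeA0 F hG hM) (subset_typeA0 F hG hM hA).1
    fun x hx a ha => by
      rw [← conj_image_typeA M hx hA]
      exact ⟨a, ha, rfl⟩

theorem normalizer_typeSet (F : LocalFacts8.{u}) (hG : IsMinSimpleOddOrder G) {M : Subgroup G}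
    (hM : IsCoatom M) {A : Set G} (hA : A = typeA1 M ∨ A = typeA M ∨ A = typeA0 M) :
    normalizer A = M := by
  haveI := CfsgLib.OddOrder.minSimple_isSimple hG
  have hle : M ≤ normalizer A := fun m hm => mem_normalizer_of_map_conj (conj_image_typeA M hm hA)
  refine (hM.le_iff.mp hle).resolve_left fun htop => ?_
  obtain ⟨hA0, hA1⟩ := subset_typeA0 F hG hM hA
  obtain ⟨hF1, hFs, -⟩ := F.s1355 hG M hM
  obtain ⟨a, ha, ha1⟩ := (bot_or_exists_ne_one (fittingHallOf M)).resolve_left hF1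
  have haA : a ∈ A := hA1 (by rw [typeA1_eq F hG hM]; exact ⟨hFs ha, ha1⟩)
  haveI : (Subgroup.normalClosure A).Normal := Subgroup.normalClosure_normal
  have hsub : Subgroup.normalClosure A ≤ M := by
    rw [Subgroup.normalClosure, closure_le]
    intro x hx
    obtain ⟨b, hb, hconj⟩ := Group.mem_conjugatesOfSet_iff.mp hx
    obtain ⟨c, rfl⟩ := isConj_iff.mp hconj
    exact (typeA0_subset F hG hM
      (hA0 ((mem_set_normalizer_iff.mp (htop ▸ mem_top c) b).mp hb))).1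
  rcases Subgroup.Normal.eq_bot_or_eq_top (H := Subgroup.normalClosure A) inferInstance with h | h
  · have hm := Subgroup.subset_normalClosure haA
    rw [h, SetLike.mem_coe, mem_bot] at hm
    exact ha1 hm
  · exact hM.1 (top_le_iff.mp (h ▸ hsub))

/-- Peterfalvi (8.15). -/
theorem stmtS1537_of (F : LocalFacts8.{u}) : StmtS1537.{u} := fun {G} _ _ hG M hM A hA =>
  ⟨normalizer_typeSet F hG hM hA, dadeHypothesis_typeSet F hG hM hA⟩

theorem centralizer_le_of_typeII (F : LocalFacts8.{u}) (hG : IsMinSimpleOddOrder G)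
    {M : Subgroup G} (hM : IsCoatom M) (hII : IsOfTypeII M) {a : G} (ha : a ∈ typeA0 M) :
    centralizer ({a} : Set G) ≤ M := by
  by_contra hC
  obtain ⟨haA1, -⟩ := (F.s1391 hG M hM (typeA0 M) (Or.inr rfl)).2.1 a ha hC
  obtain ⟨K, U, hKU⟩ := exists_decomposition F hG hM
  have hU : U ≠ ⊥ := ((F.s1381 hG M hM K U hKU).mp hII).2
  rw [typeA1, typeCore, if_neg (fun h => hU ((F.s1382 hG M hM K U hKU).mp h).2.1)] at haA1
  obtain ⟨-, -, -, -, -, -, hTI, -⟩ := hII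
  have haF : a ∈ fittingOf M := CfsgLib.OddOrder.fittingHallOf_le_fittingOf M haA1.1
  refine hC fun g hg => ?_
  have hgN : g ∈ normalizer (fittingOf M : Set G) := by
    by_contra hgn
    refine haA1.2 (hTI g hgn a haF ?_)
    rw [mem_centralizer_singleton_iff.mp hg, mul_inv_cancel_right]
    exact haF
  refine ((hM.le_iff.mp (CfsgLib.OddOrder.le_normalizer_fittingOf M)).resolve_left ?_).le hgN
  exact CfsgLib.OddOrder.minSimple_normalizer_ne_top hG
    (fun h => haA1.2 (mem_bot.mp (h ▸ haF))) (fun h => hM.1 (top_le_iff.mp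
      (h ▸ CfsgLib.OddOrder.fittingOf_le M)))

/-- Peterfalvi (8.16). -/
theorem stmtS1538_of (F : LocalFacts8.{u}) : StmtS1538.{u} := by
  intro G _ _ hG M hM hII
  have key : ∀ A : Set G, (A = typeA1 M ∨ A = typeA M ∨ A = typeA0 M) →
      IsTISubset A ∧ normalizer A = M := by
    intro A hA
    have hN := normalizer_typeSet F hG hM hA
    refine ⟨fun g hg x hx hgx => absurd ?_ hg, hN⟩
    obtain ⟨m, hm, hmx⟩ := (dadeHypothesis_typeSet F hG hM hA).fusion x hx g hgx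
    have hc : m⁻¹ * g ∈ centralizer ({x} : Set G) := mem_centralizer_singleton_iff.mpr (by
      calc m⁻¹ * g * x = m⁻¹ * (g * x * g⁻¹) * g := by group
        _ = m⁻¹ * (m * x * m⁻¹) * g := by rw [hmx]
        _ = x * (m⁻¹ * g) := by group)
    rw [hN, show g = m * (m⁻¹ * g) by group]
    exact M.mul_mem hm
      (centralizer_le_of_typeII F hG hM hII ((subset_typeA0 F hG hM hA).1 hx) hc)
  exact ⟨key _ (Or.inr (Or.inr rfl)), key _ (Or.inr (Or.inl rfl)), key _ (Or.inl rfl)⟩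

theorem mem_tildeOf_self {M : Subgroup G} {A : Set G} {a : G} (ha : a ∈ A) : a ∈ tildeOf M A :=
  ⟨a, ha, 1, one_mem _, 1, by simp⟩

theorem tildeA1_disjoint (F : LocalFacts8.{u}) (hG : IsMinSimpleOddOrder G) {S T : Subgroup G}
    (hS : IsCoatom S) (hT : IsCoatom T) (hnc : ∀ g : G, T.map (MulAut.conj g).toMonoidHom ≠ S) :
    ∀ z, z ∈ tildeOf S (typeA1 S) → z ∉ tildeOf T (typeA1 T) := by
  intro z h1 h2
  rw [typeA1_eq F hG hS] at h1
  rw [typeA1_eq F hG hT] at h2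
  exact Set.eq_empty_iff_forall_notMem.mp
    ((F.s1379 hG).1 T S hT hS fun g h => hnc g h.symm) z ⟨h2, h1⟩

theorem not_mem_sigma_of_nonconj (F : LocalFacts8.{u}) (hG : IsMinSimpleOddOrder G)
    {S T : Subgroup G} (hS : IsCoatom S) (hT : IsCoatom T)
    (hnc : ∀ g : G, T.map (MulAut.conj g).toMonoidHom ≠ S) {p : ℕ} (hp : p ∈ sigma S) :
    p ∉ sigma T := fun h => by
  obtain ⟨g, hg⟩ := (F.s1378 hG).2 T S hT hS ⟨p, h, hp⟩
  exact hnc g hg.symm

theorem not_mem_kappa_of_typeA (F : LocalFacts8.{u}) (hG : IsMinSimpleOddOrder G) {M : Subgroup G}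
    (hM : IsCoatom M) {a : G} (ha : a ∈ typeA M) {p : ℕ} (hp : p.Prime) (hd : p ∣ orderOf a) :
    p ∉ kappa M := by
  intro hκ
  obtain ⟨K, U, hKU⟩ := exists_decomposition F hG hM
  by_cases hK : K = ⊥
  · refine hKU.hall.2.2 p hp hκ ?_
    rw [hK, relIndex_bot_left]
    exact hκ.2.1
  · obtain ⟨Ms, ⟨hMs, hKs, hKH⟩, -⟩ := F.s1366 hG M hM K U hKU hK
    obtain ⟨hτ, -⟩ := F.s1434 hG M hM K U hKU hK Ms hMs hKs hKH
    obtain ⟨-, -, -, hnd, -⟩ := (hτ ▸ hκ : p ∈ tau1 M)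
    have hnI : ¬ IsOfTypeI M := fun h => hK ((F.s1380 hG M hM K U hKU).mp h).1
    exact hnd (hd.trans (orderOf_dvd_natCard _ ((typeA_spec F hG hM ha).2.2.2 hnI)))

theorem centralizer_facts_of_mem (F : LocalFacts8.{u}) (hG : IsMinSimpleOddOrder G)
    {S T : Subgroup G} (hS : IsCoatom S) (hT : IsCoatom T)
    (hnc : ∀ g : G, T.map (MulAut.conj g).toMonoidHom ≠ S) {x : G}
    (hxS : x ∈ typeA1 S) (hxT : x ∈ typeA T) :
    ¬ centralizer ({x} : Set G) ≤ S ∧ centralizer ({x} : Set G) ≤ T := by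
  have hCT : centralizer ({x} : Set G) ≤ T := by
    by_contra h
    exact tildeA1_disjoint F hG hS hT hnc x (mem_tildeOf_self hxS)
      (mem_tildeOf_self ((F.s1391 hG T hT (typeA T) (Or.inl rfl)).2.1 x hxT h).1)
  refine ⟨fun hCS => ?_, hCT⟩
  obtain ⟨hxTm, hx1, ⟨y, hy, hy1, hxy⟩, -⟩ := typeA_spec F hG hT hxT
  have hxS' : x ∈ sigmaCore S := by rw [typeA1_eq F hG hS] at hxS; exact hxS.1
  have hσ : ∀ p : ℕ, p.Prime → p ∣ orderOf x → p ∉ sigma T := fun p hp hd =>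
    not_mem_sigma_of_nonconj F hG hS hT hnc (mem_sigma_of_dvd hxS' hp hd)
  rcases F.s1432 hG T hT y hy hy1 x ⟨hxTm, mem_centralizer_singleton_iff.mpr hxy⟩ hx1 hσ with
    ⟨hκ, -⟩ | ⟨-, -, -, huniq⟩
  · obtain ⟨p, hp, hd⟩ := Nat.exists_prime_and_dvd (mt orderOf_eq_one_iff.mp hx1)
    exact not_mem_kappa_of_typeA F hG hT hxT hp hd (hκ p hp hd)
  · exact hnc 1 (by rw [map_conj_eq_self T.one_mem]; exact (huniq S hS hCS).symm)

theorem supports_iff (F : LocalFacts8.{u}) (hG : IsMinSimpleOddOrder G) {S T : Subgroup G}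
    (hS : IsCoatom S) (hT : IsCoatom T) (hnc : ∀ g : G, T.map (MulAut.conj g).toMonoidHom ≠ S) :
    Supports T S ↔ (typeA1 S ∩ typeA T).Nonempty := by
  constructor
  · rintro ⟨-, x, hx, h1, h2⟩
    obtain ⟨-, huniq, hdata⟩ := F.s1391 hG S hS (typeA0 S) (Or.inr rfl)
    obtain ⟨-, -, -, -, ⟨hxA, -⟩, -⟩ := hdata x hx h1 T hT h2
    exact ⟨x, (huniq x hx h1).1, hxA⟩
  · rintro ⟨x, hxS, hxT⟩
    obtain ⟨h1, h2⟩ := centralizer_facts_of_mem F hG hS hT hnc hxS hxT
    exact ⟨hT, x, (subset_typeA0 F hG hS (Or.inl rfl)).1 hxS, h1, h2⟩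

theorem nonconj_map {S T : Subgroup G} (hnc : ∀ g : G, T.map (MulAut.conj g).toMonoidHom ≠ S)
    (k : G) : ∀ g : G, (T.map (MulAut.conj k).toMonoidHom).map (MulAut.conj g).toMonoidHom ≠ S := by
  intro g h
  refine hnc (g * k) (Eq.trans ?_ h)
  rw [map_map]
  congr 1
  ext x
  simp [mul_assoc]

theorem nonconj_symm {S T : Subgroup G} (hnc : ∀ g : G, T.map (MulAut.conj g).toMonoidHom ≠ S) :
    ∀ g : G, S.map (MulAut.conj g).toMonoidHom ≠ T := by
  intro g h
  refine hnc g⁻¹ ?_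
  rw [← h, map_map]
  ext x
  simp [mul_assoc]

theorem exists_supports_iff (F : LocalFacts8.{u}) (hG : IsMinSimpleOddOrder G) {S T : Subgroup G}
    (hS : IsCoatom S) (hT : IsCoatom T) (hnc : ∀ g : G, T.map (MulAut.conj g).toMonoidHom ≠ S) :
    (∃ g : G, Supports (T.map (MulAut.conj g).toMonoidHom) S) ↔
      (tildeOf S (typeA1 S) ∩ tildeOf T (typeA T)).Nonempty := by
  constructor
  · rintro ⟨g, hg⟩
    obtain ⟨x, hxS, hxT⟩ := (supports_iff F hG hS ((isCoatom_map_iff _ T).mpr hT)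
      (nonconj_map hnc g)).mp hg
    refine ⟨x, mem_tildeOf_self hxS, ?_⟩
    rw [← tildeOf_conj g T (typeA T), ← map_typeA]
    exact mem_tildeOf_self hxT
  · rintro ⟨z, ⟨a, ha, r, hr, y₁, h1⟩, ⟨b, hb, s, hs, y₂, h2⟩⟩
    have hCb : centralizer ({b} : Set G) ≤ T := by
      by_contra h
      exact tildeA1_disjoint F hG hS hT hnc z ⟨a, ha, r, hr, y₁, h1⟩
        ⟨b, ((F.s1391 hG T hT (typeA T) (Or.inl rfl)).2.1 b hb h).1, s, hs, y₂, h2⟩
    rw [supportR_of_le hCb, mem_bot] at hs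
    subst hs
    refine ⟨y₁⁻¹ * y₂, ?_⟩
    set y := y₁⁻¹ * y₂ with hy
    have har : a * r ∈ typeA (T.map (MulAut.conj y).toMonoidHom) := by
      rw [map_typeA]
      refine ⟨b, hb, ?_⟩
      rw [MulAut.conj_apply, hy]
      calc y₁⁻¹ * y₂ * b * (y₁⁻¹ * y₂)⁻¹ = y₁⁻¹ * (y₂ * (b * 1) * y₂⁻¹) * y₁ := by group
        _ = y₁⁻¹ * (y₁ * (a * r) * y₁⁻¹) * y₁ := by rw [← h2, h1]
        _ = a * r := by group
    have hD := dadeHypothesis_typeSet F hG hS (Or.inl rfl)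
    obtain ⟨k, hk, -⟩ := CfsgLib.CharsMore.dade_exists_pow hD ha ha
    have hak := hk r hr
    refine (supports_iff F hG hS ((isCoatom_map_iff _ T).mpr hT) (nonconj_map hnc y)).mpr ⟨a, ha, ?_⟩
    have := typeA_pow har (k := k) (by rw [hak]; exact ha.2)
    rwa [hak] at this

theorem tilde_inter_eq_empty (F : LocalFacts8.{u}) (hG : IsMinSimpleOddOrder G) {S T : Subgroup G}
    (hS : IsCoatom S) (hT : IsCoatom T) (hnc : ∀ g : G, T.map (MulAut.conj g).toMonoidHom ≠ S) :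
    tildeOf S (typeA1 S) ∩ tildeOf T (typeA T) = ∅ ∨
      tildeOf T (typeA1 T) ∩ tildeOf S (typeA S) = ∅ := by
  by_contra hc
  rw [not_or, ← ne_eq, ← ne_eq, ← Set.nonempty_iff_ne_empty, ← Set.nonempty_iff_ne_empty] at hc
  obtain ⟨g, hg⟩ := (exists_supports_iff F hG hS hT hnc).mpr hc.1
  obtain ⟨h, hh⟩ := (exists_supports_iff F hG hT hS (nonconj_symm hnc)).mpr hc.2
  have hTg := (isCoatom_map_iff (MulAut.conj g) T).mpr hT
  obtain ⟨x, hxS, hxT⟩ := (supports_iff F hG hS hTg (nonconj_map hnc g)).mp hg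
  obtain ⟨hx1, hx2⟩ := centralizer_facts_of_mem F hG hS hTg (nonconj_map hnc g) hxS hxT
  have hSh := (isCoatom_map_iff (MulAut.conj h) S).mpr hS
  have hnc' := nonconj_map (nonconj_symm hnc) h
  obtain ⟨y, hyT, hyS⟩ := (supports_iff F hG hT hSh hnc').mp hh
  obtain ⟨hyS', hy1, ⟨w, hw, hw1, hyw⟩, -⟩ := typeA_spec F hG hSh hyS
  rw [typeA1_eq F hG hT] at hyT
  rw [typeA1_eq F hG hS] at hxS
  obtain ⟨p, hp, hd⟩ := Nat.exists_prime_and_dvd (mt orderOf_eq_one_iff.mp hy1)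
  obtain ⟨hκ, hτ⟩ := (F.s1436 hG S hS x hxS.1 hxS.2 hx1 _ hTg hx2).1
    ⟨p, by rw [sigma_map]; exact mem_sigma_of_dvd hyT.1 hp hd,
      hd.trans (card_map_equiv (MulAut.conj h) S ▸ orderOf_dvd_natCard _ hyS')⟩
  have hσ : ∀ q : ℕ, q.Prime → q ∣ orderOf y → q ∉ sigma (S.map (MulAut.conj h).toMonoidHom) :=
    fun q hq hdq => not_mem_sigma_of_nonconj F hG hT hSh hnc' (mem_sigma_of_dvd hyT.1 hq hdq)
  rcases F.s1432 hG _ hSh w hw hw1 y ⟨hyS', mem_centralizer_singleton_iff.mpr hyw⟩ hy1 hσ with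
    ⟨h', -⟩ | ⟨h', -⟩
  · have := h' p hp hd
    rw [kappa_map, hκ] at this
    exact this
  · have := h' p hp hd
    rw [tau2_map, hτ] at this
    exact this

/-- Peterfalvi (8.18). -/
theorem stmtS1539_of (F : LocalFacts8.{u}) : StmtS1539.{u} := fun {G} _ _ hG S T hS hT hnc =>
  ⟨supports_iff F hG hS hT hnc,
    fun _ hx => centralizer_facts_of_mem F hG hS hT hnc hx.1 hx.2,
    exists_supports_iff F hG hS hT hnc, tilde_inter_eq_empty F hG hS hT hnc⟩

end CfsgLib.FT
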