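import Cfsg.Agent.Lib.FT.AlphaCentralizer
import Cfsg.Agent.Lib.FT.PLengthClosure
import Cfsg.Agent.Lib.OddOrder.HallDerived
import Cfsg.Agent.Lib.Coprime.Hall

/-!
Proper subgroups have `p`-length at most one (BG, Theorem 10.6).
-/

set_option autoImplicit false
set_option linter.style.haveILetI false

universe u

namespace CfsgLib.FT

open Cfsg CfsgLib.OddOrder CfsgLib.Techniques Subgroup

/-- S1444 (BG 3.6) as a proposition. -/
def StmtS1444.{v} : Prop :=
  ∀ {G : Type v} [Group G] [Finite G] [Group.IsSolvable G] (_hodd : Odd (Nat.card G))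
    (H R R₀ : Subgroup G) [H.Normal] (_hHall : (Nat.card H).Coprime H.index)
    (_hR : Subgroup.IsComplement' H R) (_hR₀ : R₀ ≤ R) (_hR₀p : (Nat.card R₀).Prime)
    (_hZ : IsZGroup ↥(H ⊓ Subgroup.centralizer (R₀ : Set G)))
    (p : ℕ) [Fact p.Prime],
    Cfsg.PLengthLE p 1 ↥⁅H, R⁆

/-- A Hall subgroup for the complementary primes complements a normal Hall subgroup. -/
theorem isComplement'_of_hall {K : Type u} [Group K] [Finite K] {π : Set ℕ} {H R : Subgroup K}
    (hH : IsPiHall π H) (hR : IsPiHall πᶜ R) : IsComplement' H R := by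
  have h1 : (Nat.card R).Coprime (Nat.card H) := Nat.coprime_of_dvd fun q hq a b =>
    hR.1 q hq a (hH.1 q hq b)
  have h2 : H.index.Coprime R.index := Nat.coprime_of_dvd fun q hq a b =>
    hR.2 q hq (fun hπ => hH.2 q hq hπ a) b
  have e := (card_mul_index H).trans (card_mul_index R).symm
  have d1 : Nat.card R ∣ H.index := h1.dvd_of_dvd_mul_left (e ▸ Dvd.intro _ rfl)
  have d2 : H.index ∣ Nat.card R := h2.dvd_of_dvd_mul_right (e ▸ Dvd.intro_left _ rfl)
  refine isComplement'_of_coprime ?_ h1.symm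
  rw [Nat.dvd_antisymm d1 d2, card_mul_index]

variable {G : Type u} [Group G] [Finite G]

theorem piHall_piCore_alpha (h1403 : StmtS1403.{u}) (hG : IsMinSimpleOddOrder G) {M : Subgroup G}
    (hM : IsCoatom M) : IsPiHall (alpha M) (piCore (alpha M) M) := by
  have h := (CfsgLib.Coprime.piHallOf_iff.1 (alphaCore_hall h1403 hG hM)).2
  rwa [alphaCore, ← comap_subtype, comap_map_eq_self_of_injective M.subtype_injective] at h

/-- BG Theorem 10.6. -/
theorem pLengthLE_one_of_ne_top (h1403 : StmtS1403.{u}) (h1444 : StmtS1444.{u})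
    (hG : IsMinSimpleOddOrder G) {p : ℕ} [Fact p.Prime] {H : Subgroup G} (hH : H ≠ ⊤) :
    PLengthLE p 1 H := by
  obtain ⟨M, hM, hHM⟩ := exists_maximal_ge hH
  refine pLengthLE_one_of_le hHM ?_
  haveI := maximal_solvable hG hM
  by_cases hd : p ∣ Nat.card M
  swap
  · rw [pLengthLE_one_iff]
    exact ((Fact.out : p.Prime).coprime_iff_not_dvd.2 hd).symm.coprime_dvd_left
      (index_dvd_card _)
  by_cases hr : PRankLE p 2 M
  · rw [pLengthLE_one_iff]
    exact pPrimePCore_index (smallRank_core (maximal_odd hG M) (sigma_odd hG hd) hr).1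
  have hpα : p ∈ alpha M := ⟨Fact.out, hr⟩
  set C := piCore (alpha M) M with hC
  have hCH : IsPiHall (alpha M) C := piHall_piCore_alpha h1403 hG hM
  have hpC : ¬ p ∣ C.index := hCH.2 p Fact.out hpα
  have hne : alphaCore M ≠ ⊥ := by
    intro e
    have e' : C = ⊥ := (map_eq_bot_iff_of_injective _ M.subtype_injective).1 e
    rw [e', index_bot] at hpC
    exact hpC hd
  -- a prime outside `σ(M)`
  obtain ⟨q, hq, hqd⟩ := Nat.exists_prime_and_dvd (n := (sigmaCore M).relIndex M) (by
    rw [ne_eq, relIndex_eq_one]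
    exact fun h => (derived_lt hG hM).not_ge (h.trans (sigmaCore_le_derived h1403 hG hM)))
  haveI := Fact.mk hq
  have hqσ : q ∉ sigma M := fun h => (sigmaCore_hall h1403 hG hM).2.2 q hq h hqd
  have hqM : q ∣ Nat.card M := hqd.trans (index_dvd_card _)
  obtain ⟨T, hT⟩ := exists_sylIn (p := q) M
  obtain ⟨x, hxT, -, hx, hZ, -⟩ := exists_central_zgroup h1403 hG hM hqM hqσ hT
  set x' : M := ⟨x, hT.le hxT⟩ with hx'
  have hR₀ : Nat.card (zpowers x') = q := by rw [Nat.card_zpowers, Subgroup.orderOf_mk, hx]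
  obtain ⟨R, hR, hxR⟩ := (CfsgLib.Coprime.hallD_of_solvable (G := M) (alpha M)ᶜ).exists_le
    (U := zpowers x') (fun r hr hrd hrα => by
      rw [hR₀] at hrd
      rw [(Nat.prime_dvd_prime_iff_eq hr hq).1 hrd] at hrα
      exact hqσ (alpha_le_sigma h1403 hG hM hrα))
  have hcompl := isComplement'_of_hall hCH hR
  have hcop : (Nat.card C).Coprime C.index := Nat.coprime_of_dvd fun r hr a b =>
    hCH.2 r hr (hCH.1 r hr a) b
  have hZ' : IsZGroup ↥(C ⊓ centralizer ((zpowers x' : Subgroup M) : Set M)) := by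
    haveI := hZ
    let f : ↥(C ⊓ centralizer ((zpowers x' : Subgroup M) : Set M)) →*
        ↥(alphaCore M ⊓ centralizer ({x} : Set G)) :=
      MonoidHom.codRestrict (M.subtype.comp (Subgroup.subtype _)) _ fun y => by
        refine ⟨⟨y.1, y.2.1, rfl⟩, mem_centralizer_singleton_iff.2 ?_⟩
        exact (congrArg Subtype.val (mem_centralizer_iff.1 y.2.2 x' (mem_zpowers x'))).symm
    exact IsZGroup.of_injective (f := f) fun a b h =>
      Subtype.ext (Subtype.ext (by have h' := congrArg Subtype.val h; exact h'))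
  have h := h1444 (maximal_odd hG M) C R (zpowers x') hcop hcompl hxR (hR₀.symm ▸ hq) hZ' p
  have hCd : C ≤ commutator M := by
    have h' := (alphaCore_le_sigmaCore h1403 hG hM).trans (sigmaCore_le_derived h1403 hG hM)
    rw [← map_subtype_commutator] at h'
    exact (map_le_map_iff_of_injective M.subtype_injective).1 h'
  rw [← (hall_le_derived hcop hcompl hCd).1] at h
  exact pLengthLE_one_of_normal ((Fact.out : p.Prime).coprime_iff_not_dvd.2 hpC).symm h

end CfsgLib.FT
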