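import Cfsg.Agent.Lib.FT.SigmaFusion
import Cfsg.Agent.Lib.OddOrder.RankTwoFitting
import Cfsg.Agent.Lib.Transfer.Fusion

/-!
The subgroups `M_α` and `M_σ` of a maximal subgroup (BG, Theorem 10.2).
-/

set_option autoImplicit false
set_option linter.style.haveILetI false

universe u

namespace CfsgLib.FT

open Cfsg CfsgLib.OddOrder CfsgLib.Techniques Subgroup

/-! ### Solvable groups -/

section Solv

variable {K : Type u} [Group K] [Finite K]

theorem pRankLE_quotient_of_not_dvd {p k : ℕ} [Fact p.Prime] (N : Subgroup K) [N.Normal]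
    (hN : ¬ p ∣ Nat.card N) (hr : PRankLE p k K) : PRankLE p k (K ⧸ N) := by
  obtain ⟨S⟩ : Nonempty (Sylow p K) := inferInstance
  set f := QuotientGroup.mk' N with hf
  refine (CfsgLib.Base.pRankLE_iff_sylow (S.mapSurjective (QuotientGroup.mk'_surjective _))).2 ?_
  have hinj : Function.Injective (f.subgroupMap (S : Subgroup K)) := by
    rw [← MonoidHom.ker_eq_bot_iff, eq_bot_iff]
    intro x hx
    have h1 : (x : K) ∈ (S : Subgroup K) ⊓ N :=
      ⟨x.2, (QuotientGroup.eq_one_iff _).1 (congrArg Subtype.val hx)⟩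
    rw [CfsgLib.Base.inf_eq_bot_of_isPGroup_of_coprime S.isPGroup'
      (((Fact.out : p.Prime).coprime_iff_not_dvd.2 hN).symm)] at h1
    exact Subtype.ext (mem_bot.1 h1)
  let e := MulEquiv.ofBijective (f.subgroupMap (S : Subgroup K))
    ⟨hinj, f.subgroupMap_surjective _⟩
  exact (CfsgLib.Base.pRankLE_congr e).1 (CfsgLib.Base.pRankLE_subgroup hr _)

/-- Modulo `O_α`, where `α` contains the primes of rank three, the Fitting rank is at most two. -/
theorem fittingRankTwo_quotient_piCore {α : Set ℕ}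
    (hα : ∀ p : ℕ, p.Prime → ¬ PRankLE p 2 K → p ∈ α) :
    FittingRankTwo (K ⧸ piCore α K) := by
  intro p hp
  have := Fact.mk hp
  by_cases hpα : p ∈ α
  · have hle : pCore p (K ⧸ piCore α K) ≤ piCore α (K ⧸ piCore α K) := by
      refine CfsgLib.Base.le_piCore fun q hq hd => ?_
      obtain ⟨j, hj⟩ := IsPGroup.iff_card.1 (CfsgLib.Base.isPGroup_pCore p (K ⧸ piCore α K))
      rwa [(Nat.prime_dvd_prime_iff_eq hq hp).1 (hq.dvd_of_dvd_pow (hj ▸ hd))]
    rw [CfsgLib.Base.piCore_quotient_piCore] at hle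
    refine CfsgLib.Base.pRankLE_of_card_le ?_
    rw [le_bot_iff.1 hle, card_bot]
    exact Nat.one_le_pow _ _ hp.pos
  · refine CfsgLib.Base.pRankLE_subgroup (pRankLE_quotient_of_not_dvd _
      (fun h => hpα (CfsgLib.Base.piCore_primes α K p hp h)) ?_) _
    by_contra h
    exact hpα (hα p hp h)

/-- `O_π` is a Hall subgroup when `π` contains the primes of rank three and the Sylow subgroups
for the primes in `π` lie in the derived group. -/
theorem isPiHall_piCore_of_derived [Group.IsSolvable K] (hodd : Odd (Nat.card K)) {π α : Set ℕ}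
    (hα : ∀ p : ℕ, p.Prime → ¬ PRankLE p 2 K → p ∈ α) (hαπ : α ⊆ π)
    (hder : ∀ (p : ℕ) [Fact p.Prime], p ∈ π → ∀ P : Sylow p K, (P : Subgroup K) ≤ commutator K) :
    IsPiHall π (piCore π K) := by
  refine ⟨CfsgLib.Base.piCore_primes π K, fun p hp hpπ hd => ?_⟩
  have := Fact.mk hp
  set C := piCore α K with hC
  have hoddQ : Odd (Nat.card (K ⧸ C)) := hodd.of_dvd_nat C.card_quotient_dvd_card
  obtain ⟨P⟩ : Nonempty (Sylow p K) := inferInstance
  refine P.not_dvd_index (hd.trans (index_dvd_of_le ?_))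
  have hmap : (P : Subgroup K).map (QuotientGroup.mk' C) ≤ pCore p (K ⧸ C) := by
    rintro _ ⟨x, hx, rfl⟩
    obtain ⟨k, hk⟩ := P.isPGroup' ⟨x, hx⟩
    refine pPower_mem_pCore_of_mem_fitting (k := k) ?_ ?_
    · refine commutator_le_fitting hoddQ
        ((fittingRankTwo_quotient_piCore hα).derivedActs hoddQ) ?_
      rw [_root_.commutator_def,
        ← map_top_of_surjective (QuotientGroup.mk' C) (QuotientGroup.mk'_surjective C),
        ← map_commutator, ← _root_.commutator_def]
      exact ⟨x, hder p hpπ P hx, rfl⟩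
    · rw [← map_pow, show x ^ p ^ k = 1 from congrArg Subtype.val hk, map_one]
  haveI := (inferInstance : (pCore p (K ⧸ C)).Normal).comap (QuotientGroup.mk' C)
  refine (map_le_iff_le_comap.1 hmap).trans (CfsgLib.Base.le_piCore fun q hq hqd => ?_)
  rw [CfsgLib.Base.card_comap_mk'] at hqd
  rcases hq.dvd_mul.1 hqd with h | h
  · exact hαπ (CfsgLib.Base.piCore_primes α K q hq h)
  · obtain ⟨j, hj⟩ := IsPGroup.iff_card.1 (CfsgLib.Base.isPGroup_pCore p (K ⧸ C))
    rwa [(Nat.prime_dvd_prime_iff_eq hq hp).1 (hq.dvd_of_dvd_pow (hj ▸ h))]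

/-- The derived group is nilpotent modulo `O_α`. -/
theorem isNilpotent_derived_quotient [Group.IsSolvable K] (hodd : Odd (Nat.card K)) {α : Set ℕ}
    (hα : ∀ p : ℕ, p.Prime → ¬ PRankLE p 2 K → p ∈ α) :
    Group.IsNilpotent ↥((commutator K).map (QuotientGroup.mk' (piCore α K))) := by
  have hoddQ : Odd (Nat.card (K ⧸ piCore α K)) :=
    hodd.of_dvd_nat (piCore α K).card_quotient_dvd_card
  rw [_root_.commutator_def, map_commutator,
    map_top_of_surjective _ (QuotientGroup.mk'_surjective _), ← _root_.commutator_def]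
  exact isNilpotent_commutator hoddQ ((fittingRankTwo_quotient_piCore hα).derivedActs hoddQ)

end Solv

/-! ### The minimal simple group -/

variable {G : Type u} [Group G] [Finite G]

theorem sylIn_le_derived (h1403 : StmtS1403.{u}) (hG : IsMinSimpleOddOrder G) {M : Subgroup G}
    (hM : IsCoatom M) {p : ℕ} [Fact p.Prime] (hp : p ∈ sigma M) {T : Subgroup G}
    (hT : SylIn p T M) : T ≤ ⁅M, M⁆ := by
  obtain ⟨S, hS⟩ := (sigma_sylIn_top hp hT).to_sylow
  haveI := minSimple_isSimple hG
  have htop : commutator G = ⊤ := by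
    refine ((commutator_normal (G := G) ⊤ ⊤).eq_bot_or_eq_top).resolve_left fun h => hG.2.2.1 ?_
    refine ⟨⟨fun a b => ?_⟩⟩
    have := commutator_mem_commutator (mem_top a) (mem_top b)
    rw [show ⁅(⊤ : Subgroup G), ⊤⁆ = ⊥ from h, mem_bot, commutatorElement_eq_one_iff_mul_comm] at this
    exact this
  have hfus : ∀ x ∈ (S : Subgroup G), ∀ g : G, g * x * g⁻¹ ∈ (S : Subgroup G) →
      ∃ k ∈ M, k * x * k⁻¹ = g * x * g⁻¹ := by
    intro x hx g hgx
    by_cases hx1 : x = 1
    · exact ⟨1, one_mem _, by simp [hx1]⟩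
    rw [hS] at hx hgx
    obtain ⟨m, hm, c, hc, rfl⟩ := exists_mul_centralizer h1403 hG hM hp (X := zpowers x) (g := g)
      (hT.isPGroup.to_le (zpowers_le.2 hx)) (by rwa [ne_eq, zpowers_eq_bot])
      (zpowers_le.2 (hT.le hx)) (by
        rw [show cj g (zpowers x) = zpowers (g * x * g⁻¹) by rw [cj, MonoidHom.map_zpowers]; rfl]
        exact zpowers_le.2 (hT.le hgx))
    refine ⟨m, hm, ?_⟩
    have := mem_centralizer_iff.1 hc x (mem_zpowers x)
    rw [show m * c * x * (m * c)⁻¹ = m * (c * x) * c⁻¹ * m⁻¹ by group, ← this]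
    group
  have h := CfsgLib.Transfer.commutator_inf_eq_of_fusion S (H := M) (hS ▸ hT.le) hfus
  rw [htop, top_inf_eq, hS] at h
  exact h.le.trans inf_le_left

theorem sylow_le_derived (h1403 : StmtS1403.{u}) (hG : IsMinSimpleOddOrder G) {M : Subgroup G}
    (hM : IsCoatom M) {p : ℕ} [Fact p.Prime] (hp : p ∈ sigma M) (P : Sylow p M) :
    (P : Subgroup M) ≤ commutator M := by
  have h := sylIn_le_derived h1403 hG hM hp (sylIn_sylow_map P)
  rw [← map_subtype_commutator] at h
  exact (map_le_map_iff_of_injective M.subtype_injective).1 h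

theorem mem_alpha_iff {M : Subgroup G} {p : ℕ} : p ∈ alpha M ↔ p.Prime ∧ ¬ PRankLE p 2 M := Iff.rfl

theorem alpha_le_sigma (h1403 : StmtS1403.{u}) (hG : IsMinSimpleOddOrder G) {M : Subgroup G}
    (hM : IsCoatom M) : alpha M ⊆ sigma M := fun p hp =>
  haveI := Fact.mk hp.1
  alpha_subset_sigma h1403 hG hM hp

/-- A Hall subgroup of `M` for a set of primes inside `σ(M)` is one of `G`. -/
theorem isPiHall_of_isPiHallOf {M H : Subgroup G} {π : Set ℕ} (hπ : π ⊆ sigma M)
    (h : IsPiHallOf π H M) : IsPiHall π H := by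
  refine ⟨h.2.1, fun p hp hpπ hd => ?_⟩
  have := Fact.mk hp
  obtain ⟨T, hT⟩ := exists_sylIn (p := p) M
  have h1 : ¬ p ∣ M.index := fun hd' => by
    have := (sigma_sylIn_top (hπ hpπ) hT).not_dvd
    rw [relIndex_top_right] at this
    exact this (hd'.trans (index_dvd_of_le hT.le))
  rw [← relIndex_mul_index h.1] at hd
  exact (hp.dvd_mul.1 hd).elim (h.2.2 p hp hpπ) h1

theorem alphaCore_le_sigmaCore (h1403 : StmtS1403.{u}) (hG : IsMinSimpleOddOrder G)
    {M : Subgroup G} (hM : IsCoatom M) : alphaCore M ≤ sigmaCore M :=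
  map_mono (CfsgLib.Base.piCore_mono (alpha_le_sigma h1403 hG hM))

theorem sigmaCore_hall (h1403 : StmtS1403.{u}) (hG : IsMinSimpleOddOrder G) {M : Subgroup G}
    (hM : IsCoatom M) : IsPiHallOf (sigma M) (sigmaCore M) M := by
  haveI := maximal_solvable hG hM
  refine CfsgLib.Coprime.piHallOf_map_subtype (isPiHall_piCore_of_derived (maximal_odd hG M)
    (α := alpha M) (fun p hp h => ⟨hp, h⟩) (alpha_le_sigma h1403 hG hM) ?_)
  intro p _ hp P
  exact sylow_le_derived h1403 hG hM hp P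

theorem alphaCore_hall (h1403 : StmtS1403.{u}) (hG : IsMinSimpleOddOrder G) {M : Subgroup G}
    (hM : IsCoatom M) : IsPiHallOf (alpha M) (alphaCore M) M := by
  haveI := maximal_solvable hG hM
  refine CfsgLib.Coprime.piHallOf_map_subtype (isPiHall_piCore_of_derived (maximal_odd hG M)
    (α := alpha M) (fun p hp h => ⟨hp, h⟩) subset_rfl ?_)
  intro p _ hp P
  exact sylow_le_derived h1403 hG hM (alpha_le_sigma h1403 hG hM hp) P

theorem sigmaCore_le (M : Subgroup G) : sigmaCore M ≤ M := map_subtype_le _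

theorem alphaCore_le (M : Subgroup G) : alphaCore M ≤ M := map_subtype_le _

theorem le_normalizer_sigmaCore (M : Subgroup G) : M ≤ normalizer (sigmaCore M : Set G) :=
  le_normalizer_piCoreOf (sigma M) M

theorem le_normalizer_alphaCore (M : Subgroup G) : M ≤ normalizer (alphaCore M : Set G) :=
  le_normalizer_piCoreOf (alpha M) M

theorem sigmaCore_le_derived (h1403 : StmtS1403.{u}) (hG : IsMinSimpleOddOrder G) {M : Subgroup G}
    (hM : IsCoatom M) : sigmaCore M ≤ ⁅M, M⁆ := by
  rw [← map_subtype_commutator]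
  refine map_mono (relIndex_eq_one.1 ?_)
  by_contra hne
  obtain ⟨p, hp, hd⟩ := Nat.exists_prime_and_dvd hne
  haveI := Fact.mk hp
  have hcard : p ∣ Nat.card (piCore (sigma M) M) := by
    refine hd.trans ?_
    rw [← relIndex_bot_left (piCore (sigma M) M)]
    exact relIndex_dvd_of_le_left _ bot_le
  obtain ⟨P⟩ : Nonempty (Sylow p M) := inferInstance
  have hle := sylow_le_derived h1403 hG hM (CfsgLib.Base.piCore_primes _ _ p hp hcard) P
  exact P.not_dvd_index ((hd.trans (relIndex_dvd_index_of_normal _ _)).trans (index_dvd_of_le hle))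

theorem derived_lt (hG : IsMinSimpleOddOrder G) {M : Subgroup G} (hM : IsCoatom M) :
    ⁅M, M⁆ < M := by
  haveI := maximal_solvable hG hM
  haveI : Nontrivial M := (nontrivial_iff_ne_bot M).2 (maximal_ne_bot hG hM)
  refine lt_of_le_of_ne (commutator_le_self M) fun h => ?_
  refine (Group.IsSolvable.commutator_lt_top_of_nontrivial (G := M)).ne
    (map_injective M.subtype_injective ?_)
  rw [map_subtype_commutator, h, ← MonoidHom.range_eq_map, range_subtype]

theorem sigmaCore_unique (h1403 : StmtS1403.{u}) (hG : IsMinSimpleOddOrder G) {M : Subgroup G}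
    (hM : IsCoatom M) {N : Subgroup G} (hn : M ≤ normalizer (N : Set G))
    (hN : IsPiHallOf (sigma M) N M) : N = sigmaCore M := by
  refine le_antisymm (le_piCoreOf hN.1 hn hN.2.1) ?_
  have hle : N ≤ sigmaCore M := le_piCoreOf hN.1 hn hN.2.1
  refine relIndex_eq_one.1 (by_contra fun hne => ?_)
  obtain ⟨p, hp, hd⟩ := Nat.exists_prime_and_dvd hne
  refine hN.2.2 p hp ((sigmaCore_hall h1403 hG hM).2.1 p hp (hd.trans ?_))
    (hd.trans (Dvd.intro _ (relIndex_mul_relIndex N (sigmaCore M) M hle (sigmaCore_le M))))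
  rw [← relIndex_bot_left (sigmaCore M)]
  exact relIndex_dvd_of_le_left _ bot_le

theorem sigmaCore_ne_bot (h1403 : StmtS1403.{u}) (hG : IsMinSimpleOddOrder G) {M : Subgroup G}
    (hM : IsCoatom M) : sigmaCore M ≠ ⊥ := by
  intro hbot
  haveI := maximal_solvable hG hM
  have hα : piCore (alpha M) M = ⊥ := by
    have := le_bot_iff.1 ((alphaCore_le_sigmaCore h1403 hG hM).trans hbot.le)
    exact (map_eq_bot_iff_of_injective _ M.subtype_injective).1 this
  have hr : FittingRankTwo M := by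
    intro p hp
    have := Fact.mk hp
    by_cases hpα : p ∈ alpha M
    · have hle : pCore p M ≤ piCore (alpha M) M := CfsgLib.Base.le_piCore fun q hq hd => by
        obtain ⟨j, hj⟩ := IsPGroup.iff_card.1 (CfsgLib.Base.isPGroup_pCore p M)
        rwa [(Nat.prime_dvd_prime_iff_eq hq hp).1 (hq.dvd_of_dvd_pow (hj ▸ hd))]
      refine CfsgLib.Base.pRankLE_of_card_le ?_
      rw [le_bot_iff.1 (hle.trans hα.le), card_bot]
      exact Nat.one_le_pow _ _ hp.pos
    · refine CfsgLib.Base.pRankLE_subgroup ?_ _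
      by_contra h
      exact hpα ⟨hp, h⟩
  have hne : Nat.card M ≠ 1 := fun e => maximal_ne_bot hG hM (card_eq_one.1 e)
  have hfin : (Nat.card M).primeFactors.Nonempty := by
    rw [Finset.nonempty_iff_ne_empty, ne_eq, Nat.primeFactors_eq_empty]
    exact not_or.2 ⟨Nat.card_pos.ne', hne⟩
  obtain ⟨p, hp, hmax⟩ := Finset.exists_max_image _ id hfin
  rw [Nat.mem_primeFactors] at hp
  haveI := Fact.mk hp.1
  obtain ⟨N, hNc, hN⟩ := exists_characteristic_hall_gt (maximal_odd hG M) hr (p - 1)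
  haveI := hNc
  have hNp : IsPGroup p N := by
    refine IsPGroup.of_card (n := (Nat.card N).primeFactorsList.length)
      (Nat.eq_prime_pow_of_unique_prime_dvd Nat.card_pos.ne' fun {d} hd hdN => ?_)
    have h1 : d ≤ p := hmax d (Nat.mem_primeFactors.2
      ⟨hd, hdN.trans N.card_subgroup_dvd_card, Nat.card_pos.ne'⟩)
    have h2 := (hN.1 d hd hdN).2
    omega
  have hN1 : ¬ p ∣ N.index := hN.2 p hp.1 ⟨hp.1, by have := hp.1.pos; omega⟩
  have hT : SylIn p (N.map M.subtype) M := sylIn_sylow_map (hNp.toSylow hN1)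
  have hTne := sylIn_ne_bot hT hp.2.1
  have hn : M ≤ normalizer ((N.map M.subtype : Subgroup G) : Set G) :=
    le_normalizer.trans (CfsgLib.Base.normalizer_le_normalizer_map_subtype M N)
  have hσ : p ∈ sigma M :=
    (mem_sigma_iff hT).2 ⟨hp.2.1, (normalizer_eq_maximal hG hM hT.le hTne hn).le⟩
  refine hTne (le_bot_iff.1 (le_trans (le_piCoreOf hT.le hn fun q hq hd => ?_) hbot.le))
  obtain ⟨j, hj⟩ := IsPGroup.iff_card.1 hT.isPGroup
  rwa [(Nat.prime_dvd_prime_iff_eq hq hp.1).1 (hq.dvd_of_dvd_pow (hj ▸ hd))]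

theorem rankLE_quotient_alphaCore (h1403 : StmtS1403.{u}) (hG : IsMinSimpleOddOrder G)
    {M : Subgroup G} (hM : IsCoatom M) : RankLE 2 (↥M ⧸ piCore (alpha M) ↥M) := by
  intro p hp
  have := Fact.mk hp
  by_cases hpα : p ∈ alpha M
  · obtain ⟨S⟩ : Nonempty (Sylow p (↥M ⧸ piCore (alpha M) ↥M)) := inferInstance
    refine (CfsgLib.Base.pRankLE_iff_sylow S).2 (CfsgLib.Base.pRankLE_of_card_le ?_)
    have h := (CfsgLib.Coprime.piHallOf_iff.1 (alphaCore_hall h1403 hG hM)).2.2 p hp hpα
    rw [alphaCore, ← comap_subtype, comap_map_eq_self_of_injective M.subtype_injective] at h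
    obtain ⟨j, hj⟩ := IsPGroup.iff_card.1 S.isPGroup'
    rcases Nat.eq_zero_or_pos j with rfl | hj0
    · rw [hj, pow_zero]; exact Nat.one_le_pow _ _ hp.pos
    · refine absurd ?_ h
      rw [index_eq_card]
      exact (hj ▸ dvd_pow_self p hj0.ne').trans (card_subgroup_dvd_card _)
  · refine pRankLE_quotient_of_not_dvd _ (fun h => hpα (CfsgLib.Base.piCore_primes _ _ p hp h)) ?_
    by_contra h
    exact hpα ⟨hp, h⟩

end CfsgLib.FT
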