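import Cfsg.Agent.Lib.FT.Maximal
import Cfsg.Agent.Lib.OddOrder.SmallRankSolvable

/-!
Fusion of `p`-subgroups of a maximal subgroup `M` for `p ∈ σ(M)` (BG, Theorem 10.1).
-/

set_option autoImplicit false
set_option linter.style.haveILetI false

universe u

namespace CfsgLib.FT

open Cfsg CfsgLib.OddOrder CfsgLib.Techniques Subgroup

/-- Frattini decomposition when `O_{p',p}` has index prime to `p`. -/
theorem exists_eq_mul_of_index_coprime {L : Type*} [Group L] [Finite L] {p : ℕ} [Fact p.Prime]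
    (h : ((pPrimePCore p L).index).Coprime p) (P : Sylow p L) (x : L) :
    ∃ o ∈ pPrimeCore p L, ∃ n ∈ normalizer ((P : Subgroup L) : Set L), x = o * n := by
  set T := pPrimePCore p L with hT
  haveI hTn : T.Normal := CfsgLib.PLocal.pPrimePCore_normal p L
  have hPT : (P : Subgroup L) ≤ T := by
    obtain ⟨k, hk⟩ := IsPGroup.iff_card.1 (P.isPGroup'.map (QuotientGroup.mk' T))
    have hd : Nat.card ((P : Subgroup L).map (QuotientGroup.mk' T)) ∣ T.index :=
      card_subgroup_dvd_card _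
    rw [← CfsgLib.Base.map_mk'_eq_bot_iff (N := T)]
    exact eq_bot_of_card_eq _ (Nat.eq_one_of_dvd_coprimes (h.pow_right k) hd (hk ▸ dvd_rfl))
  have hle : T ≤ (P : Subgroup L) ⊔ pPrimeCore p L := by
    rw [← CfsgLib.Base.comap_map_mk', hT, pPrimePCore]
    exact comap_mono (CfsgLib.Base.pCore_le_sylow
      (P.mapSurjective (QuotientGroup.mk'_surjective (pPrimeCore p L))))
  obtain ⟨a, ha, c, hc, rfl⟩ := SylIn.frattini (sylIn_top P) (le_top : T ≤ ⊤)
    (le_normalizer_of_normal.trans' le_top) (mem_top x)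
  have ha' : a ∈ normalizer ((P : Subgroup L) : Set L) := by
    have := ha.2
    rwa [inf_eq_left.2 hPT] at this
  have hc' : c ∈ ((pPrimeCore p L ⊔ (P : Subgroup L) : Subgroup L) : Set L) := by
    rw [sup_comm]; exact hle hc
  rw [Subgroup.normal_mul, Set.mem_mul] at hc'
  obtain ⟨o, ho, q, hq, rfl⟩ := hc'
  exact ⟨o, ho, q * a, mul_mem (le_normalizer hq) ha', by group⟩

variable {G : Type u} [Group G] [Finite G] {p : ℕ} [Fact p.Prime]

/-- A conjugate of `M` containing a `p`-subgroup `X`, with its Sylow subgroup. -/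
theorem exists_sigma_sylow_cj {M X : Subgroup G} (hp : p ∈ sigma M) (g : G) (hX : IsPGroup p X)
    (hXg : X ≤ cj g M) : ∃ T, X ≤ T ∧ SylIn p T (cj g M) ∧ SylIn p T ⊤ ∧
      normalizer (T : Set G) ≤ cj g M := by
  obtain ⟨T, hT, hXT⟩ := exists_sylIn_ge (p := p) hX hXg
  have hT' : SylIn p (cj g⁻¹ T) M := by
    have := hT.cj' g⁻¹
    rwa [cj_inv_cj] at this
  refine ⟨T, hXT, hT, ?_, ?_⟩
  · have htop : cj g (⊤ : Subgroup G) = ⊤ := map_top_of_surjective _ (MulAut.conj g).surjective
    have := (sigma_sylIn_top hp hT').cj' g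
    rwa [cj_cj_inv, htop] at this
  · have := cj_mono (g := g) (sigma_normalizer_le hp hT')
    rwa [cj_normalizer, cj_cj_inv] at this

/-- BG Theorem 10.1 (b): `C_G(X)` is transitive on the conjugates of `M` containing `X`. -/
theorem exists_centralizer_cj_eq (h1403 : StmtS1403.{u}) (hG : IsMinSimpleOddOrder G)
    {M : Subgroup G} (hM : IsCoatom M) (hp : p ∈ sigma M) :
    ∀ (n : ℕ) (X : Subgroup G), Nat.card G ≤ Nat.card X + n → IsPGroup p X → X ≠ ⊥ →
      ∀ g h : G, X ≤ cj g M → X ≤ cj h M →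
        ∃ c ∈ centralizer (X : Set G), cj c (cj g M) = cj h M := by
  intro n
  induction n with
  | zero =>
    intro X hn hX _ g h _ _
    exact absurd (eq_top_of_card_eq _ (le_antisymm (card_le_card_group X) (by simpa using hn)))
      (isPGroup_ne_top hG hX)
  | succ n ih =>
    intro X hn hX hX1 g h hg hh
    obtain ⟨T₁, hXT₁, hT₁, hT₁top, hN₁⟩ := exists_sigma_sylow_cj hp g hX hg
    obtain ⟨T₂, hXT₂, hT₂, hT₂top, -⟩ := exists_sigma_sylow_cj hp h hX hh
    rcases eq_or_lt_of_le hXT₁ with e₁ | lt₁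
    · -- `X` is a Sylow subgroup
      have e₂ : X = T₂ :=
        ((hT₁top.of_card hX le_top (e₁ ▸ le_rfl)).eq_of_le hT₂top.isPGroup hXT₂ le_top).symm
      set k := h * g⁻¹ with hk
      have hkM : cj k (cj g M) = cj h M := by rw [← cj_mul, hk, inv_mul_cancel_right]
      have hX' : SylIn p (cj k⁻¹ X) (cj g M) := by
        have := (e₂ ▸ hT₂).cj' k⁻¹
        rwa [← hkM, cj_inv_cj] at this
      obtain ⟨m, hm, he⟩ := (e₁ ▸ hT₁ : SylIn p X (cj g M)).exists_conj_eq hX'
      rw [← cj_mul] at he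
      have hmk : m * k⁻¹ ∈ cj g M := hN₁ (e₁ ▸ mem_normalizer_iff_cj.2 he)
      have hkg : k ∈ cj g M := by
        have := mul_mem (inv_mem hmk) hm
        rwa [mul_inv_rev, inv_inv, inv_mul_cancel_right] at this
      exact ⟨1, one_mem _, by rw [cj_one, ← hkM, cj_eq_self_of_mem hkg]⟩
    · rcases eq_or_lt_of_le hXT₂ with e₂ | lt₂
      · exact absurd ((e₂.symm ▸ hT₂top : SylIn p X ⊤).eq_of_le hT₁top.isPGroup hXT₁ le_top).symm
          lt₁.ne
      set L := normalizer (X : Set G) with hL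
      have hLtop : L ≠ ⊤ := minSimple_normalizer_ne_top hG hX1 (isPGroup_ne_top hG hX)
      have h1 := lt_inf_normalizer' hT₁top.isPGroup lt₁
      have h2 := lt_inf_normalizer' hT₂top.isPGroup lt₂
      obtain ⟨Q₁, hQ₁, hRQ₁⟩ := exists_sylIn_ge (p := p)
        (hT₁top.isPGroup.to_le (inf_le_left : T₁ ⊓ L ≤ T₁)) inf_le_right
      obtain ⟨Q₂, hQ₂, hRQ₂⟩ := exists_sylIn_ge (p := p)
        (hT₂top.isPGroup.to_le (inf_le_left : T₂ ⊓ L ≤ T₂)) inf_le_right
      obtain ⟨l, hl, hlQ⟩ := hQ₂.exists_conj_eq hQ₁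
      obtain ⟨y, -, hy⟩ := hT₁top.exists_conj hQ₁.isPGroup le_top
      set f := y⁻¹ * g with hf
      have hQf : Q₁ ≤ cj f M := by
        have := cj_mono (g := y⁻¹) (hy.trans hT₁.le)
        rwa [cj_inv_cj, ← cj_mul] at this
      have step : ∀ R : Subgroup G, X < R → IsPGroup p R → ∀ a b : G, R ≤ cj a M → R ≤ cj b M →
          ∃ c ∈ centralizer (X : Set G), cj c (cj a M) = cj b M := by
        intro R hXR hR a b ha hb
        have hR1 : R ≠ ⊥ := fun e => hX1 (le_bot_iff.1 (e ▸ hXR.le))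
        obtain ⟨c, hc, e⟩ := ih R (by have := card_lt_of_lt hXR; omega) hR hR1 a b ha hb
        exact ⟨c, centralizer_le hXR.le hc, e⟩
      obtain ⟨c₁, hc₁, e₁⟩ := step _ h1 (hT₁top.isPGroup.to_le inf_le_left) g f
        (inf_le_left.trans hT₁.le) (hRQ₁.trans hQf)
      obtain ⟨c₂, hc₂, e₂⟩ := step _ h2 (hT₂top.isPGroup.to_le inf_le_left) (l * f) h
        (hRQ₂.trans (by rw [← hlQ, cj_mul]; exact cj_mono hQf)) (inf_le_left.trans hT₂.le)
      -- the element `l` of `N(X)` moves `cj f M` inside its `C(X)`-orbit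
      obtain ⟨c, hc, hcl⟩ : ∃ c ∈ centralizer (X : Set G), cj c (cj f M) = cj (l * f) M := by
        by_cases hr : PRankLE p 2 L
        · haveI := minSimple_solvable hG hLtop
          have hp2 : p ≠ 2 := sigma_odd hG hp.2.1
          have hind := pPrimePCore_index
            (smallRank_core (G := L) (maximal_odd hG L) hp2 hr).1
          obtain ⟨P, hP⟩ := exists_sylow_of_sylIn hQ₁
          obtain ⟨o, ho, m, hm, he⟩ := exists_eq_mul_of_index_coprime hind P ⟨l, hl⟩
          have hoX : (o : G) ∈ centralizer (X : Set G) := by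
            haveI : (X.subgroupOf L).Normal :=
              normal_subgroupOf_of_le_normalizer le_rfl
            have hXL : IsPGroup p (X.subgroupOf L) := hX.comap_subtype
            obtain ⟨k, hk⟩ := IsPGroup.iff_card.1 hXL
            have hd : pPrimeCore p L ⊓ X.subgroupOf L = ⊥ := CfsgLib.Base.inf_eq_bot_of_coprime
              (by rw [hk]; exact (CfsgLib.Base.pPrimeCore_coprime p L).pow_right k)
            have := CfsgLib.Base.le_centralizer_of_normal_disjoint hd ho
            refine mem_centralizer_iff.2 fun x hx => ?_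
            exact congrArg Subtype.val
              (mem_centralizer_iff.1 this ⟨x, le_normalizer hx⟩ (mem_subgroupOf.2 hx))
          have hQn : Q₁ ≤ cj ((m : G) * f) M := by
            have hmQ : (m : G) ∈ normalizer (Q₁ : Set G) := by
              rw [← hP]
              exact CfsgLib.Techniques.mem_normalizer_iff_cj.2 (by
                have h3 := CfsgLib.Techniques.mem_normalizer_iff_cj.1 hm
                conv_rhs => rw [← h3]
                rw [cj, cj, Subgroup.map_map, Subgroup.map_map]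
                rfl)
            rw [← mem_normalizer_iff_cj.1 hmQ, cj_mul]
            exact cj_mono hQf
          obtain ⟨c₃, hc₃, e₃⟩ := step Q₁ (h1.trans_le hRQ₁) hQ₁.isPGroup f ((m : G) * f) hQf hQn
          refine ⟨(o : G) * c₃, mul_mem hoX hc₃, ?_⟩
          rw [show l = (o : G) * m from congrArg Subtype.val he, mul_assoc, cj_mul (o : G) c₃, e₃,
            ← cj_mul]
        · have hu : InUniqueMaximal Q₁ := inUniqueMaximal_of_pRank h1403 hG Fact.out
            (isPGroup_ne_top hG hQ₁.isPGroup) fun e => hr ((pRankLE_iff_sylIn hQ₁).2 e)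
          have hLf : L ≤ cj f M :=
            le_of_inUniqueMaximal hu (isCoatom_cj hM f) hQf hQ₁.le hLtop
          exact ⟨1, one_mem _, by rw [cj_one, cj_mul l f, cj_eq_self_of_mem (hLf hl)]⟩
      exact ⟨c₂ * c * c₁, mul_mem (mul_mem hc₂ hc) hc₁, by rw [cj_mul, cj_mul, e₁, hcl, e₂]⟩

/-- BG Theorem 10.1 (a). -/
theorem exists_mul_centralizer (h1403 : StmtS1403.{u}) (hG : IsMinSimpleOddOrder G)
    {M : Subgroup G} (hM : IsCoatom M) (hp : p ∈ sigma M) {X : Subgroup G} (hX : IsPGroup p X)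
    (hX1 : X ≠ ⊥) (hXM : X ≤ M) {g : G} (hg : cj g X ≤ M) :
    ∃ m ∈ M, ∃ c ∈ centralizer (X : Set G), g = m * c := by
  have h1 : X ≤ cj g⁻¹ M := by
    have := cj_mono (g := g⁻¹) hg
    rwa [cj_inv_cj] at this
  obtain ⟨c, hc, e⟩ := exists_centralizer_cj_eq h1403 hG hM hp (Nat.card G) X
    (Nat.le_add_left _ _) hX hX1 1 g⁻¹ (by rwa [cj_one]) h1
  rw [cj_one] at e
  refine ⟨g * c, mem_maximal_of_cj_eq hG hM ?_, c⁻¹, inv_mem hc, by group⟩
  rw [cj_mul, e, cj_cj_inv]

theorem normalizer_eq_mul_centralizer (h1403 : StmtS1403.{u}) (hG : IsMinSimpleOddOrder G)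
    {M : Subgroup G} (hM : IsCoatom M) (hp : p ∈ sigma M) {X : Subgroup G} (hX : IsPGroup p X)
    (hX1 : X ≠ ⊥) (hXM : X ≤ M) :
    normalizer (X : Set G) = (M ⊓ normalizer (X : Set G)) ⊔ centralizer (X : Set G) := by
  have hCN : centralizer (X : Set G) ≤ normalizer (X : Set G) := fun c hc =>
    mem_normalizer_iff_cj.2 (by
      refine le_antisymm (cj_le_iff.2 fun x hx => ?_) fun x hx => ?_
      · rw [← mem_centralizer_iff.1 hc x hx, mul_inv_cancel_right]; exact hx
      · rw [mem_cj, ← mem_centralizer_iff.1 (inv_mem hc) x hx, inv_mul_cancel_right]; exact hx)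
  refine le_antisymm (fun g hg => ?_) (sup_le inf_le_right hCN)
  obtain ⟨m, hm, c, hc, rfl⟩ := exists_mul_centralizer h1403 hG hM hp hX hX1 hXM
    ((mem_normalizer_iff_cj.1 hg).le.trans hXM)
  refine mul_mem_sup ⟨hm, ?_⟩ hc
  have := mul_mem hg (inv_mem (hCN hc))
  rwa [mul_inv_cancel_right] at this

end CfsgLib.FT
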