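import Cfsg.Agent.Lib.FT.PF8
import Cfsg.Agent.Lib.FT.DadeCover
import Cfsg.Agent.Lib.Chars.FrobGroup
import Cfsg.Agent.Lib.CharsMore.CoherenceKernel
import Cfsg.Agent.Lib.Coprime.Action
import Cfsg.Agent.Lib.Base.FPF
import Cfsg.Agent.Lib.Base.MinimalNormal
import Cfsg.Agent.S1514

/-!
# Coherence for a Frobenius maximal subgroup of Type I (Peterfalvi 6.5/6.8 applied)
-/

set_option autoImplicit false
set_option linter.style.haveILetI false
set_option linter.unusedSectionVars false

namespace CfsgLib.FT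

open _root_.Subgroup Cfsg CfsgLib.Chars CfsgLib.CharsMore
open scoped ComplexConjugate

universe u

/-- The coherence theorem for a TI Frobenius kernel (Peterfalvi 6.8). -/
def StmtS1524.{v} : Prop :=
  ∀ {G : Type v} [Group G] [Fintype G] (H L W₁ : Subgroup G) [Fintype L] (_hodd : Odd (Nat.card L))
    (_hHL : H ≤ L) (_hW₁L : W₁ ≤ L) (_hH1 : H ≠ ⊥) (_hW1 : W₁ ≠ ⊥) (_hnil : Group.IsNilpotent H)
    (_hHn : ∀ x ∈ L, ∀ h ∈ H, x * h * x⁻¹ ∈ H) (_hinf : H ⊓ W₁ = ⊥) (_hsup : H ⊔ W₁ = L)
    (_hfpf : ∀ w ∈ W₁, w ≠ 1 → ∀ h ∈ H, w * h = h * w → h = 1) (_hTI : Cfsg.IsTISubset (H : Set G))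
    (_hN : Subgroup.normalizer (H : Set G) = L),
    Cfsg.IsCoherent (Cfsg.inducedIrrAbove (H.subgroupOf L) ⊥) {1}ᶜ
      (fun α : L → ℂ => Cfsg.indFun L α)

variable {G : Type u} [Group G] [Fintype G]

theorem dadeIsometry_add (A : Set G) (L : Subgroup G) (R : G → Subgroup G) (α β : L → ℂ) :
    dadeIsometry A L R (α + β) = dadeIsometry A L R α + dadeIsometry A L R β := by
  funext g
  simp only [dadeIsometry, Pi.add_apply]
  split <;> simp

theorem dadeIsometry_zsmul (A : Set G) (L : Subgroup G) (R : G → Subgroup G) (n : ℤ) (α : L → ℂ) :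
    dadeIsometry A L R (n • α) = n • dadeIsometry A L R α := by
  funext g
  simp only [dadeIsometry, Pi.smul_apply]
  split <;> simp

/-- The Dade map is a linear isometry on generalized characters supported in `A`. -/
theorem isLinearIsometryOn_dade {A : Set G} {L : Subgroup G} [Fintype L] {R : G → Subgroup G}
    (hD : DadeHypothesis A L R) {E : Set (L → ℂ)}
    (hgen : ∀ α ∈ E, IsGeneralizedCharacter L α) (hsupp : ∀ α ∈ E, ∀ x : L, (x : G) ∉ A → α x = 0) :
    IsLinearIsometryOn E (dadeIsometry A L R) :=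
  ⟨fun α _ β _ => dadeIsometry_add A L R α β, fun α _ n => dadeIsometry_zsmul A L R n α,
    fun α hα β hβ => inner_dadeIsometry_dadeIsometry hD (isClassFunction_of_isGeneralized (hgen α hα))
      (hsupp α hα) (isClassFunction_of_isGeneralized (hgen β hβ)),
    fun α hα => isGeneralized_dadeIsometry hD (hgen α hα) (hsupp α hα)⟩

theorem dadeIsometry_one {A : Set G} {L : Subgroup G} {R : G → Subgroup G}
    (hD : DadeHypothesis A L R) (α : L → ℂ) : dadeIsometry A L R α 1 = 0 :=
  dadeIsometry_eq_zero hD fun ⟨_, ha, hw⟩ => not_dadeWit_one hD ha hw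

/-- For a TI subgroup with normaliser `L` the Dade map is induction. -/
theorem dadeIsometry_eq_indFun {H L : Subgroup G} [Fintype L] (hHL : H ≤ L)
    (hTI : IsTISubset (H : Set G)) (hN : normalizer (H : Set G) = L) {R : G → Subgroup G}
    (hD : DadeHypothesis ((H : Set G) \ {1}) L R)
    (hR : ∀ a ∈ (H : Set G) \ {1}, R a = ⊥) {α : L → ℂ} (hα : IsClassFunction L α)
    (hsupp : ∀ x : L, (x : G) ∉ (H : Set G) \ {1} → α x = 0) :
    dadeIsometry ((H : Set G) \ {1}) L R α = indFun L α := by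
  classical
  funext g
  by_cases hw : ∃ a ∈ (H : Set G) \ {1}, DadeWit R g a
  · obtain ⟨a, ha, x, u, hu, e⟩ := hw
    rw [dadeIsometry_apply hD hα ⟨a, hHL ha.1⟩ ha hu e]
    rw [hR a ha, mem_bot] at hu
    rw [hu, mul_one] at e
    have hterm : ∀ y : G, extendByZero L α (y⁻¹ * g * y) =
        if x * y ∈ L then α ⟨a, hHL ha.1⟩ else 0 := by
      intro y
      have hy : y⁻¹ * g * y = (x * y)⁻¹ * a * (x * y) := by rw [← e]; group
      rw [hy]
      split_ifs with h
      · rw [extendByZero_of_mem L α (L.mul_mem (L.mul_mem (L.inv_mem h) (hHL ha.1)) h),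
          ← hα ⟨a, hHL ha.1⟩ ⟨(x * y)⁻¹, L.inv_mem h⟩]
        congr 1
        exact Subtype.ext (by simp)
      · by_cases hm : (x * y)⁻¹ * a * (x * y) ∈ L
        · rw [extendByZero_of_mem L α hm]
          refine hsupp _ fun hA => h ?_
          have hn : (x * y)⁻¹ ∈ L := by
            by_contra hc
            rw [← hN] at hc
            exact ha.2 (hTI _ hc a ha.1 (by rw [inv_inv]; exact hA.1))
          exact inv_inv (x * y) ▸ L.inv_mem hn
        · exact extendByZero_of_not_mem L α hm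
    rw [indFun_apply, Finset.sum_congr rfl fun y _ => hterm y, Finset.sum_ite, Finset.sum_const_zero,
      add_zero, Finset.sum_const, nsmul_eq_mul, ← mul_assoc]
    have hc : (Finset.univ.filter fun y : G => x * y ∈ L).card = Nat.card L := by
      rw [← Fintype.card_subtype, ← Nat.card_eq_fintype_card]
      exact Nat.card_congr ((Equiv.mulLeft x).subtypeEquiv fun y => Iff.rfl)
    rw [hc, inv_mul_cancel₀ (Nat.cast_ne_zero.mpr Nat.card_pos.ne'), one_mul]
  · rw [dadeIsometry_eq_zero hD hw, indFun_apply, Finset.sum_eq_zero, mul_zero]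
    intro y _
    by_cases hm : y⁻¹ * g * y ∈ L
    · rw [extendByZero_of_mem L α hm]
      refine hsupp _ fun hA => hw ⟨_, hA, y⁻¹, 1, (R _).one_mem, ?_⟩
      simp
    · exact extendByZero_of_not_mem L α hm

/-- The odd Frobenius complement has order equal to its exponent. -/
theorem exponent_eq_card_of_fpf {A V : Subgroup G} (h : Base.IsFPF A V) (hV : V ≠ ⊥)
    (hodd : Odd (Nat.card A)) : Monoid.exponent A = Nat.card A := by
  haveI : IsZGroup A := ⟨fun p hp P => by
    haveI := Fact.mk hp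
    refine (h.isCyclic_or_quaternion hV (P : Subgroup A) P.isPGroup').resolve_right ?_
    rintro ⟨rfl, n, -, ⟨e⟩⟩
    haveI : NeZero (2 ^ n) := ⟨pow_ne_zero n two_ne_zero⟩
    refine (Nat.not_even_iff_odd.mpr hodd) (even_iff_two_dvd.mpr
      (dvd_trans ?_ (Subgroup.card_subgroup_dvd_card (P : Subgroup A))))
    rw [Nat.card_congr e.toEquiv, Nat.card_eq_fintype_card, QuaternionGroup.card]
    exact Dvd.intro _ (by ring : 2 * (2 * 2 ^ n) = 4 * 2 ^ n)⟩
  exact IsZGroup.exponent_eq_card A

/-- Peterfalvi: a Frobenius maximal subgroup of Type I gives a coherent family. -/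
theorem stmtS1542_of (F : LocalFacts8.{u}) (h1524 : StmtS1524.{u}) : StmtS1542.{u} := by
  intro G _ _ hG L _ hL hI hfrob
  classical
  have hodd : Odd (Nat.card G) := CfsgLib.OddOrder.minSimple_odd hG
  have hoddL : Odd (Nat.card L) := hodd.of_dvd_nat (card_subgroup_dvd_card L)
  haveI := CfsgLib.OddOrder.minSimple_isSimple hG
  have hI' := hI
  obtain ⟨⟨hsol, -, hK1, hK2, U, hU1, hUc, -, -⟩, hcase⟩ := hI
  haveI := hsol
  set K := fittingHall L with hKdef
  haveI : K.Normal := fittingHall_normal L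
  obtain ⟨hnil, hhall⟩ := CfsgLib.OddOrder.fittingHall_nilpotent_hall L
  have hHL : fittingHallOf L ≤ L := CfsgLib.OddOrder.fittingHallOf_le L
  have hcent : ∀ k ∈ K, k ≠ 1 → ∀ x : L, x * k = k * x → x ∈ K := by
    intro k hk hk1 x hx
    obtain ⟨y, hy, hyx⟩ := hfrob k ⟨k, hk, rfl⟩ (fun e => hk1 (Subtype.ext e))
      ⟨x.2, mem_centralizer_singleton_iff.mpr (congrArg Subtype.val hx)⟩
    exact Subtype.ext hyx ▸ hy
  have hfpf : ∀ u ∈ U, u ≠ 1 → ∀ k ∈ K, u * k = k * u → k = 1 := by
    intro u hu hu1 k hk huk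
    by_contra hk1
    exact hu1 (Subgroup.disjoint_def.mp hUc.disjoint (hcent k hk hk1 u huk) hu)
  have hsupT : K ⊔ U = ⊤ := hUc.sup_eq_top
  set S := inducedIrrAbove K ⊥ with hS
  have hirr : ∀ χ ∈ S, IsIrrCharacter L χ := by
    rintro χ ⟨θ, hθ, hθ1, -, rfl⟩
    exact isIrr_indFun_of_fpf hsupT hfpf hθ hθ1
  refine ⟨hirr, ?_⟩
  haveI := Fintype.ofFinite K
  have hKi : K.index ≠ 1 := fun h => hK2 (index_eq_one.mp h)
  have hconj : ∀ χ ∈ S, conjFun χ ∈ S ∧ conjFun χ ≠ χ := by
    intro χ hχ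
    refine ⟨inducedIrrAbove_conj K hχ, fun e => ?_⟩
    have hreal : ∀ g, (χ g).im = 0 := fun g => Complex.conj_eq_iff_im.mp (congrFun e g)
    have h1 : χ 1 = 1 :=
      congrFun (congrArg Subtype.val (eq_principal_of_real_of_odd hoddL ⟨χ, hirr χ hχ⟩ hreal)) 1
    obtain ⟨θ, hθ, -, -, rfl⟩ := hχ
    rw [indFun_deg K (isCharacter_of_irr hθ)] at h1
    exact hKi (Nat.eq_one_of_mul_eq_one_right (by exact_mod_cast h1))
  have hgenS : ∀ α ∈ zspan S, IsGeneralizedCharacter L α := fun α hα =>
    mem_genChar.mp ((Submodule.span_le.mpr fun χ hχ => genChar_of_irr (hirr χ hχ)) hα)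
  have hsuppS : ∀ α ∈ zspan S, ∀ x : L, x ∉ K → α x = 0 := by
    intro α hα x hx
    change α ∈ Submodule.span ℤ S at hα
    induction hα using Submodule.span_induction with
    | mem χ hχ =>
      obtain ⟨θ, -, -, -, rfl⟩ := hχ
      rw [indFun_apply, Finset.sum_eq_zero, mul_zero]
      intro y _
      refine extendByZero_of_not_mem K θ fun h => hx ?_
      have h2 := (inferInstance : K.Normal).conj_mem _ h y
      simpa [mul_assoc] using h2
    | zero => rfl
    | add a b _ _ ha hb => rw [Pi.add_apply, ha, hb, add_zero]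
    | smul n a _ ha => rw [Pi.smul_apply, ha, smul_zero]
  -- the set `A(L)` is `H^#`
  have hA : typeA L = (fittingHallOf L : Set G) \ {1} := by
    rw [typeA, if_pos hI']
    ext a
    constructor
    · rintro ⟨ha, ha1, x, hx, hx1, hc⟩
      exact ⟨hfrob x hx hx1 ⟨ha, mem_centralizer_singleton_iff.mpr hc⟩, ha1⟩
    · rintro ⟨ha, ha1⟩
      exact ⟨hHL ha, ha1, a, ha, ha1, rfl⟩
  have hD : DadeHypothesis ((fittingHallOf L : Set G) \ {1}) L (supportR L) :=
    hA ▸ dadeHypothesis_typeSet F hG hL (Or.inr (Or.inl rfl))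
  rw [hA]
  have hsupp' : ∀ α ∈ zspanOn S {1}ᶜ, ∀ x : L, (x : G) ∉ (fittingHallOf L : Set G) \ {1} → α x = 0 := by
    intro α hα x hx
    by_cases hx1 : x = 1
    · exact hα.2 x (by simp [hx1])
    refine hsuppS α hα.1 x fun hxK => hx ⟨⟨x, hxK, rfl⟩, fun e => hx1 (Subtype.ext e)⟩
  have hiso : IsLinearIsometryOn (zspanOn S {1}ᶜ)
      (dadeIsometry ((fittingHallOf L : Set G) \ {1}) L (supportR L)) :=
    isLinearIsometryOn_dade hD (fun α hα => hgenS α hα.1) hsupp'
  have hcardFH : Nat.card (fittingHallOf L) = Nat.card K := CfsgLib.Base.card_map_subtype _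
  by_cases hTI : IsTISubset (fittingHallOf L : Set G)
  · -- Peterfalvi (6.8)
    have hne : fittingHallOf L ≠ ⊥ := fun h =>
      hK1 ((map_eq_bot_iff_of_injective _ L.subtype_injective).mp h)
    have hN : normalizer (fittingHallOf L : Set G) = L := by
      refine (hL.le_iff.mp (CfsgLib.OddOrder.le_normalizer_fittingHallOf L)).resolve_left
        (CfsgLib.OddOrder.minSimple_normalizer_ne_top hG hne fun h => hL.1 ?_)
      exact top_le_iff.mp (h ▸ hHL)
    obtain ⟨hne0, τ₁, hτ₁, hag⟩ := h1524 (fittingHallOf L) L (U.map L.subtype) hoddL hHL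
      (map_subtype_le U) hne (fun h => hU1 ((map_eq_bot_iff_of_injective _ L.subtype_injective).mp h))
      (CfsgLib.OddOrder.isNilpotent_fittingHallOf L)
      (fun x hx h hh => (mem_normalizer_iff.mp (CfsgLib.OddOrder.le_normalizer_fittingHallOf L hx) h).mp hh)
      (by rw [fittingHallOf, ← map_inf _ _ _ L.subtype_injective, disjoint_iff.mp hUc.disjoint,
            Subgroup.map_bot])
      (by rw [fittingHallOf, ← Subgroup.map_sup, hsupT, ← MonoidHom.range_eq_map, range_subtype])
      (by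
        rintro _ ⟨w, hw, rfl⟩ hw1 _ ⟨k, hk, rfl⟩ hwk
        rw [hfpf w hw (fun e => hw1 (by rw [e, map_one])) k hk (Subtype.ext hwk), map_one])
      hTI hN
    have hK' : (fittingHallOf L).subgroupOf L = K := by
      rw [fittingHallOf, subgroupOf, comap_map_eq_self_of_injective L.subtype_injective]
    rw [hK'] at hne0 hτ₁ hag
    refine ⟨hne0, τ₁, hτ₁, fun α hα => ?_⟩
    rw [dadeIsometry_eq_indFun hHL hTI hN hD (fun a ha => ?_)
      (isClassFunction_of_isGeneralized (hgenS α hα.1)) (hsupp' α hα), hag α hα]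
    refine supportR_of_le fun c hc => ?_
    by_contra hcL
    rw [← hN] at hcL
    refine ha.2 (hTI c hcL a ha.1 ?_)
    rw [mem_centralizer_singleton_iff.mp hc, mul_inv_cancel_right]
    exact ha.1
  · -- Peterfalvi (6.5)
    have hKs : Group.IsSolvable K := inferInstance
    have hSne : S.Nonempty := inducedIrrAbove_nonempty K hKs (bot_lt_iff_ne_bot.mpr hK1)
    obtain ⟨R, hR⟩ := Cfsg.Agent.S1514.result S hSne hirr hconj _ hiso
      fun α _ => dadeIsometry_one hD α
    haveI : ((⊥ : Subgroup L).subgroupOf K).Normal := inferInstance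
    haveI := hnil
    refine coherent_kernel hKs hR hoddL bot_le inferInstance (H₁ := ⁅K, K⁆) (by rw [sup_bot_eq])
      (CfsgLib.Base.commutator_self_lt_of_isSolvable hK1 hKs) ?_ ?_
    · intro k hk hk1 x hx
      obtain ⟨k', hk', u, hu, rfl⟩ : ∃ k' ∈ K, ∃ u ∈ U, k' * u = x := by
        have hx' : x ∈ ((K ⊔ U : Subgroup L) : Set L) := hsupT ▸ mem_top x
        rwa [normal_mul, Set.mem_mul] at hx'
      by_cases hu1 : u = 1
      · subst hu1; rwa [mul_one]
      exfalso
      haveI : (⁅K, K⁆ : Subgroup L).Normal := commutator_normal K K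
      have hkc : k'⁻¹ * k * k' * k⁻¹ ∈ ⁅K, K⁆ := by
        have h := commutator_mem_commutator (K.inv_mem hk') hk
        rwa [commutatorElement_def, inv_inv] at h
      have huk : u * k * u⁻¹ * k⁻¹ ∈ ⁅K, K⁆ := by
        have h := mul_mem ((inferInstance : (⁅K, K⁆ : Subgroup L).Normal).conj_mem _ hx k'⁻¹) hkc
        rwa [show k'⁻¹ * (k' * u * k * (k' * u)⁻¹ * k⁻¹) * k'⁻¹⁻¹ * (k'⁻¹ * k * k' * k⁻¹) =
          u * k * u⁻¹ * k⁻¹ by group] at h
      have hUn : zpowers u ≤ normalizer ((⁅K, K⁆ : Subgroup L) : Set L) := by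
        rw [normalizer_eq_top]; exact le_top
      have hUK : (Nat.card U).Coprime (Nat.card K) := by
        rw [← hUc.symm.index_eq_card]
        exact hhall.symm
      obtain ⟨c, hc, hkc'⟩ := Coprime.exists_centralizing_in_coset hUn
        ((hUK.coprime_dvd_left (card_dvd_of_le (zpowers_le.mpr hu))).coprime_dvd_right
          (card_dvd_of_le (commutator_le_self K))) (Or.inr inferInstance) (k := k) (fun a ha => by
          have hstep : ∀ a ∈ zpowers u, QuotientGroup.mk' (⁅K, K⁆ : Subgroup L) (a * k * a⁻¹) =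
              QuotientGroup.mk' (⁅K, K⁆ : Subgroup L) k := by
            intro a ha
            obtain ⟨n, rfl⟩ := mem_zpowers_iff.mp ha
            have hu' : Commute (QuotientGroup.mk' (⁅K, K⁆ : Subgroup L) u)
                (QuotientGroup.mk' (⁅K, K⁆ : Subgroup L) k) := by
              have h := (QuotientGroup.eq_one_iff (N := (⁅K, K⁆ : Subgroup L)) _).mpr huk
              change QuotientGroup.mk' (⁅K, K⁆ : Subgroup L) (u * k * u⁻¹ * k⁻¹) = 1 at h
              rw [map_mul, map_mul, map_mul, map_inv, map_inv] at h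
              exact mul_inv_eq_iff_eq_mul.mp (mul_inv_eq_one.mp h)
            rw [map_mul, map_mul, map_inv, map_zpow, (hu'.zpow_left n).eq, mul_inv_cancel_right]
          exact QuotientGroup.eq.mp (hstep a ha).symm)
      have hcK : c ∈ K := by simpa using K.mul_mem hk (commutator_le_self K hkc')
      refine hu1 ?_
      by_contra hu1'
      have hc1 := hfpf u hu hu1' c hcK (mem_centralizer_iff.mp hc u (mem_zpowers u))
      rw [hc1, mul_one, inv_mem_iff] at hkc'
      exact hk1 hkc'
    · rcases hcase with hc | ⟨hab, -, -⟩ | ⟨hexp, -⟩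
      · exact absurd hc hTI
      · refine Or.inr (Or.inr (Or.inr (Or.inl ((commutator_eq_bot_iff_le_centralizer).mpr ?_).le)))
        intro a ha
        rw [mem_centralizer_iff]
        intro b hb
        have h := congrArg Subtype.val
          (hab.is_comm.comm ⟨(b : G), ⟨b, hb, rfl⟩⟩ ⟨(a : G), ⟨a, ha, rfl⟩⟩)
        exact Subtype.ext h
      · by_cases hp : ∃ p m : ℕ, p.Prime ∧ (⊥ : Subgroup L).relIndex K = p ^ m
        · obtain ⟨p, m, hp, hm⟩ := hp
          refine Or.inr (Or.inr (Or.inr (Or.inr ⟨p, m, hp, hm, ?_⟩)))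
          have hm0 : m ≠ 0 := by
            rintro rfl
            rw [relIndex_bot_left, pow_zero, card_eq_one] at hm
            exact hK1 hm
          have hd := hexp p hp (hcardFH.symm ▸ by
            rw [← relIndex_bot_left K, hm]; exact dvd_pow_self p hm0)
          have hfp : Base.IsFPF U K := ⟨by rw [normalizer_eq_top]; exact le_top,
            fun a ha ha1 => (eq_bot_iff_forall _).mpr fun v hv => hfpf a ha ha1 v hv.1
              (mem_centralizer_singleton_iff.mp hv.2).symm⟩
          rw [hUc.symm.index_eq_card, ← exponent_eq_card_of_fpf hfp hK1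
            (hoddL.of_dvd_nat (card_subgroup_dvd_card U)),
            Monoid.exponent_eq_of_mulEquiv hUc.symm.QuotientMulEquiv.symm]
          exact hd
        · exact Or.inr (Or.inr (Or.inl hp))

end CfsgLib.FT
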