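import Cfsg.Agent.Lib.FT.BG16.Discharge

/-!
When the Type I of the local analysis and the frozen one give the same sets.
-/

set_option autoImplicit false

universe u

open Cfsg

namespace CfsgLib.FT

variable {G : Type u} [Group G] [Finite G] {M : Subgroup G}

/-- The frozen Type I implies that of the local analysis. -/
theorem isOfTypeI_of_frozen (hG : IsMinSimpleOddOrder G) (hM : IsCoatom M)
    (h : Cfsg.IsOfTypeI M) : IsOfTypeI M := by
  obtain ⟨K, U, hD⟩ := BG15.exists_decomposition BG15.upstream hG hM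
  refine (BG16.isOfTypeI_iff BG15.upstream hG hM hD).2 ?_
  have hK : K = ⊥ := by
    by_contra hK1
    obtain ⟨U₀, hP⟩ := BG16.exists_isTypePWith BG15.upstream hG hM hD hK1
    exact BG16.not_typeF_of_typeP hP h.1
  exact ⟨hK, fun e => BG15.K_ne_bot_of_U_bot BG15.upstream hG hM hD e hK⟩

theorem typeA_congr (h : Cfsg.IsOfTypeI M ↔ IsOfTypeI M) : Cfsg.typeA M = typeA M := by
  unfold Cfsg.typeA typeA
  by_cases h' : Cfsg.IsOfTypeI M
  · rw [if_pos h', if_pos (h.1 h')]
  · rw [if_neg h', if_neg (fun h'' => h' (h.2 h''))]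

theorem typeA0_congr (h : Cfsg.IsOfTypeI M ↔ IsOfTypeI M) : Cfsg.typeA0 M = typeA0 M := by
  unfold Cfsg.typeA0 typeA0
  rw [typeA_congr h, h]

theorem isOfTypeI_agree_of_typeP {W₁ U W₂ : Subgroup G} (hP : IsTypePWith M W₁ U W₂) :
    Cfsg.IsOfTypeI M ↔ IsOfTypeI M :=
  iff_of_false (fun h => BG16.not_typeF_of_typeP hP h.1) (fun h => BG16.not_typeF_of_typeP hP h.1)

end CfsgLib.FT
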